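import Mathlib

/-!
# Groups generated by a class of subgroups of prime order: generalities
-/

set_option autoImplicit false

namespace Cfsg.Agent.Lib.PairOdd

variable {G : Type*} [Group G]

/-! ### Conjugates of subgroups -/

/-- The conjugate `g H g⁻¹`. -/
def cj (g : G) (H : Subgroup G) : Subgroup G := H.map (MulAut.conj g).toMonoidHom

theorem mem_cj {g x : G} {H : Subgroup G} : x ∈ cj g H ↔ g⁻¹ * x * g ∈ H := by
  constructor
  · rintro ⟨y, hy, rfl⟩
    simpa [mul_assoc] using hy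
  · intro h
    exact ⟨_, h, by simp [mul_assoc]⟩

theorem conj_mem_cj {g x : G} {H : Subgroup G} (h : x ∈ H) : g * x * g⁻¹ ∈ cj g H :=
  ⟨x, h, by simp⟩

@[simp] theorem cj_one (H : Subgroup G) : cj (1 : G) H = H := by
  ext x; simp [mem_cj]

theorem cj_mul (g h : G) (H : Subgroup G) : cj (g * h) H = cj g (cj h H) := by
  ext x; simp [mem_cj, mul_assoc]

theorem cj_inv_cj (g : G) (H : Subgroup G) : cj g⁻¹ (cj g H) = H := by
  rw [← cj_mul, inv_mul_cancel, cj_one]

theorem cj_cj_inv (g : G) (H : Subgroup G) : cj g (cj g⁻¹ H) = H := by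
  rw [← cj_mul, mul_inv_cancel, cj_one]

theorem cj_mono {g : G} {H K : Subgroup G} (h : H ≤ K) : cj g H ≤ cj g K :=
  Subgroup.map_mono h

theorem cj_le_iff {g : G} {H K : Subgroup G} : cj g H ≤ K ↔ H ≤ cj g⁻¹ K := by
  constructor
  · intro h; simpa [cj_inv_cj] using cj_mono (g := g⁻¹) h
  · intro h; simpa [cj_cj_inv] using cj_mono (g := g) h

theorem cj_sup (g : G) (H K : Subgroup G) : cj g (H ⊔ K) = cj g H ⊔ cj g K :=
  Subgroup.map_sup _ _ _

theorem card_cj (g : G) (H : Subgroup G) : Nat.card (cj g H) = Nat.card H :=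
  Subgroup.card_map_of_injective (MulAut.conj g).injective

theorem cj_commutator (g : G) (H K : Subgroup G) : cj g ⁅H, K⁆ = ⁅cj g H, cj g K⁆ :=
  Subgroup.map_commutator _ _ _

theorem cj_centralizer (g : G) (H : Subgroup G) :
    cj g (Subgroup.centralizer (H : Set G)) = Subgroup.centralizer (cj g H : Set G) := by
  ext x
  simp only [mem_cj, Subgroup.mem_centralizer_iff, SetLike.mem_coe]
  constructor
  · intro h y hy
    have := h _ hy
    calc y * x = g * ((g⁻¹ * y * g) * (g⁻¹ * x * g)) * g⁻¹ := by group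
      _ = g * ((g⁻¹ * x * g) * (g⁻¹ * y * g)) * g⁻¹ := by rw [this]
      _ = x * y := by group
  · intro h y hy
    have := h (g * y * g⁻¹) (by simpa [mul_assoc] using hy)
    calc y * (g⁻¹ * x * g) = g⁻¹ * ((g * y * g⁻¹) * x) * g := by group
      _ = g⁻¹ * (x * (g * y * g⁻¹)) * g := by rw [this]
      _ = g⁻¹ * x * g * y := by group

theorem cj_eq_self_of_commute {g : G} {H : Subgroup G} (h : ∀ x ∈ H, g * x = x * g) :
    cj g H = H := by
  ext x
  rw [mem_cj]
  constructor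
  · intro hx
    have := h _ hx
    have e : g⁻¹ * x * g = x := by
      rw [← mul_assoc, ← mul_assoc, mul_inv_cancel, one_mul] at this
      calc g⁻¹ * x * g = g⁻¹ * x * g * g * g⁻¹ := by group
        _ = x * g * g⁻¹ := by rw [← this]
        _ = x := by group
    exact e ▸ hx
  · intro hx
    have := h x hx
    rwa [mul_assoc, ← this, inv_mul_cancel_left]

theorem cj_eq_self_iff {g : G} {H : Subgroup G} :
    cj g H = H ↔ g ∈ Subgroup.normalizer (H : Set G) := by
  rw [Subgroup.mem_normalizer_iff'']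
  constructor
  · intro h x
    conv_lhs => rw [← h]
    exact mem_cj
  · intro h
    ext x
    rw [mem_cj]
    exact (h x).symm

theorem cj_eq_self_of_mem {g : G} {H : Subgroup G} (h : g ∈ H) : cj g H = H :=
  cj_eq_self_iff.2 (Subgroup.le_normalizer h)

theorem cj_eq_of_le [Finite G] {g : G} {H : Subgroup G} (h : cj g H ≤ H) : cj g H = H :=
  Subgroup.eq_of_le_of_card_ge h (card_cj g H).ge

theorem mem_normalizer_of_conj_mem [Finite G] {g : G} {H : Subgroup G}
    (h : ∀ x ∈ H, g * x * g⁻¹ ∈ H) : g ∈ Subgroup.normalizer (H : Set G) := by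
  refine cj_eq_self_iff.1 (cj_eq_of_le ?_)
  rintro _ ⟨x, hx, rfl⟩
  simpa using h x hx

theorem conj_mem_of_mem_normalizer {g x : G} {H : Subgroup G}
    (hg : g ∈ Subgroup.normalizer (H : Set G)) (hx : x ∈ H) : g * x * g⁻¹ ∈ H :=
  (Subgroup.mem_normalizer_iff.1 hg x).1 hx

theorem conj_mem_of_mem_normalizer' {g x : G} {H : Subgroup G}
    (hg : g ∈ Subgroup.normalizer (H : Set G)) (hx : x ∈ H) : g⁻¹ * x * g ∈ H :=
  (Subgroup.mem_normalizer_iff''.1 hg x).1 hx

/-- The subgroup `⁅K, K⁆ ⊓ C(K)`. -/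
def cK (K : Subgroup G) : Subgroup G := ⁅K, K⁆ ⊓ Subgroup.centralizer (K : Set G)

theorem cj_cK (g : G) (K : Subgroup G) : cj g (cK K) = cK (cj g K) := by
  rw [cK, cK, ← cj_commutator, ← cj_centralizer, cj, cj, cj,
    Subgroup.map_inf _ _ _ (MulAut.conj g).injective]

theorem mem_centralizer_of_commute {K : Subgroup G} {x : G} (h : ∀ k ∈ K, k * x = x * k) :
    x ∈ Subgroup.centralizer (K : Set G) := Subgroup.mem_centralizer_iff.2 h

theorem commute_of_mem_cK {K : Subgroup G} {x k : G} (hx : x ∈ cK K) (hk : k ∈ K) :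
    k * x = x * k := Subgroup.mem_centralizer_iff.1 hx.2 k hk

theorem comm_le_self (K : Subgroup G) : ⁅K, K⁆ ≤ K :=
  Subgroup.commutator_le.2 fun _ hg _ hh =>
    mul_mem (mul_mem (mul_mem hg hh) (inv_mem hg)) (inv_mem hh)

theorem cK_le_self (K : Subgroup G) : cK K ≤ K := inf_le_left.trans (comm_le_self K)

/-! ### Elements of products -/

theorem mem_sup_decomp {N A : Subgroup G} (hA : A ≤ Subgroup.normalizer (N : Set G)) {x : G}
    (hx : x ∈ N ⊔ A) : ∃ n ∈ N, ∃ a ∈ A, x = n * a := by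
  rw [← SetLike.mem_coe, Subgroup.coe_mul_of_right_le_normalizer_left N A hA] at hx
  obtain ⟨n, hn, a, ha, rfl⟩ := hx
  exact ⟨n, hn, a, ha, rfl⟩

theorem inf_sup_eq {N A R : Subgroup G} (hNA : N ⊓ A = ⊥) (hR : R ≤ N)
    (hA : A ≤ Subgroup.normalizer (R : Set G)) : N ⊓ (R ⊔ A) = R := by
  refine le_antisymm ?_ (le_inf hR le_sup_left)
  rintro x ⟨hxN, hx⟩
  obtain ⟨r, hr, a, ha, rfl⟩ := mem_sup_decomp hA hx
  have haN : a ∈ N := by
    have h := mul_mem (inv_mem (hR hr)) (show r * a ∈ N from hxN)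
    rwa [inv_mul_cancel_left] at h
  have ha1 : a = 1 := by
    rw [← Subgroup.mem_bot, ← hNA]; exact ⟨haN, ha⟩
  simpa [ha1] using hr

theorem card_sup_eq {N A : Subgroup G} (hNA : N ⊓ A = ⊥)
    (hA : A ≤ Subgroup.normalizer (N : Set G)) :
    Nat.card (N ⊔ A : Subgroup G) = Nat.card N * Nat.card A := by
  rw [← Nat.card_prod]
  refine (Nat.card_congr (Equiv.ofBijective
    (fun x : N × A => (⟨(x.1 : G) * x.2, mul_mem (Subgroup.mem_sup_left x.1.2)
      (Subgroup.mem_sup_right x.2.2)⟩ : (N ⊔ A : Subgroup G))) ⟨?_, ?_⟩)).symm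
  · rintro ⟨n, a⟩ ⟨m, b⟩ h
    have h' : (n : G) * a = m * b := congrArg Subtype.val h
    have hmem : (m : G)⁻¹ * n ∈ N ⊓ A := by
      refine Subgroup.mem_inf.2 ⟨mul_mem (inv_mem m.2) n.2, ?_⟩
      have : (m : G)⁻¹ * n = (b : G) * (a : G)⁻¹ := by
        rw [eq_mul_inv_iff_mul_eq, mul_assoc, h', inv_mul_cancel_left]
      rw [this]
      exact mul_mem b.2 (inv_mem a.2)
    rw [hNA, Subgroup.mem_bot, inv_mul_eq_one] at hmem
    rw [hmem] at h'
    exact Prod.ext (Subtype.ext hmem.symm) (Subtype.ext (mul_left_cancel h'))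
  · rintro ⟨x, hx⟩
    obtain ⟨n, hn, a, ha, rfl⟩ := mem_sup_decomp hA hx
    exact ⟨(⟨n, hn⟩, ⟨a, ha⟩), rfl⟩

/-! ### Fixed points -/

theorem exists_fixed_of_iterate {α : Type*} [Finite α] {p n : ℕ} (hp : p.Prime) (f : α → α)
    (hf : f^[p ^ n] = id) (h : ¬ p ∣ Nat.card α) : ∃ a, f a = a := by
  classical
  have := Fintype.ofFinite α
  have := Fact.mk hp
  have hb : Function.Bijective f := by
    obtain ⟨k, hk⟩ : ∃ k, p ^ n = k + 1 := ⟨p ^ n - 1, by have := pow_pos hp.pos n; omega⟩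
    rw [hk] at hf
    have h1 : Function.Bijective (f^[k] ∘ f) := by
      rw [← Function.iterate_succ]; rw [hf]; exact Function.bijective_id
    exact Finite.injective_iff_bijective.1 h1.1.of_comp
  have hσ : (Equiv.ofBijective f hb) ^ p ^ n = 1 := by
    ext a
    rw [Equiv.Perm.coe_pow]
    exact congrFun hf a
  rw [Nat.card_eq_fintype_card] at h
  exact Equiv.Perm.exists_fixed_point_of_prime h hσ

theorem exists_fixed_of_iterate' {α : Type*} [Finite α] {p n : ℕ} (hp : p.Prime) (f : α → α)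
    (hf : f^[p ^ n] = id) (h : p ∣ Nat.card α) {a : α} (ha : f a = a) : ∃ b, f b = b ∧ b ≠ a := by
  classical
  have := Fintype.ofFinite α
  have := Fact.mk hp
  have hb : Function.Bijective f := by
    obtain ⟨k, hk⟩ : ∃ k, p ^ n = k + 1 := ⟨p ^ n - 1, by have := pow_pos hp.pos n; omega⟩
    rw [hk] at hf
    have h1 : Function.Bijective (f^[k] ∘ f) := by
      rw [← Function.iterate_succ]; rw [hf]; exact Function.bijective_id
    exact Finite.injective_iff_bijective.1 h1.1.of_comp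
  have hσ : (Equiv.ofBijective f hb) ^ p ^ n = 1 := by
    ext a
    rw [Equiv.Perm.coe_pow]
    exact congrFun hf a
  rw [Nat.card_eq_fintype_card] at h
  exact Equiv.Perm.exists_fixed_point_of_prime' h hσ ha

theorem exists_fixed_of_invol {α : Type*} [Finite α] (f : α → α) (hf : ∀ a, f (f a) = a)
    (h : Odd (Nat.card α)) : ∃ a, f a = a :=
  exists_fixed_of_iterate (n := 1) Nat.prime_two f (funext hf)
    (fun hd => Nat.not_even_iff_odd.2 h (even_iff_two_dvd.2 hd))

theorem conj_iterate (a : G) (k : ℕ) (x : G) :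
    (fun y => a * y * a⁻¹)^[k] x = a ^ k * x * (a ^ k)⁻¹ := by
  induction k with
  | zero => simp
  | succ k ih => rw [Function.iterate_succ_apply', ih, pow_succ']; group

/-- A coset normalised by an element of prime order contains an element commuting with it. -/
theorem exists_fixed_lift [Finite G] {p : ℕ} (hp : p.Prime) {a : G} (ha : a ^ p = 1)
    {M : Subgroup G} (hM : ¬ p ∣ Nat.card M) (haM : a ∈ Subgroup.normalizer (M : Set G)) {r : G}
    (hr : r⁻¹ * (a * r * a⁻¹) ∈ M) : ∃ m ∈ M, a * (r * m) = r * m * a := by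
  let f : M → M := fun m => ⟨r⁻¹ * (a * r * a⁻¹) * (a * m * a⁻¹),
    mul_mem hr (conj_mem_of_mem_normalizer haM m.2)⟩
  have hkey : ∀ (k : ℕ) (m : M), r * (f^[k] m : M) = a ^ k * (r * m) * (a ^ k)⁻¹ := by
    intro k
    induction k with
    | zero => simp
    | succ k ih =>
      intro m
      rw [Function.iterate_succ_apply, ih (f m), pow_succ]
      show a ^ k * (r * (r⁻¹ * (a * r * a⁻¹) * (a * m * a⁻¹))) * (a ^ k)⁻¹ = _
      group
  have hf : f^[p ^ 1] = id := by
    funext m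
    refine Subtype.ext (mul_left_cancel (a := r) ?_)
    rw [pow_one, hkey, ha, one_mul, inv_one, mul_one]
    rfl
  obtain ⟨m, hm⟩ := exists_fixed_of_iterate hp f hf hM
  refine ⟨m, m.2, ?_⟩
  have h1 := congrArg Subtype.val hm
  change r⁻¹ * (a * r * a⁻¹) * (a * m * a⁻¹) = m at h1
  calc a * (r * m) = r * (r⁻¹ * (a * r * a⁻¹) * (a * m * a⁻¹)) * a := by group
    _ = r * m * a := by rw [h1]

/-- Elements of prime order in a coprime semidirect product are conjugate into the complement. -/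
theorem exists_cj_eq [Finite G] {p : ℕ} (hp : p.Prime) {N A E : Subgroup G}
    (hA : A ≤ Subgroup.normalizer (N : Set G)) (hAc : Nat.card A = p) (hEc : Nat.card E = p)
    (hN : ¬ p ∣ Nat.card N) (hE : E ≤ N ⊔ A) : ∃ n ∈ N, E = cj n A := by
  have := Fact.mk hp
  obtain ⟨e, he, he1⟩ := E.ne_bot_iff_exists_ne_one.1 (fun h => by
    rw [h, Subgroup.card_bot] at hEc; exact hp.one_lt.ne hEc) |> fun ⟨⟨e, he⟩, h⟩ =>
      (⟨e, he, fun h' => h (Subtype.ext h')⟩ : ∃ e, e ∈ E ∧ e ≠ 1)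
  obtain ⟨n₀, hn₀, a, ha, rfl⟩ := mem_sup_decomp hA (hE he)
  have hpow : ∀ (H : Subgroup G), Nat.card H = p → ∀ x ∈ H, x ^ p = 1 := fun H hH x hx => by
    have := pow_card_eq_one' (G := H) (x := ⟨x, hx⟩)
    rw [hH] at this
    exact congrArg Subtype.val this
  have hep := hpow E hEc _ he
  have hap := hpow A hAc _ ha
  let f : N → N := fun x => ⟨n₀ * (a * x * a⁻¹),
    mul_mem hn₀ (conj_mem_of_mem_normalizer (hA ha) x.2)⟩
  have hkey : ∀ (k : ℕ) (x : N), ((f^[k] x : N) : G) = (n₀ * a) ^ k * x * (a ^ k)⁻¹ := by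
    intro k
    induction k with
    | zero => simp
    | succ k ih =>
      intro x
      rw [Function.iterate_succ_apply, ih (f x), pow_succ, pow_succ]
      show (n₀ * a) ^ k * (n₀ * (a * x * a⁻¹)) * (a ^ k)⁻¹ = _
      group
  have hf : f^[p ^ 1] = id := by
    funext x
    refine Subtype.ext ?_
    rw [pow_one, hkey, hep, hap, one_mul, inv_one, mul_one]
    rfl
  obtain ⟨x, hx⟩ := exists_fixed_of_iterate hp f hf hN
  have h1 := congrArg Subtype.val hx
  change n₀ * (a * x * a⁻¹) = x at h1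
  have h2 : n₀ * a = x * a * (x : G)⁻¹ := by
    calc n₀ * a = n₀ * (a * x * a⁻¹) * a * (x : G)⁻¹ := by group
      _ = _ := by rw [h1]
  refine ⟨x, x.2, ?_⟩
  have hmem : n₀ * a ∈ cj (x : G) A := h2 ▸ conj_mem_cj ha
  have hzE : Subgroup.zpowers (n₀ * a) = E :=
    Subgroup.eq_of_le_of_card_ge (Subgroup.zpowers_le.2 he) (by
      rw [hEc, Nat.card_zpowers]
      exact Nat.le_of_dvd (orderOf_pos _) (orderOf_eq_prime hep he1 ▸ dvd_rfl))
  rw [← hzE]
  refine Subgroup.eq_of_le_of_card_ge (Subgroup.zpowers_le.2 hmem) ?_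
  rw [card_cj, hAc, Nat.card_zpowers, orderOf_eq_prime hep he1]

/-- A nontrivial normal subgroup of a finite group of prime power order meets the centre. -/
theorem center_meets {P : Type*} [Group P] [Finite P] {q : ℕ} (hq : q.Prime) (hP : IsPGroup q P)
    (N : Subgroup P) [N.Normal] (hN : N ≠ ⊥) : ∃ z ∈ N, z ≠ 1 ∧ z ∈ Subgroup.center P := by
  have := Fact.mk hq
  let _ : MulAction P N := MulAction.compHom N (MulAut.conjNormal (H := N))
  have hsmul : ∀ (g : P) (x : N), ((g • x : N) : P) = g * x * g⁻¹ := fun g x =>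
    MulAut.conjNormal_apply g x
  have hd : q ∣ Nat.card N := by
    obtain ⟨k, hk0, hk⟩ := (hP.to_subgroup N).nontrivial_iff_card.1
      ((Subgroup.nontrivial_iff_ne_bot N).2 hN)
    rw [hk]
    exact dvd_pow_self q hk0.ne'
  have h1 : (1 : N) ∈ MulAction.fixedPoints P N := fun g => Subtype.ext (by simp [hsmul])
  obtain ⟨b, hb, hb1⟩ := hP.exists_fixed_point_of_prime_dvd_card_of_fixed_point N hd h1
  refine ⟨b, b.2, fun h => hb1 (Subtype.ext h.symm), Subgroup.mem_center_iff.2 fun g => ?_⟩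
  have := congrArg Subtype.val (hb g)
  rw [hsmul] at this
  exact mul_inv_eq_iff_eq_mul.1 this

/-- The elements of `N` fixed by `H` modulo `M`. -/
def fixMod (N M H : Subgroup G) : Subgroup G where
  carrier := {n | n ∈ N ∧ n ∈ Subgroup.normalizer (M : Set G) ∧
    ∀ h ∈ H, n⁻¹ * (h * n * h⁻¹) ∈ M}
  one_mem' := ⟨one_mem _, one_mem _, fun h _ => by simp⟩
  mul_mem' {n m} hn hm := ⟨mul_mem hn.1 hm.1, mul_mem hn.2.1 hm.2.1, fun h hh => by
    have e : (n * m)⁻¹ * (h * (n * m) * h⁻¹) =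
        (m⁻¹ * (n⁻¹ * (h * n * h⁻¹)) * m) * (m⁻¹ * (h * m * h⁻¹)) := by group
    rw [e]
    exact mul_mem (conj_mem_of_mem_normalizer' hm.2.1 (hn.2.2 h hh)) (hm.2.2 h hh)⟩
  inv_mem' {n} hn := ⟨inv_mem hn.1, inv_mem hn.2.1, fun h hh => by
    have e : n⁻¹⁻¹ * (h * n⁻¹ * h⁻¹) = n * (n⁻¹ * (h * n * h⁻¹))⁻¹ * n⁻¹ := by group
    rw [e]
    exact conj_mem_of_mem_normalizer hn.2.1 (inv_mem (hn.2.2 h hh))⟩

theorem mem_fixMod {N M H : Subgroup G} {n : G} :
    n ∈ fixMod N M H ↔ n ∈ N ∧ n ∈ Subgroup.normalizer (M : Set G) ∧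
      ∀ h ∈ H, n⁻¹ * (h * n * h⁻¹) ∈ M := Iff.rfl

theorem fixMod_le {N M H : Subgroup G} : fixMod N M H ≤ N := fun _ h => h.1

theorem le_fixMod {N M H : Subgroup G} (hMN : M ≤ N)
    (hH : H ≤ Subgroup.normalizer (M : Set G)) : M ≤ fixMod N M H := fun n hn =>
  ⟨hMN hn, Subgroup.le_normalizer hn, fun h hh =>
    mul_mem (inv_mem hn) (conj_mem_of_mem_normalizer (hH hh) hn)⟩

theorem fixMod_conj_mem {N M H : Subgroup G} {g n : G} (hN : g ∈ Subgroup.normalizer (N : Set G))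
    (hM : g ∈ Subgroup.normalizer (M : Set G)) (hH : g ∈ Subgroup.normalizer (H : Set G))
    (hn : n ∈ fixMod N M H) : g * n * g⁻¹ ∈ fixMod N M H := by
  refine ⟨conj_mem_of_mem_normalizer hN hn.1,
    mul_mem (mul_mem hM hn.2.1) (inv_mem hM), fun h hh => ?_⟩
  have h1 := conj_mem_of_mem_normalizer hM (hn.2.2 _ (conj_mem_of_mem_normalizer' hH hh))
  refine Eq.mp ?_ h1
  congr 1
  group

theorem exists_fixMod [Finite G] {q : ℕ} (hq : q.Prime) {N M H : Subgroup G}
    (hN : IsPGroup q N) (hH : IsPGroup q H) (hMN : M ≤ N)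
    (hNM : N ≤ Subgroup.normalizer (M : Set G)) (hHN : H ≤ Subgroup.normalizer (N : Set G))
    (hHM : H ≤ Subgroup.normalizer (M : Set G)) (hne : ¬ N ≤ M) :
    ∃ n ∈ fixMod N M H, n ∉ M := by
  have := Fact.mk hq
  set S : Subgroup G := N ⊔ H with hS
  have hSM : S ≤ Subgroup.normalizer (M : Set G) := sup_le hNM hHM
  have hSN : S ≤ Subgroup.normalizer (N : Set G) := sup_le Subgroup.le_normalizer hHN
  have hSq : IsPGroup q S := hN.to_sup_of_normal_left' hH hHN
  have : (M.subgroupOf S).Normal :=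
    (Subgroup.normal_subgroupOf_iff_le_normalizer (hMN.trans le_sup_left)).2 hSM
  have : (N.subgroupOf S).Normal :=
    (Subgroup.normal_subgroupOf_iff_le_normalizer le_sup_left).2 hSN
  let π := QuotientGroup.mk' (M.subgroupOf S)
  have : ((N.subgroupOf S).map π).Normal :=
    Subgroup.Normal.map inferInstance _ (QuotientGroup.mk'_surjective _)
  have hb : (N.subgroupOf S).map π ≠ ⊥ := by
    rw [Ne, Subgroup.map_eq_bot_iff, QuotientGroup.ker_mk']
    intro hle
    exact hne fun x hx => hle (x := ⟨x, le_sup_left (b := H) hx⟩) hx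
  obtain ⟨z, hz, hz1, hzc⟩ := center_meets hq (hSq.to_quotient (M.subgroupOf S)) _ hb
  obtain ⟨n, hn, rfl⟩ := hz
  have hnM : (n : G) ∉ M := fun h => hz1 ((QuotientGroup.eq_one_iff n).2 h)
  refine ⟨n, ⟨hn, hNM hn, fun h hh => ?_⟩, hnM⟩
  have hc := Subgroup.mem_center_iff.1 hzc (π ⟨h, le_sup_right (a := N) hh⟩)
  rw [← map_mul, ← map_mul, eq_comm] at hc
  have h2 := QuotientGroup.eq.1 hc
  have h3 : ((n : G) * h)⁻¹ * (h * n) ∈ M := h2
  have h4 : ((n : G) * h)⁻¹ * (h * n) = h⁻¹ * ((n : G)⁻¹ * (h * n * h⁻¹)) * h := by group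
  rw [h4] at h3
  have h5 := conj_mem_of_mem_normalizer (hHM hh) h3
  refine Eq.mp ?_ h5
  congr 1
  group

/-- The number of conjugates of `A` by elements of `K` divides the order of `K`. -/
theorem card_orbit_dvd [Finite G] (K A : Subgroup G) :
    Nat.card {B : Subgroup G // ∃ k ∈ K, B = cj k A} ∣ Nat.card K := by
  let _ : MulAction K (Subgroup G) :=
    { smul := fun k B => cj (k : G) B
      one_smul := cj_one
      mul_smul := fun k l B => cj_mul (k : G) l B }
  have e : {B : Subgroup G // ∃ k ∈ K, B = cj k A} ≃ MulAction.orbit K A :=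
    Equiv.subtypeEquivRight fun B => ⟨fun ⟨k, hk, h⟩ => ⟨⟨k, hk⟩, h.symm⟩,
      fun ⟨⟨k, hk⟩, h⟩ => ⟨k, hk, h.symm⟩⟩
  rw [Nat.card_congr (e.trans (MulAction.orbitEquivQuotientStabilizer K A))]
  exact Subgroup.card_quotient_dvd_card _

/-- If `u` acts without fixed points on `N / Z`, every element of `u N` is conjugate into
`u Z`. -/
theorem exists_conj_coset [Finite G] {N Z : Subgroup G} {u : G} (hZN : Z ≤ N)
    (hu : u ∈ Subgroup.normalizer (N : Set G))
    (hc : ∀ c ∈ Z, ∀ r ∈ N, c * r = r * c)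
    (hfpf : ∀ d ∈ N, d⁻¹ * (u⁻¹ * d * u) ∈ Z → d ∈ Z) {x : G} (hx : x ∈ N) :
    ∃ r ∈ N, ∃ c ∈ Z, r⁻¹ * (u * c) * r = u * x := by
  let Z' := Z.subgroupOf N
  have hmem : ∀ (r : N) (c : Z'),
      u⁻¹ * ((r : G)⁻¹ * (u * ((c : N) : G)) * r) ∈ N := fun r c => by
    have e : u⁻¹ * ((r : G)⁻¹ * (u * ((c : N) : G)) * r) =
        (u⁻¹ * (r : G)⁻¹ * u) * (c : N) * r := by group
    rw [e]
    exact mul_mem (mul_mem (conj_mem_of_mem_normalizer' hu (inv_mem r.2)) (c : N).2) r.2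
  let f : (N ⧸ Z') × Z' → N := fun y => ⟨_, hmem y.1.out y.2⟩
  have hf : Function.Injective f := by
    rintro ⟨a, c⟩ ⟨b, d⟩ h
    have h1 : (a.out : G)⁻¹ * (u * ((c : N) : G)) * a.out =
        (b.out : G)⁻¹ * (u * ((d : N) : G)) * b.out :=
      mul_left_cancel (congrArg Subtype.val h)
    set r : G := ((a.out : N) : G)
    set r' : G := ((b.out : N) : G)
    set e := r' * r⁻¹ with he
    have heN : e ∈ N := mul_mem b.out.2 (inv_mem a.out.2)
    have h2 : u⁻¹ * e * u = ((d : N) : G) * e * ((c : N) : G)⁻¹ := by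
      calc u⁻¹ * e * u = u⁻¹ * r' * (r⁻¹ * (u * ((c : N) : G)) * r) * r⁻¹ * ((c : N) : G)⁻¹ := by
            rw [he]; group
        _ = u⁻¹ * r' * (r'⁻¹ * (u * ((d : N) : G)) * r') * r⁻¹ * ((c : N) : G)⁻¹ := by rw [h1]
        _ = ((d : N) : G) * e * ((c : N) : G)⁻¹ := by rw [he]; group
    have heZ : e ∈ Z := by
      refine hfpf e heN ?_
      have hd := hc ((d : N) : G) d.2 e heN
      rw [h2, hd, mul_assoc e, inv_mul_cancel_left]
      exact mul_mem d.2 (inv_mem c.2)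
    have hab : a = b := by
      rw [← a.out_eq', ← b.out_eq', QuotientGroup.eq]
      show r⁻¹ * r' ∈ Z
      have : r' = r * e := by rw [← hc e heZ r a.out.2, he]; group
      rwa [this, inv_mul_cancel_left]
    subst hab
    have : ((c : N) : G) = ((d : N) : G) := mul_left_cancel (mul_left_cancel (mul_right_cancel h1))
    exact Prod.ext rfl (Subtype.ext (Subtype.ext this))
  have hcard : Nat.card ((N ⧸ Z') × Z') = Nat.card N := by
    rw [Nat.card_prod, ← Subgroup.card_eq_card_quotient_mul_card_subgroup]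
  obtain ⟨y, hy⟩ := ((Nat.bijective_iff_injective_and_card f).2 ⟨hf, hcard⟩).2 ⟨x, hx⟩
  refine ⟨y.1.out, y.1.out.2, _, y.2.2, ?_⟩
  have := congrArg (fun z : N => u * (z : G)) hy
  simp only [f, mul_inv_cancel_left] at this
  exact this

end Cfsg.Agent.Lib.PairOdd
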