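import Cfsg.Agent.Lib.PairOdd.FromF

/-!
# Odd groups all of whose lines have commutative kernel
-/

set_option autoImplicit false

namespace Cfsg.Agent.Lib.PairOdd

open scoped commutatorElement

universe u

theorem alt1_fixed_aux : ∀ (m : ℕ) (G : Type u) [Group G] [Finite G] (p q : ℕ)
    (D : Set (Subgroup G)), Nat.card G = m → Geo p q D → Alt1 D → sSup D = ⊤ → Odd (Nat.card G) →
    ∀ A ∈ D, ⁅(⊤ : Subgroup G), ⊤⁆ ⊓ Subgroup.centralizer (A : Set G) = ⊥ := by
  intro m
  induction m using Nat.strong_induction_on with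
  | _ m ih =>
    intro G _ _ p q D hm h h1 hD hodd A hA
    set N : Subgroup G := ⁅(⊤ : Subgroup G), ⊤⁆ with hN
    have hK : mgen D (⊤ : Subgroup G) = ⊤ := by simp [mgen, hD]
    have hKodd : Odd (Nat.card (⊤ : Subgroup G)) := by rwa [Subgroup.card_top]
    have hNq : IsPGroup q N := h.str hK hKodd
    have hgen : N ⊔ A = ⊤ := h.eq_der_sup hK hA le_top
    by_contra hne
    obtain ⟨a, hAa, -, hap⟩ := h.exists_gen hA
    have haA : a ∈ A := hAa ▸ Subgroup.mem_zpowers a
    have hNne : N ≠ ⊥ := fun e => hne (by rw [e, bot_inf_eq])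
    have hNnotC : ¬ N ≤ Subgroup.centralizer (A : Set G) := by
      intro hle
      refine hNne ?_
      rw [hN, Subgroup.commutator_eq_bot_iff_le_centralizer]
      have hAA : A ≤ Subgroup.centralizer (A : Set G) := by
        intro x hx
        refine mem_centralizer_of_commute fun y hy => ?_
        rw [hAa] at hx hy
        obtain ⟨i, rfl⟩ := Subgroup.mem_zpowers_iff.1 hx
        obtain ⟨j, rfl⟩ := Subgroup.mem_zpowers_iff.1 hy
        rw [← zpow_add, ← zpow_add, add_comm]
      have htopA : (⊤ : Subgroup G) ≤ Subgroup.centralizer (A : Set G) :=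
        hgen ▸ sup_le hle hAA
      -- every member is centralised
      have hall : ∀ E ∈ D, E = A := fun E hE => by
        by_contra hEA
        exact h.nonnorm E hE A hA hEA
          ((le_top.trans htopA).trans (Subgroup.centralizer_le_normalizer _))
      have hAtop : A = ⊤ := eq_top_iff.2 (hD ▸ sSup_le fun E hE => (hall E hE).le)
      rw [← hAtop]; exact hAA
    -- the centre of `N`
    set ZN := N ⊓ Subgroup.centralizer (N : Set G) with hZN
    have haN : a ∈ Subgroup.normalizer (N : Set G) :=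
      Geo.le_normalizer_der (⊤ : Subgroup G) (Subgroup.mem_top a)
    have hZNnorm : ∀ g : G, g ∈ Subgroup.normalizer (ZN : Set G) := fun g => by
      refine cj_eq_self_iff.1 ?_
      have e : cj g N = N := cj_eq_self_iff.2 (Geo.le_normalizer_der _ (Subgroup.mem_top g))
      rw [hZN, cj, Subgroup.map_inf _ _ _ (MulAut.conj g).injective, ← cj, ← cj, cj_centralizer, e]
    have hZc : ∀ z ∈ ZN, ∀ n ∈ N, n * z = z * n := fun z hz n hn =>
      Subgroup.mem_centralizer_iff.1 hz.2 n hn
    have hZNne : ZN ≠ ⊥ := by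
      have : Nontrivial N := (Subgroup.nontrivial_iff_ne_bot N).2 hNne
      obtain ⟨z, -, hz1, hz⟩ := center_meets h.hq hNq (⊤ : Subgroup N) (by simp)
      intro e
      have : (z : G) ∈ ZN := Subgroup.mem_inf.2 ⟨z.2, mem_centralizer_of_commute fun n hn =>
        congrArg Subtype.val (Subgroup.mem_center_iff.1 hz ⟨n, hn⟩)⟩
      rw [e, Subgroup.mem_bot] at this
      exact hz1 (Subtype.ext this)
    let R : Subgroup G :=
      { carrier := {y | ∃ w ∈ ZN, y = w⁻¹ * (a * w * a⁻¹)}
        one_mem' := ⟨1, one_mem _, by group⟩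
        mul_mem' := by
          rintro _ _ ⟨v, hv, rfl⟩ ⟨w, hw, rfl⟩
          refine ⟨v * w, mul_mem hv hw, ?_⟩
          have hk : v⁻¹ * (a * v * a⁻¹) ∈ N :=
            mul_mem (inv_mem hv.1) (conj_mem_of_mem_normalizer haN hv.1)
          calc v⁻¹ * (a * v * a⁻¹) * (w⁻¹ * (a * w * a⁻¹))
              = (v⁻¹ * (a * v * a⁻¹)) * w⁻¹ * (a * w * a⁻¹) := by group
            _ = w⁻¹ * (v⁻¹ * (a * v * a⁻¹)) * (a * w * a⁻¹) := by
                rw [hZc _ (inv_mem hw) _ hk]
            _ = (v * w)⁻¹ * (a * (v * w) * a⁻¹) := by group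
        inv_mem' := by
          rintro _ ⟨v, hv, rfl⟩
          refine ⟨v⁻¹, inv_mem hv, ?_⟩
          have hk : (a * v * a⁻¹)⁻¹ ∈ N := inv_mem (conj_mem_of_mem_normalizer haN hv.1)
          calc (v⁻¹ * (a * v * a⁻¹))⁻¹ = (a * v * a⁻¹)⁻¹ * v := by group
            _ = v * (a * v * a⁻¹)⁻¹ := hZc _ hv _ hk
            _ = v⁻¹⁻¹ * (a * v⁻¹ * a⁻¹) := by group }
    have hRZ : R ≤ ZN := by
      rintro _ ⟨w, hw, rfl⟩
      exact mul_mem (inv_mem hw) (conj_mem_of_mem_normalizer (hZNnorm a) hw)
    have hRq : IsPGroup q R := hNq.to_le (hRZ.trans inf_le_left)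
    have hNR : N ≤ Subgroup.normalizer (R : Set G) := fun n hn => by
      refine cj_eq_self_iff.1 (cj_eq_self_of_commute fun x hx => ?_)
      exact hZc _ (hRZ hx) n hn
    have haR : a ∈ Subgroup.normalizer (R : Set G) := by
      refine mem_normalizer_of_conj_mem ?_
      rintro _ ⟨w, hw, rfl⟩
      exact ⟨a * w * a⁻¹, conj_mem_of_mem_normalizer (hZNnorm a) hw, by group⟩
    have hRn : R.Normal := Subgroup.normalizer_eq_top_iff.1 (eq_top_iff.2
      (hgen ▸ sup_le hNR (hAa ▸ Subgroup.zpowers_le.2 haR)))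
    have hfixR : ∀ k ∈ R, a * k * a⁻¹ = k → k = 1 := by
      rintro _ ⟨w, hw, rfl⟩ hk
      exact eq_one_of_shift h.hp h.hq h.hpq hNq (w := w) (hRZ ⟨w, hw, rfl⟩).1 hap hk
        (by rw [mul_inv_cancel_left])
    have hquot : ∀ (Y : Subgroup G) [Y.Normal], Y ≠ ⊥ → ¬ A ≤ Y →
        N ⊓ Subgroup.centralizer (A : Set G) ≤ Y := by
      intro Y _ hY hAY z hz
      have hlt : Nat.card (G ⧸ Y) < m := by
        rw [← hm, Subgroup.card_eq_card_quotient_mul_card_subgroup Y]
        exact lt_mul_of_one_lt_right Nat.card_pos (Subgroup.one_lt_card_iff_ne_bot Y |>.2 hY)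
      have hA0 : A.map (QuotientGroup.mk' Y) ≠ ⊥ := fun e => hAY
        (((Subgroup.map_eq_bot_iff _).1 e).trans (QuotientGroup.ker_mk' Y).le)
      have IH := ih _ hlt (G ⧸ Y) p q _ rfl (h.img (QuotientGroup.mk'_surjective Y))
        (h1.img h _) (sSup_imgD (QuotientGroup.mk'_surjective Y) hD)
        (hodd.of_dvd_nat (Subgroup.card_quotient_dvd_card Y)) _ ⟨hA0, A, hA, rfl⟩
      have hmem : QuotientGroup.mk' Y z ∈
          (⊥ : Subgroup (G ⧸ Y)) := by
        rw [← IH]
        refine Subgroup.mem_inf.2 ⟨?_, mem_centralizer_map _ hz.2⟩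
        rw [← Subgroup.map_top_of_surjective _ (QuotientGroup.mk'_surjective Y),
          ← Subgroup.map_commutator]
        exact Subgroup.mem_map_of_mem _ hz.1
      exact (QuotientGroup.eq_one_iff z).1 (Subgroup.mem_bot.1 hmem)
    have hAq : ∀ Y : Subgroup G, IsPGroup q Y → ¬ A ≤ Y := fun Y hY hle =>
      h.ne_bot hA (le_bot_iff.1 (h.inf_member hA hY ▸ le_inf hle le_rfl))
    by_cases hR : R = ⊥
    swap
    · refine hne (eq_bot_iff.2 fun z hz => Subgroup.mem_bot.2 ?_)
      refine hfixR z (hquot R hR (hAq R hRq) hz) ?_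
      rw [Subgroup.mem_centralizer_iff.1 hz.2 a haA, mul_inv_cancel_right]
    -- the centre of `N` is central
    have hZfix : ∀ w ∈ ZN, a * w * a⁻¹ = w := fun w hw => by
      have h0 : w⁻¹ * (a * w * a⁻¹) ∈ R := ⟨w, hw, rfl⟩
      rw [hR, Subgroup.mem_bot, inv_mul_eq_one] at h0
      exact h0.symm
    have hZcen : ∀ w ∈ ZN, ∀ g : G, g * w = w * g := by
      intro w hw g
      have hle : N ⊔ A ≤ Subgroup.centralizer ({w} : Set G) := sup_le
        (fun n hn => Subgroup.mem_centralizer_singleton_iff.2 (hZc w hw n hn))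
        (hAa ▸ Subgroup.zpowers_le.2 (Subgroup.mem_centralizer_singleton_iff.2
          (mul_inv_eq_iff_eq_mul.1 (hZfix w hw))))
      exact Subgroup.mem_centralizer_singleton_iff.1 (hle (hgen ▸ Subgroup.mem_top g))
    have hZn : ZN.Normal := Subgroup.normalizer_eq_top_iff.1 (eq_top_iff.2 fun g _ => hZNnorm g)
    have hfix : ∀ c ∈ N, a * c = c * a → c ∈ ZN := fun c hc hac =>
      hquot ZN hZNne (hAq _ (hNq.to_le inf_le_left)) ⟨hc, mem_centralizer_of_commute fun b hb => by
        rw [hAa] at hb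
        obtain ⟨i, rfl⟩ := Subgroup.mem_zpowers_iff.1 hb
        exact ((show Commute a c from hac).zpow_left i).eq⟩
    by_cases hNZ : N ≤ ZN
    · refine hNnotC fun n hn => mem_centralizer_of_commute fun b hb => ?_
      exact hZcen n (hNZ hn) b
    have hNnorm : N ≤ Subgroup.normalizer (ZN : Set G) := fun n _ => hZNnorm n
    obtain ⟨r0, hr0, hr0Z⟩ := exists_fixMod h.hq hNq hNq (inf_le_left : ZN ≤ N) hNnorm
      Subgroup.le_normalizer hNnorm hNZ
    -- every element commutes with its image
    have hpow : (a⁻¹) ^ p = 1 := by rw [inv_pow, hap, inv_one]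
    have hNnd : ¬ p ∣ Nat.card ZN := h.not_dvd_card (hNq.to_le inf_le_left)
    have hcomm : ∀ n ∈ N, n * (a * n * a⁻¹) = a * n * a⁻¹ * n := by
      intro n hn
      obtain ⟨r, hr, c, hc, e⟩ := exists_conj_coset (u := a) (inf_le_left : ZN ≤ N) haN
        (fun c hc x _ => (hZcen c hc x).symm) (fun d hd hdZ => by
          obtain ⟨z, hz, hzc⟩ := exists_fixed_lift h.hp hpow (M := ZN) hNnd (hZNnorm _) (r := d)
            (by rw [inv_inv]; exact hdZ)
          have hac : a * (d * z) = d * z * a := by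
            have := (show Commute a⁻¹ (d * z) from hzc).inv_left.eq
            rwa [inv_inv] at this
          have hmem := hfix _ (mul_mem hd hz.1) hac
          have := mul_mem hmem (inv_mem hz)
          rwa [mul_inv_cancel_right] at this) hn
      set w := a⁻¹ * r⁻¹ * a * r with hw
      have hnw : n = w * c := by
        have e2 : n = a⁻¹ * (r⁻¹ * (a * c) * r) := by rw [e, inv_mul_cancel_left]
        rw [e2, hw]
        calc a⁻¹ * (r⁻¹ * (a * c) * r) = a⁻¹ * r⁻¹ * a * (c * r) := by group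
          _ = a⁻¹ * r⁻¹ * a * (r * c) := by rw [hZcen c hc r]
          _ = _ := by group
      have hww : w * (a * w * a⁻¹) = a * w * a⁻¹ * w := by
        by_cases hra : cj r⁻¹ A = A
        · have hrc : r⁻¹ ∈ Subgroup.centralizer (A : Set G) := h.commute_of_normalizes hA hNq
            (le_top.trans (Geo.le_normalizer_der _)) (inv_mem hr) hra
          have hw1 : w = 1 := by
            rw [hw, mul_assoc a⁻¹, ← Subgroup.mem_centralizer_iff.1 hrc a haA]
            group
          rw [hw1]; group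
        · have hB := h.inv A hA r⁻¹
          have hQQ : ∀ x ∈ ⁅A ⊔ cj r⁻¹ A, A ⊔ cj r⁻¹ A⁆,
              ∀ y ∈ ⁅A ⊔ cj r⁻¹ A, A ⊔ cj r⁻¹ A⁆, x * y = y * x := fun x hx y hy =>
            commutatorElement_eq_one_iff_mul_comm.1 (Subgroup.mem_bot.1
              ((h1 A hA _ hB (Ne.symm hra)).le (h.cK_line hA hB (Ne.symm hra) ▸
                Subgroup.mem_inf.2 ⟨comm_le_self _ (Subgroup.commutator_mem_commutator hx hy),
                  h.der_der_le hA hB (Ne.symm hra)
                    (Subgroup.commutator_mem_commutator hx hy)⟩)))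
          have hwL : w ∈ A ⊔ cj r⁻¹ A := by
            have e3 : w = a⁻¹ * (r⁻¹ * a * r⁻¹⁻¹) := by rw [hw]; group
            rw [e3]
            exact mul_mem (Subgroup.mem_sup_left (inv_mem haA))
              (Subgroup.mem_sup_right (conj_mem_cj haA))
          have hQN : ⁅A ⊔ cj r⁻¹ A, A ⊔ cj r⁻¹ A⁆ ≤ N := Subgroup.commutator_mono le_top le_top
          have hwN : w ∈ N := by
            rw [hw]
            exact mul_mem (conj_mem_of_mem_normalizer' haN (inv_mem hr)) hr
          have hwQ : w ∈ ⁅A ⊔ cj r⁻¹ A, A ⊔ cj r⁻¹ A⁆ := by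
            refine (inf_sup_eq (h.inf_member hA hNq) hQN
              (le_sup_left.trans (Geo.le_normalizer_der _))).le (Subgroup.mem_inf.2 ⟨hwN, ?_⟩)
            exact (h.line_eq' hA hB (Ne.symm hra)).le hwL
          exact hQQ _ hwQ _ (conj_mem_of_mem_normalizer
            (Geo.le_normalizer_der _ (Subgroup.mem_sup_left haA)) hwQ)
      rw [hnw]
      have hac : a * c * a⁻¹ = c := hZfix c hc
      calc w * c * (a * (w * c) * a⁻¹) = w * c * ((a * w * a⁻¹) * (a * c * a⁻¹)) := by group
        _ = c * (w * (a * w * a⁻¹)) * c := by rw [hac, hZcen c hc w]; group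
        _ = c * (a * w * a⁻¹ * w) * c := by rw [hww]
        _ = (a * w * a⁻¹) * (a * c * a⁻¹) * (w * c) := by
            rw [hac]
            calc c * (a * w * a⁻¹ * w) * c = (c * (a * w * a⁻¹)) * (w * c) := by group
              _ = _ := by rw [← hZcen c hc (a * w * a⁻¹)]
        _ = a * (w * c) * a⁻¹ * (w * c) := by group
    -- bilinearity
    set W := fixMod N ZN N with hWdef
    set b := a * a with hb
    have hbN : b ∈ Subgroup.normalizer (N : Set G) := mul_mem haN haN
    have hshift : ∀ r ∈ W, ∀ g ∈ N, b * g * b⁻¹ * r * (b * g * b⁻¹)⁻¹ = g * r * g⁻¹ := by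
      intro r hr g hg
      set e := a * g * a⁻¹ with he_def
      set e' := a * e * a⁻¹ with he'_def
      set r' := a * r * a⁻¹ with hr'_def
      have heN : e ∈ N := conj_mem_of_mem_normalizer haN hg
      have he'N : e' ∈ N := conj_mem_of_mem_normalizer haN heN
      set μ := r⁻¹ * (g * r * g⁻¹) with hμ
      set ν := r⁻¹ * (e' * r * e'⁻¹) with hν
      have hμZ : μ ∈ ZN := hr.2.2 g hg
      have hνZ : ν ∈ ZN := hr.2.2 e' he'N
      have e1 : e * r' = r' * μ * e := by
        calc e * r' = a * (g * r * g⁻¹) * a⁻¹ * e := by rw [he_def, hr'_def]; group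
          _ = a * (r * μ) * a⁻¹ * e := by rw [hμ, mul_inv_cancel_left]
          _ = r' * (a * μ * a⁻¹) * e := by rw [hr'_def]; group
          _ = r' * μ * e := by rw [hZfix μ hμZ]
      have e2 : e' * r = r * ν * e' := by rw [hν]; group
      have hrr : r * r' = r' * r := hcomm r hr.1
      have hee : e * e' = e' * e := hcomm e heN
      have hre := hcomm (r * e) (mul_mem hr.1 heN)
      have hexp : a * (r * e) * a⁻¹ = r' * e' := by rw [hr'_def, he'_def]; group
      rw [hexp] at hre
      have hL : r * e * (r' * e') = μ * (r' * r * (e' * e)) := by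
        calc r * e * (r' * e') = r * (e * r') * e' := by group
          _ = r * r' * μ * e * e' := by rw [e1]; group
          _ = μ * (r * r') * (e * e') := by rw [hZcen μ hμZ (r * r')]; group
          _ = μ * (r' * r * (e' * e)) := by rw [hrr, hee]; group
      have hR' : r' * e' * (r * e) = ν * (r' * r * (e' * e)) := by
        calc r' * e' * (r * e) = r' * (e' * r) * e := by group
          _ = r' * r * ν * e' * e := by rw [e2]; group
          _ = ν * (r' * r) * e' * e := by rw [hZcen ν hνZ (r' * r)]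
          _ = ν * (r' * r * (e' * e)) := by group
      rw [hL, hR'] at hre
      have hμν := mul_right_cancel hre
      have hbe : b * g * b⁻¹ = e' := by rw [hb, he'_def, he_def]; group
      rw [hbe, ← mul_inv_cancel_left r (e' * r * e'⁻¹), ← hν, ← hμν, hμ, mul_inv_cancel_left]
    have hbZ : b ∈ Subgroup.normalizer (ZN : Set G) := hZNnorm b
    have hbW : ∀ r ∈ W, b⁻¹ * r * b ∈ W := fun r hr => by
      have := fixMod_conj_mem (inv_mem hbN) (inv_mem hbZ) (inv_mem hbN) hr
      simpa using this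
    have hS : N ⊓ Subgroup.centralizer (W : Set G) = N := by
      have hAb : A = Subgroup.zpowers b := by
        refine le_antisymm ?_ (Subgroup.zpowers_le.2 (mul_mem haA haA))
        rw [hAa, Subgroup.zpowers_le]
        obtain ⟨k, hk⟩ := h.hp.odd_of_ne_two h.hp2
        refine Subgroup.mem_zpowers_iff.2 ⟨((k + 1 : ℕ) : ℤ), ?_⟩
        rw [zpow_natCast, hb, ← pow_two, ← pow_mul, show 2 * (k + 1) = p + 1 by omega, pow_succ,
          hap, one_mul]
      refine h.eq_of_comm_mem hK hKodd hA le_top hAb inf_le_left ?_ ?_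
      · refine mem_normalizer_of_conj_mem fun n hn => Subgroup.mem_inf.2
          ⟨conj_mem_of_mem_normalizer hbN hn.1, mem_centralizer_of_commute fun r hr => ?_⟩
        have := Subgroup.mem_centralizer_iff.1 hn.2 _ (hbW r hr)
        calc r * (b * n * b⁻¹) = b * ((b⁻¹ * r * b) * n) * b⁻¹ := by group
          _ = b * (n * (b⁻¹ * r * b)) * b⁻¹ := by rw [this]
          _ = b * n * b⁻¹ * r := by group
      · intro n hn
        refine Subgroup.mem_inf.2 ⟨mul_mem (inv_mem hn) (conj_mem_of_mem_normalizer hbN hn),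
          mem_centralizer_of_commute fun r hr => ?_⟩
        have hk := hshift r hr n hn
        calc r * (n⁻¹ * (b * n * b⁻¹))
            = n⁻¹ * (n * r * n⁻¹) * (b * n * b⁻¹) := by group
          _ = n⁻¹ * (b * n * b⁻¹ * r * (b * n * b⁻¹)⁻¹) * (b * n * b⁻¹) := by rw [hk]
          _ = n⁻¹ * (b * n * b⁻¹) * r := by group
    refine hr0Z (Subgroup.mem_inf.2 ⟨hr0.1, mem_centralizer_of_commute fun n hn => ?_⟩)
    exact (Subgroup.mem_centralizer_iff.1 (hS.ge hn).2 r0 hr0).symm

end Cfsg.Agent.Lib.PairOdd
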