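import Cfsg.Agent.Lib.PairOdd.Maximal

/-!
# A central element of a maximal subgroup normalises no neighbouring maximal subgroup
-/

set_option autoImplicit false

namespace Cfsg.Agent.Lib.PairOdd

open scoped commutatorElement

universe u

variable {G : Type u} [Group G] [Finite G] {p q : ℕ} {D : Set (Subgroup G)}

/-- A commutator with an element fixed modulo a centralised subgroup is fixed. -/
theorem commutator_fixMod {N M J H : Subgroup G}
    (hM : M ≤ Subgroup.centralizer (J : Set G))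
    (hH : H ≤ Subgroup.centralizer (J : Set G)) :
    ⁅J, fixMod N M H⁆ ≤ Subgroup.centralizer (H : Set G) := by
  refine Subgroup.commutator_le.2 fun j hj w hw => mem_centralizer_of_commute fun h hh => ?_
  have hjh : h * j * h⁻¹ = j := by
    rw [← Subgroup.mem_centralizer_iff.1 (hH hh) j hj, mul_inv_cancel_right]
  set m := w⁻¹ * (h * w * h⁻¹) with hm
  have hjm : j * m * j⁻¹ = m := by
    rw [Subgroup.mem_centralizer_iff.1 (hM (hw.2.2 h hh)) j hj, mul_inv_cancel_right]
  have hwm : h * w * h⁻¹ = w * m := by rw [hm, mul_inv_cancel_left]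
  refine mul_inv_eq_iff_eq_mul.1 ?_
  calc h * ⁅j, w⁆ * h⁻¹ = (h * j * h⁻¹) * (h * w * h⁻¹) * (h * j * h⁻¹)⁻¹ * (h * w * h⁻¹)⁻¹ := by
        simp [commutatorElement_def, mul_assoc]
    _ = j * (w * m) * j⁻¹ * (w * m)⁻¹ := by rw [hjh, hwm]
    _ = j * w * j⁻¹ * (j * m * j⁻¹) * m⁻¹ * w⁻¹ := by group
    _ = ⁅j, w⁆ := by rw [hjm, commutatorElement_def]; group

/-- The elements `w⁻¹ a w a⁻¹` normalise the subgroup generated by `J`, `⁅J, V⁆` and `E`. -/
theorem move_normalizer {J C V E Y : Subgroup G} {a w : G}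
    (hY : Y = J ⊔ ⁅J, V⁆ ⊔ E) (hJV : J ≤ V) (hDC : ⁅J, V⁆ ≤ C)
    (haV : a ∈ Subgroup.normalizer (V : Set G)) (haJ : a ∈ Subgroup.normalizer (J : Set G))
    (hCV : ∀ z ∈ C, ∀ x ∈ V, z * x = x * z) (hCa : ∀ z ∈ C, z * a = a * z)
    (hEa : ∀ e ∈ E, e * a = a * e) (hEV : ∀ e ∈ E, w⁻¹ * (e * w * e⁻¹) ∈ J ⊔ C) (hw : w ∈ V) :
    w⁻¹ * (a * w * a⁻¹) ∈ Subgroup.normalizer (Y : Set G) := by
  set n := w⁻¹ * (a * w * a⁻¹) with hn
  have hnV : n ∈ V := mul_mem (inv_mem hw) (conj_mem_of_mem_normalizer haV hw)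
  have hJY : ∀ x ∈ J, n⁻¹ * x * n ∈ Y := fun x hx => by
    have e : n⁻¹ * x * n = ⁅x, n⁻¹⁆⁻¹ * x := by simp [commutatorElement_def, mul_assoc]
    rw [e, hY]
    exact mul_mem
      (Subgroup.mem_sup_left (Subgroup.mem_sup_right
        (inv_mem (Subgroup.commutator_mem_commutator hx (inv_mem hnV)))))
      (Subgroup.mem_sup_left (Subgroup.mem_sup_left hx))
  suffices h' : n⁻¹ ∈ Subgroup.normalizer (Y : Set G) by simpa using inv_mem h'
  refine cj_eq_self_iff.1 (cj_eq_of_le ?_)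
  have hmem : ∀ x ∈ Y, x ∈ J ⊔ ⁅J, V⁆ ⊔ E := fun x hx => hY ▸ hx
  conv_lhs => rw [hY, cj_sup, cj_sup]
  refine sup_le (sup_le ?_ ?_) ?_
  · rintro _ ⟨x, hx, rfl⟩
    simpa using hJY x hx
  · rintro _ ⟨x, hx, rfl⟩
    have e : (MulAut.conj n⁻¹).toMonoidHom x = x := by
      simp [mul_assoc, hCV x (hDC hx) n hnV]
    rw [e, hY]
    exact Subgroup.mem_sup_left (Subgroup.mem_sup_right hx)
  · rintro _ ⟨e, he, rfl⟩
    have hCJ : C ≤ Subgroup.normalizer (J : Set G) := fun z hz =>
      cj_eq_self_iff.1 (cj_eq_self_of_commute fun x hx => hCV z hz x (hJV hx))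
    obtain ⟨j, hj, z, hz, hk⟩ := mem_sup_decomp hCJ (hEV e he)
    have hwe : e * w * e⁻¹ = w * (j * z) := by rw [← hk, mul_inv_cancel_left]
    have haz : a * z * a⁻¹ = z := by rw [← hCa z hz, mul_inv_cancel_right]
    have hzn : z⁻¹ * j⁻¹ * n * (a * j * a⁻¹) = j⁻¹ * n * (a * j * a⁻¹) * z⁻¹ := by
      have h1 := hCV z⁻¹ (inv_mem hz) (j⁻¹ * n * (a * j * a⁻¹))
        (mul_mem (mul_mem (inv_mem (hJV hj)) hnV) (hJV (conj_mem_of_mem_normalizer haJ hj)))
      calc z⁻¹ * j⁻¹ * n * (a * j * a⁻¹) = z⁻¹ * (j⁻¹ * n * (a * j * a⁻¹)) := by group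
        _ = _ := h1
    have hen : e * n * e⁻¹ = n * ((n⁻¹ * j⁻¹ * n) * (a * j * a⁻¹)) := by
      calc e * n * e⁻¹ = (e * w * e⁻¹)⁻¹ * (e * a) * w * (e * a)⁻¹ := by rw [hn]; group
        _ = (e * w * e⁻¹)⁻¹ * (a * e) * w * (a * e)⁻¹ := by rw [hEa e he]
        _ = (e * w * e⁻¹)⁻¹ * (a * (e * w * e⁻¹) * a⁻¹) := by group
        _ = (w * (j * z))⁻¹ * (a * (w * (j * z)) * a⁻¹) := by rw [hwe]
        _ = z⁻¹ * j⁻¹ * n * (a * j * a⁻¹) * (a * z * a⁻¹) := by rw [hn]; group
        _ = j⁻¹ * n * (a * j * a⁻¹) * z⁻¹ * z := by rw [haz, hzn]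
        _ = _ := by group
    have e2 : (MulAut.conj n⁻¹).toMonoidHom e = (n⁻¹ * j⁻¹ * n) * (a * j * a⁻¹) * e := by
      calc (MulAut.conj n⁻¹).toMonoidHom e = n⁻¹ * (e * n * e⁻¹) * e := by simp [mul_assoc]
        _ = n⁻¹ * (n * ((n⁻¹ * j⁻¹ * n) * (a * j * a⁻¹))) * e := by rw [hen]
        _ = _ := by group
    rw [e2]
    refine mul_mem (mul_mem (hJY _ (inv_mem hj)) ?_) ?_
    · rw [hY]
      exact Subgroup.mem_sup_left (Subgroup.mem_sup_left (conj_mem_of_mem_normalizer haJ hj))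
    · rw [hY]
      exact Subgroup.mem_sup_right he

/-- Moving elements exist. -/
theorem exists_mover {p q : ℕ} {D : Set (Subgroup G)} (h : Geo p q D) {N M W A : Subgroup G}
    {a : G} (hAa : A = Subgroup.zpowers a) (hap : a ^ p = 1) (hN : IsPGroup q N) (hWN : W ≤ N)
    (hMN : M ≤ N) (haM : a ∈ Subgroup.normalizer (M : Set G)) (hMW : M ≤ W) (hWM : ¬ W ≤ M)
    (hfix : N ⊓ Subgroup.centralizer (A : Set G) ≤ M) :
    ∃ w ∈ W, w⁻¹ * (a * w * a⁻¹) ∉ M := by
  by_contra hcon
  push Not at hcon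
  refine hWM fun w hw => ?_
  obtain ⟨m, hm, hc⟩ := exists_fixed_lift h.hp hap (h.not_dvd_card (hN.to_le hMN)) haM
    (hcon w hw)
  have := hfix (Subgroup.mem_inf.2 ⟨hWN (mul_mem hw (hMW hm)),
    mem_centralizer_of_commute fun b hb => by
      rw [hAa] at hb
      obtain ⟨i, rfl⟩ := Subgroup.mem_zpowers_iff.1 hb
      exact ((show Commute a (w * m) from hc).zpow_left i).eq⟩)
  have h1 := mul_mem this (inv_mem hm)
  rwa [mul_inv_cancel_right] at h1

/-- Generated subgroups normalised by the central part and meeting `X` nontrivially lie in `X`. -/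
def CorP (D : Set (Subgroup G)) (X : Subgroup G) : Prop :=
  ∀ A ∈ D, A ≤ X → ∀ S, mgen D S = S → S ≠ ⊤ → A ≤ S → mgen D (X ⊓ S) ≠ A →
    (∀ c ∈ cK X, cj c S = S) → S ≤ X

namespace MinEx

theorem ct_aux (h : MinEx p q D) (h2 : Alt2 D) : ∀ (m : ℕ) (X X' A H : Subgroup G),
    Nat.card G - Nat.card (mgen D (X ⊓ X') : Subgroup G) = m → CMax D X → CMax D X' → A ∈ D →
    A ≤ X → A ≤ X' → X ≠ X' → mgen D (X ⊓ X') ≠ A → H ≤ cK X → H ≠ ⊥ →
    (∀ c ∈ H, cj c X' = X') → (H = cK X ∨ CorP D X) → False := by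
  intro m
  induction m using Nat.strong_induction_on with
  | _ m ih =>
    intro X X' A H hm hX hX' hA hAX hAX' hne hRA hHC hH hHX' hcase
    have hg := h.toGeo
    obtain ⟨a, hAa, -, hap⟩ := hg.exists_gen hA
    have haA : a ∈ A := hAa ▸ Subgroup.mem_zpowers a
    have hXo := h.odd_cmax hX
    have hXo' := h.odd_cmax hX'
    have hNq := h.der_qgroup hX.mg hX.ne_top
    have hNq' := h.der_qgroup hX'.mg hX'.ne_top
    set R := mgen D (X ⊓ X') with hR
    have hRX : R ≤ X := (mgen_le _ _).trans inf_le_left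
    have hRX' : R ≤ X' := (mgen_le _ _).trans inf_le_right
    have hRm : mgen D R = R := mgen_mgen _ _
    have hAR : A ≤ R := le_mgen hA (le_inf hAX hAX')
    have hRo : Odd (Nat.card R) := hXo.of_dvd_nat (Subgroup.card_dvd_of_le hRX)
    set J : Subgroup G := ⁅R, R⁆ with hJdef
    set C := cK X with hCdef
    set C' := cK X' with hC'def
    set N : Subgroup G := ⁅X, X⁆ with hNdef
    set N' : Subgroup G := ⁅X', X'⁆ with hN'def
    have hJN : J ≤ N := Subgroup.commutator_mono hRX hRX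
    have hJN' : J ≤ N' := Subgroup.commutator_mono hRX' hRX'
    have hJX : J ≤ X := (comm_le_self R).trans hRX
    have hJX' : J ≤ X' := (comm_le_self R).trans hRX'
    have hJne : J ≠ ⊥ := hg.der_ne_bot_of_ne hRm hA hAR hRA
    have hcKR : cK R = ⊥ := by
      rw [eq_bot_iff]
      intro z hz
      exact Subgroup.mem_bot.2 (h.cmax_inf hX hX' hne
        (Geo.cK_mono h2 hX.mg hXo hA hAR hRX hz) (Geo.cK_mono h2 hX'.mg hXo' hA hAR hRX' hz))
    have hJcomm : ∀ x ∈ J, ∀ y ∈ J, x * y = y * x := fun x hx y hy =>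
      h.der_comm h2 hRm (fun e => hX.ne_top (top_unique (e ▸ hRX))) hA hAR hcKR hx hy
    have hJJ : J ≤ Subgroup.centralizer (J : Set G) := fun x hx =>
      mem_centralizer_of_commute fun y hy => hJcomm y hy x hx
    have hCJ : C ≤ Subgroup.centralizer (J : Set G) := fun z hz =>
      mem_centralizer_of_commute fun y hy => commute_of_mem_cK hz (hJX hy)
    have hC'J : C' ≤ Subgroup.centralizer (J : Set G) := fun z hz =>
      mem_centralizer_of_commute fun y hy => commute_of_mem_cK hz (hJX' hy)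
    have hCN : C ≤ N := inf_le_left
    have hC'N : C' ≤ N' := inf_le_left
    set M := J ⊔ C with hMdef
    set M' := J ⊔ C' with hM'def
    have hMN : M ≤ N := sup_le hJN hCN
    have hM'N : M' ≤ N' := sup_le hJN' hC'N
    have hMJ : M ≤ Subgroup.centralizer (J : Set G) := sup_le hJJ hCJ
    have hM'J : M' ≤ Subgroup.centralizer (J : Set G) := sup_le hJJ hC'J
    have hNM : ∀ {Y : Subgroup G}, mgen D Y = Y → Odd (Nat.card Y) → A ≤ Y → ∀ T, T ≤ ⁅Y, Y⁆ →
        ⁅Y, Y⁆ ≤ Subgroup.normalizer ((T ⊔ cK Y : Subgroup G) : Set G) := by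
      intro Y hY hYo hAY T hT x hx
      refine mem_normalizer_of_conj_mem fun y hy => ?_
      have e : x * y * x⁻¹ = ⁅x, y⁆ * y := by simp [commutatorElement_def]
      rw [e]
      refine mul_mem (Subgroup.mem_sup_right ?_) hy
      rw [Geo.cK_eq h2 hY hYo hA hAY]
      have hyY : y ∈ ⁅Y, Y⁆ := sup_le hT inf_le_left hy
      exact Subgroup.mem_inf.2 ⟨comm_le_self _ (Subgroup.commutator_mem_commutator hx hyY),
        (h2 Y hY hYo A hA hAY).1 (Subgroup.commutator_mem_commutator hx hyY)⟩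
    have hNM' : N' ≤ Subgroup.normalizer (M' : Set G) := hNM hX'.mg hXo' hAX' J hJN'
    have hNMX : N ≤ Subgroup.normalizer (M : Set G) := hNM hX.mg hXo hAX J hJN
    have haJ : a ∈ Subgroup.normalizer (J : Set G) := Geo.le_normalizer_der R (hAR haA)
    have haN : a ∈ Subgroup.normalizer (N : Set G) := Geo.le_normalizer_der X (hAX haA)
    have haN' : a ∈ Subgroup.normalizer (N' : Set G) := Geo.le_normalizer_der X' (hAX' haA)
    have haM : a ∈ Subgroup.normalizer (M : Set G) := cj_eq_self_iff.1 (by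
      rw [hMdef, cj_sup, cj_eq_self_iff.2 haJ, cj_cK_eq (cj_eq_self_of_mem (hAX haA))])
    have haM' : a ∈ Subgroup.normalizer (M' : Set G) := cj_eq_self_iff.1 (by
      rw [hM'def, cj_sup, cj_eq_self_iff.2 haJ, cj_cK_eq (cj_eq_self_of_mem (hAX' haA))])
    have hfix : N ⊓ Subgroup.centralizer (A : Set G) ≤ M := by
      rw [hNdef, ← Geo.cK_eq h2 hX.mg hXo hA hAX]; exact le_sup_right
    have hfix' : N' ⊓ Subgroup.centralizer (A : Set G) ≤ M' := by
      rw [hN'def, ← Geo.cK_eq h2 hX'.mg hXo' hA hAX']; exact le_sup_right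
    have hproperX : ¬ N ≤ M := by
      intro hle
      have hXR : X ≤ R := by
        refine hg.le_of_der_le hX.mg hXo hA hAX hAR ?_ ?_
        · rw [← Geo.cK_eq h2 hX.mg hXo hA hAX]
          exact hle.trans (sup_le_sup_right (comm_le_self R) C)
        · rw [← Geo.cK_eq h2 hX.mg hXo hA hAX]
          exact fun z hz => cj_eq_self_iff.1 (cj_eq_self_of_commute fun x hx =>
            (commute_of_mem_cK hz (hRX hx)).symm)
      exact hne (hX.max X' hX'.mg hX'.ne_top (hXR.trans hRX')).symm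
    have hproperX' : ¬ N' ≤ M' := by
      intro hle
      have hXR : X' ≤ R := by
        refine hg.le_of_der_le hX'.mg hXo' hA hAX' hAR ?_ ?_
        · rw [← Geo.cK_eq h2 hX'.mg hXo' hA hAX']
          exact hle.trans (sup_le_sup_right (comm_le_self R) C')
        · rw [← Geo.cK_eq h2 hX'.mg hXo' hA hAX']
          exact fun z hz => cj_eq_self_iff.1 (cj_eq_self_of_commute fun x hx =>
            (commute_of_mem_cK hz (hRX' hx)).symm)
      exact hne (hX'.max X hX.mg hX.ne_top (hXR.trans hRX))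
    -- `H`
    have hHq : IsPGroup q H := (h.cK_qgroup hX.mg hX.ne_top).to_le hHC
    have hHJ : H ≤ Subgroup.centralizer (J : Set G) := hHC.trans hCJ
    have hHN' : H ≤ Subgroup.normalizer (N' : Set G) := fun c hc => cj_eq_self_iff.1 (by
      rw [hN'def, cj_commutator, hHX' c hc])
    have hHM' : H ≤ Subgroup.normalizer (M' : Set G) := fun c hc => cj_eq_self_iff.1 (by
      rw [hM'def, cj_sup, cj_cK_eq (hHX' c hc),
        cj_eq_self_of_commute fun x hx => (Subgroup.mem_centralizer_iff.1 (hHJ hc) x hx).symm])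
    set W' := fixMod N' M' H with hW'def
    have hM'W' : M' ≤ W' := le_fixMod hM'N hHM'
    have hW'ne : ¬ W' ≤ M' := by
      obtain ⟨n, hn, hnM⟩ := exists_fixMod h.hq hNq' hHq hM'N hNM' hHN' hHM' hproperX'
      exact fun hle => hnM (hle hn)
    have haH : a ∈ Subgroup.normalizer (H : Set G) := cj_eq_self_iff.1
      (cj_eq_self_of_commute fun x hx => commute_of_mem_cK (hHC hx) (hAX haA))
    have haW' : a ∈ Subgroup.normalizer (W' : Set G) :=
      mem_normalizer_of_conj_mem fun x hx => fixMod_conj_mem haN' haM' haH hx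
    set E : Subgroup G := ⁅J, W'⁆ with hEdef
    have hEC' : E ≤ C' := by
      rw [hC'def, Geo.cK_eq h2 hX'.mg hXo' hA hAX']
      refine Subgroup.commutator_le.2 fun j hj w hw => Subgroup.mem_inf.2 ⟨?_, ?_⟩
      · exact comm_le_self _ (Subgroup.commutator_mem_commutator (hJN' hj) hw.1)
      · exact (h2 X' hX'.mg hXo' A hA hAX').1 (Subgroup.commutator_mem_commutator (hJN' hj) hw.1)
    have hEH : E ≤ Subgroup.centralizer (H : Set G) := commutator_fixMod hM'J hHJ
    obtain ⟨⟨c, hc⟩, hc1'⟩ := H.ne_bot_iff_exists_ne_one.1 hH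
    have hc1 : c ≠ 1 := fun e => hc1' (Subtype.ext e)
    have hEX : ∀ e ∈ E, cj e X = X := fun e he =>
      h.cmax_fixed hX (hHC hc) hc1 (Subgroup.mem_centralizer_iff.1 (hEH he) c hc).symm
    have hHS : ∀ {S : Subgroup G}, (∀ c ∈ H, c ∈ Subgroup.centralizer (S : Set G)) →
        ∀ c ∈ H, cj c (mgen D (Subgroup.normalizer (S : Set G))) =
          mgen D (Subgroup.normalizer (S : Set G)) := fun hS c hc => by
      rw [hg.cj_mgen, cj_eq_self_of_mem (Subgroup.centralizer_le_normalizer _ (hS c hc))]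
    have hJo : Odd (Nat.card J) := hRo.of_dvd_nat (Subgroup.card_dvd_of_le (comm_le_self R))
    have hRS0 : R ≤ mgen D (Subgroup.normalizer (J : Set G)) := by
      conv_lhs => rw [← hRm]
      exact mgen_mono (Geo.le_normalizer_der R)
    have hcor : CorP D X → ∀ P, P ∈ D → P ≤ Subgroup.normalizer (J : Set G) → ¬ P ≤ X → False := by
      intro hcor P hP hPJ hPX
      refine hPX ((le_mgen hP hPJ).trans ?_)
      refine hcor A hA hAX _ (mgen_mgen _ _) (h.mgen_normalizer_ne hJo hJne) (hAR.trans hRS0) ?_ ?_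
      · intro e
        refine hRA (le_antisymm (e ▸ ?_) hAR)
        conv_lhs => rw [← hRm]
        exact mgen_mono (le_inf hRX hRS0)
      · intro c hc
        rw [hg.cj_mgen, cj_eq_self_of_mem]
        exact Subgroup.centralizer_le_normalizer _ (hCJ hc)
    have houtX' : ∀ {n : G}, n ∈ N' → n ∉ M' → ¬ cj n A ≤ X := by
      intro n hn hnM hle
      refine hnM ?_
      have := hg.mem_of_cj_le hX'.mg hXo' hA hRm hRX' hAR hn
        (le_mgen (h.inv A hA n) (le_inf hle (Geo.cj_le_of_mem hAX' (comm_le_self X' hn))))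
      rwa [← Geo.cK_eq h2 hX'.mg hXo' hA hAX'] at this
    obtain ⟨-, hEnontriv⟩ : True ∧ ((E = ⊥ → H = cK X)) := by
      refine ⟨trivial, fun hE => hcase.resolve_right fun hcp => ?_⟩
      obtain ⟨w, hw, hwM⟩ := exists_mover hg hAa hap hNq' fixMod_le hM'N haM' hM'W' hW'ne hfix'
      set n := w⁻¹ * (a * w * a⁻¹) with hn
      have hnW : n ∈ W' := mul_mem (inv_mem hw) (conj_mem_of_mem_normalizer haW' hw)
      refine hcor hcp (cj n A) (h.inv A hA n) ?_ (houtX' hnW.1 hwM)
      have hWJ : n ∈ Subgroup.centralizer (J : Set G) := mem_centralizer_of_commute fun j hj =>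
        commutatorElement_eq_one_iff_mul_comm.1
          (Subgroup.mem_bot.1 (hE ▸ Subgroup.commutator_mem_commutator hj hnW))
      rw [← cj_eq_self_of_mem (Subgroup.centralizer_le_normalizer _ hWJ :
        n ∈ Subgroup.normalizer (J : Set G))]
      exact cj_mono (hAR.trans (Geo.le_normalizer_der R))
    have hCdecomp : ∀ d ∈ C, (∀ e ∈ E, d * e = e * d) → cj d X' = X' := by
      intro d hd hde
      by_cases hE : E = ⊥
      · exact hHX' d ((hEnontriv hE).symm ▸ hd)
      · obtain ⟨⟨e, he⟩, he1⟩ := E.ne_bot_iff_exists_ne_one.1 hE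
        exact h.cmax_fixed hX' (hEC' he) (fun e' => he1 (Subtype.ext e')) (hde e he)
    -- the other side
    have hEJ : E ≤ Subgroup.centralizer (J : Set G) := hEC'.trans hC'J
    have hEq : IsPGroup q E := (h.cK_qgroup hX'.mg hX'.ne_top).to_le hEC'
    have hEN : E ≤ Subgroup.normalizer (N : Set G) := fun e he => cj_eq_self_iff.1 (by
      rw [hNdef, cj_commutator, hEX e he])
    have hEM : E ≤ Subgroup.normalizer (M : Set G) := fun e he => cj_eq_self_iff.1 (by
      rw [hMdef, cj_sup, cj_cK_eq (hEX e he),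
        cj_eq_self_of_commute fun x hx => (Subgroup.mem_centralizer_iff.1 (hEJ he) x hx).symm])
    set W := fixMod N M E with hWdef
    have hMW : M ≤ W := le_fixMod hMN hEM
    have hWne : ¬ W ≤ M := by
      obtain ⟨n, hn, hnM⟩ := exists_fixMod h.hq hNq hEq hMN hNMX hEN hEM hproperX
      exact fun hle => hnM (hle hn)
    have hEa : ∀ e ∈ E, e * a = a * e := fun e he =>
      (commute_of_mem_cK (hEC' he) (hAX' haA)).symm
    have haE : a ∈ Subgroup.normalizer (E : Set G) :=
      cj_eq_self_iff.1 (cj_eq_self_of_commute fun x hx => (hEa x hx).symm)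
    have haW : a ∈ Subgroup.normalizer (W : Set G) :=
      mem_normalizer_of_conj_mem fun x hx => fixMod_conj_mem haN haM haE hx
    set Dd : Subgroup G := ⁅J, W⁆ with hDdef
    have hDC : Dd ≤ C := by
      rw [hCdef, Geo.cK_eq h2 hX.mg hXo hA hAX]
      refine Subgroup.commutator_le.2 fun j hj w hw => Subgroup.mem_inf.2 ⟨?_, ?_⟩
      · exact comm_le_self _ (Subgroup.commutator_mem_commutator (hJN hj) hw.1)
      · exact (h2 X hX.mg hXo A hA hAX).1 (Subgroup.commutator_mem_commutator (hJN hj) hw.1)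
    have hDE : Dd ≤ Subgroup.centralizer (E : Set G) := commutator_fixMod hMJ hEJ
    have hDX' : ∀ d ∈ Dd, cj d X' = X' := fun d hd => hCdecomp d (hDC hd) fun e he =>
      (Subgroup.mem_centralizer_iff.1 (hDE hd) e he).symm
    have hDJ : Dd ≤ Subgroup.centralizer (J : Set G) := hDC.trans hCJ
    have hDN' : Dd ≤ Subgroup.normalizer (N' : Set G) := fun d hd => cj_eq_self_iff.1 (by
      rw [hN'def, cj_commutator, hDX' d hd])
    have hDM' : Dd ≤ Subgroup.normalizer (M' : Set G) := fun d hd => cj_eq_self_iff.1 (by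
      rw [hM'def, cj_sup, cj_cK_eq (hDX' d hd),
        cj_eq_self_of_commute fun x hx => (Subgroup.mem_centralizer_iff.1 (hDJ hd) x hx).symm])
    have hCC : ∀ x ∈ C, ∀ y ∈ C, x * y = y * x := fun x hx y hy =>
      commute_of_mem_cK hy (cK_le_self X hx)
    have hDH : Dd ≤ Subgroup.normalizer (H : Set G) := fun d hd =>
      cj_eq_self_iff.1 (cj_eq_self_of_commute fun x hx => hCC d (hDC hd) x (hHC hx))
    have hDW' : Dd ≤ Subgroup.normalizer (W' : Set G) := fun d hd =>
      mem_normalizer_of_conj_mem fun x hx => fixMod_conj_mem (hDN' hd) (hDM' hd) (hDH hd) hx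
    set W'' := fixMod W' M' Dd with hW''def
    have hW''W' : W'' ≤ W' := fixMod_le
    have hM'W'' : M' ≤ W'' := le_fixMod hM'W' hDM'
    have hW''ne : ¬ W'' ≤ M' := by
      obtain ⟨n, hn, hnM⟩ := exists_fixMod h.hq (hNq'.to_le fixMod_le)
        ((h.cK_qgroup hX.mg hX.ne_top).to_le hDC) hM'W' (fun x hx => hNM' hx.1) hDW' hDM' hW'ne
      exact fun hle => hnM (hle hn)
    set E' : Subgroup G := ⁅J, W''⁆ with hE'def
    have hE'E : E' ≤ E := Subgroup.commutator_mono le_rfl hW''W'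
    have hE'D : E' ≤ Subgroup.centralizer (Dd : Set G) := commutator_fixMod hM'J hDJ
    have hDa : ∀ d ∈ Dd, d * a = a * d := fun d hd =>
      (commute_of_mem_cK (hDC hd) (hAX haA)).symm
    have haD : a ∈ Subgroup.normalizer (Dd : Set G) :=
      cj_eq_self_iff.1 (cj_eq_self_of_commute fun x hx => (hDa x hx).symm)
    have haW'' : a ∈ Subgroup.normalizer (W'' : Set G) :=
      mem_normalizer_of_conj_mem fun x hx => fixMod_conj_mem haW' haM' haD hx
    set Y := J ⊔ Dd ⊔ E' with hYdef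
    -- the movers
    obtain ⟨w, hw, hwM⟩ := exists_mover hg hAa hap hNq fixMod_le hMN haM hMW hWne hfix
    obtain ⟨w', hw', hwM'⟩ :=
      exists_mover hg hAa hap hNq' (hW''W'.trans fixMod_le) hM'N haM' hM'W'' hW''ne hfix'
    have hCX : ∀ z ∈ C, ∀ x ∈ X, z * x = x * z := fun z hz x hx => (commute_of_mem_cK hz hx).symm
    have hC'X : ∀ z ∈ C', ∀ x ∈ X', z * x = x * z := fun z hz x hx =>
      (commute_of_mem_cK hz hx).symm
    have hnY : w⁻¹ * (a * w * a⁻¹) ∈ Subgroup.normalizer (Y : Set G) :=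
      move_normalizer (C := C) (V := W) (E := E') hYdef (le_sup_left.trans hMW) hDC haW haJ
        (fun z hz x hx => hCX z hz x (comm_le_self X hx.1)) (fun z hz => hCX z hz a (hAX haA))
        (fun e he => hEa e (hE'E he)) (fun e he => hw.2.2 e (hE'E he)) hw
    have hnY' : w'⁻¹ * (a * w' * a⁻¹) ∈ Subgroup.normalizer (Y : Set G) :=
      move_normalizer (C := C') (V := W'') (E := Dd) (by rw [hYdef, sup_right_comm])
        (le_sup_left.trans hM'W'') (hE'E.trans hEC') haW'' haJ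
        (fun z hz x hx => hC'X z hz x (comm_le_self X' hx.1.1))
        (fun z hz => hC'X z hz a (hAX' haA)) hDa (fun d hd => hw'.2.2 d hd) hw'
    have hAY : A ≤ Subgroup.normalizer (Y : Set G) := by
      rw [hAa, Subgroup.zpowers_le]
      refine cj_eq_self_iff.1 ?_
      rw [hYdef, cj_sup, cj_sup, cj_eq_self_iff.2 haJ, cj_eq_self_iff.2 haD,
        cj_eq_self_of_commute fun x hx => (hEa x (hE'E hx)).symm]
    set n := w⁻¹ * (a * w * a⁻¹) with hn
    set n' := w'⁻¹ * (a * w' * a⁻¹) with hn'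
    have hnN : n ∈ N := (mul_mem (inv_mem hw) (conj_mem_of_mem_normalizer haW hw) : n ∈ W).1
    have hnN' : n' ∈ N' :=
      (mul_mem (inv_mem hw') (conj_mem_of_mem_normalizer haW'' hw') : n' ∈ W'').1.1
    have hPX : cj n A ≤ X := Geo.cj_le_of_mem hAX (comm_le_self X hnN)
    have hPR : ¬ cj n A ≤ R := by
      intro hle
      refine hwM ?_
      have := hg.mem_of_cj_le hX.mg hXo hA hRm hRX hAR hnN hle
      rwa [← Geo.cK_eq h2 hX.mg hXo hA hAX] at this
    have hP'X : ¬ cj n' A ≤ X := houtX' hnN' hwM'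
    have hPY : cj n A ≤ Subgroup.normalizer (Y : Set G) := by
      rw [← cj_eq_self_of_mem hnY]; exact cj_mono hAY
    have hP'Y : cj n' A ≤ Subgroup.normalizer (Y : Set G) := by
      rw [← cj_eq_self_of_mem hnY']; exact cj_mono hAY
    have hJcY : J ≤ Subgroup.centralizer (Y : Set G) :=
      Subgroup.le_centralizer_iff.1 (sup_le (sup_le hJJ hDJ) (hE'E.trans hEJ))
    have hRY : R ≤ Subgroup.normalizer (Y : Set G) := by
      conv_lhs => rw [← hg.eq_der_sup hRm hA hAR]
      exact sup_le (hJcY.trans (Subgroup.centralizer_le_normalizer _)) hAY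
    have hHY : H ≤ Subgroup.centralizer (Y : Set G) := by
      refine Subgroup.le_centralizer_iff.1 (sup_le (sup_le ?_ ?_) (hE'E.trans hEH))
      · exact Subgroup.le_centralizer_iff.1 hHJ
      · exact fun d hd => mem_centralizer_of_commute fun x hx => hCC x (hHC hx) d (hDC hd)
    have hYo : Odd (Nat.card Y) := by
      have hJq : IsPGroup q J := hNq.to_le hJN
      have hDq : IsPGroup q Dd := (h.cK_qgroup hX.mg hX.ne_top).to_le hDC
      have := Fact.mk h.hq
      refine hg.odd_card ?_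
      refine IsPGroup.to_sup_of_normal_left'
        (hJq.to_sup_of_normal_left' hDq (hDJ.trans (Subgroup.centralizer_le_normalizer _)))
        (hEq.to_le hE'E) ?_
      exact (le_trans (show E' ≤ Subgroup.centralizer ((J ⊔ Dd : Subgroup G) : Set G) from
        Subgroup.le_centralizer_iff.1 (sup_le (Subgroup.le_centralizer_iff.1 (hE'E.trans hEJ))
          (Subgroup.le_centralizer_iff.1 hE'D))) (Subgroup.centralizer_le_normalizer _))
    have hYne : Y ≠ ⊥ := fun e => hJne (le_bot_iff.1 (e ▸ le_sup_left.trans le_sup_left))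
    set S := mgen D (Subgroup.normalizer (Y : Set G)) with hSdef
    have hSm : mgen D S = S := mgen_mgen _ _
    have hSt : S ≠ ⊤ := h.mgen_normalizer_ne hYo hYne
    have hRS : R ≤ S := by
      conv_lhs => rw [← hRm]
      exact mgen_mono hRY
    have hP'S : cj n' A ≤ S := le_mgen (h.inv A hA n') hP'Y
    have hHnS : ∀ c ∈ H, cj c S = S := hHS hHY
    by_cases hcS : cK S = ⊥
    · rcases hcase with hHeq | hcp
      · exact h.abelian_case h2 hX hA hAX hSm hSt (hAR.trans hRS)
          (fun hle => hP'X (hP'S.trans hle)) (fun c hc => hHnS c (hHeq ▸ hc)) hcS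
      · obtain ⟨k, hk, e⟩ := hg.exists_cj_in hSm (h.proper S hSm hSt) hA (hAR.trans hRS)
          (h.inv A hA n') hP'S
        refine hcor hcp (cj n' A) (h.inv A hA n') ?_ hP'X
        have hkJ : k ∈ Subgroup.centralizer (J : Set G) := mem_centralizer_of_commute fun j hj =>
          h.der_comm h2 hSm hSt hA (hAR.trans hRS) hcS (Subgroup.commutator_mono hRS hRS hj) hk
        rw [e, ← cj_eq_self_of_mem (Subgroup.centralizer_le_normalizer _ hkJ :
          k ∈ Subgroup.normalizer (J : Set G))]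
        exact cj_mono (hAR.trans (Geo.le_normalizer_der R))
    · obtain ⟨X'', hX'', hSX⟩ := h.exists_cmax h2 hSm hSt hA (hAR.trans hRS) hcS
      have hne'' : X ≠ X'' := fun e => hP'X (e ▸ hP'S.trans hSX)
      have hHX'' : ∀ c ∈ H, cj c X'' = X'' := by
        intro c hc
        refine h.cmax_unique h2 (h.cmax_cj hX'' c) hX'' hA (hAR.trans hRS) ?_ hSX hcS
        rw [← hHnS c hc]; exact cj_mono hSX
      set R'' := mgen D (X ⊓ X'') with hR''
      have hRR : R ≤ R'' := by
        conv_lhs => rw [← hRm]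
        exact mgen_mono (le_inf hRX (hRS.trans hSX))
      have hlt : R < R'' := lt_of_le_of_ne hRR fun e => hPR (e ▸
        le_mgen (h.inv A hA n) (le_inf hPX ((le_mgen (h.inv A hA n) hPY).trans hSX)))
      have hcard : Nat.card R < Nat.card R'' := by
        refine lt_of_le_of_ne (Subgroup.card_le_of_le hRR) fun e => ?_
        exact hlt.ne (Subgroup.eq_of_le_of_card_ge hRR e.ge)
      have hle : Nat.card R'' ≤ Nat.card G := Subgroup.card_le_card_group R''
      refine ih (Nat.card G - Nat.card R'') (by omega) X X'' A H rfl hX hX'' hA hAX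
        ((hAR.trans hRS).trans hSX) hne'' (fun e => ?_) hHC hH hHX'' hcase
      exact hRA (le_antisymm (e ▸ hRR) hAR)

theorem cor (h : MinEx p q D) (h2 : Alt2 D) {X : Subgroup G} (hX : CMax D X) : CorP D X := by
  intro A hA hAX S hS hSt hAS hne hC
  by_contra hSX
  by_cases hc : cK S = ⊥
  · exact h.abelian_case h2 hX hA hAX hS hSt hAS hSX hC hc
  obtain ⟨X0, hX0, hSX0⟩ := h.exists_cmax h2 hS hSt hA hAS hc
  refine h.ct_aux h2 _ X X0 A (cK X) rfl hX hX0 hA hAX (hAS.trans hSX0)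
    (fun e => hSX (e ▸ hSX0)) ?_ le_rfl hX.ne_bot ?_ (Or.inl rfl)
  · intro e
    refine hne (le_antisymm ?_ (le_mgen hA (le_inf hAX hAS)))
    rw [← e]
    exact mgen_mono (inf_le_inf le_rfl hSX0)
  · intro c hc'
    refine h.cmax_unique h2 (h.cmax_cj hX0 c) hX0 hA hAS ?_ hSX0 hc
    rw [← hC c hc']; exact cj_mono hSX0

theorem ct (h : MinEx p q D) (h2 : Alt2 D) {X X' A : Subgroup G} (hX : CMax D X)
    (hX' : CMax D X') (hA : A ∈ D) (hAX : A ≤ X) (hAX' : A ≤ X') (hne : X ≠ X')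
    (hR : mgen D (X ⊓ X') ≠ A) {c : G} (hc : c ∈ cK X) (hc1 : c ≠ 1) (hcX : cj c X' = X') :
    False := by
  refine h.ct_aux h2 _ X X' A (Subgroup.zpowers c) rfl hX hX' hA hAX hAX' hne hR
    (Subgroup.zpowers_le.2 hc) (fun e => hc1 ?_) ?_ (Or.inr (h.cor h2 hX))
  · exact Subgroup.zpowers_eq_bot.1 e
  · intro x hx
    exact cj_eq_self_iff.2 (Subgroup.zpowers_le.2 (cj_eq_self_iff.1 hcX) hx)

end MinEx

end Cfsg.Agent.Lib.PairOdd
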