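import Cfsg.Agent.Lib.PairOdd.Invol

/-!
# Central parts of inverted lines lie in the odd core of the centraliser
-/

set_option autoImplicit false

namespace Cfsg.Agent.Lib.PairOdd

open scoped commutatorElement

universe u

variable {G : Type u} [Group G] [Finite G] {p q : ℕ} {D : Set (Subgroup G)}

namespace MinEx

theorem cj_iterate (g : G) (n : ℕ) (H : Subgroup G) : (cj g)^[n] H = cj (g ^ n) H := by
  induction n with
  | zero => simp
  | succ n ih => rw [Function.iterate_succ_apply', ih, ← cj_mul, pow_succ']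

/-- The members centralised by an involution generate a proper subgroup. -/
theorem mgen_fixed_ne_top (h : MinEx p q D) {s : G} (hs : orderOf s = 2) :
    mgen D (Subgroup.centralizer ({s} : Set G)) ≠ ⊤ :=
  h.mgen_centralizer_ne (Involutions.Basic.invol_ne_one hs)

theorem mgen_fixed_ne (h : MinEx p q D) {s : G} (hs : orderOf s = 2) {A : Subgroup G} (hA : A ∈ D)
    (hAU : A ≤ mgen D (Subgroup.centralizer ({s} : Set G))) :
    mgen D (Subgroup.centralizer ({s} : Set G)) ≠ A := by
  intro e
  have hss := Involutions.Basic.invol_mul_self hs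
  obtain ⟨E, hE, hEA, hsE⟩ := h.fixed_set_ne hs hA
    (Geo.fixed_of_le_centralizer (hAU.trans (mgen_le _ _)))
  exact hEA (h.toGeo.eq_of_le hE hA (e ▸ h.toGeo.le_mgen_centralizer h.gen hE hss hsE))

theorem cj_mgen_fixed (h : MinEx p q D) {s g : G} (hg : g * s = s * g) :
    cj g (mgen D (Subgroup.centralizer ({s} : Set G))) =
      mgen D (Subgroup.centralizer ({s} : Set G)) := by
  rw [h.toGeo.cj_mgen, cj_eq_self_of_mem]
  exact Subgroup.mem_centralizer_singleton_iff.2 hg

/-- A maximal subgroup whose central part meets `C(s)` contains all members centralised by `s`. -/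
theorem fixed_le (h : MinEx p q D) (h2 : Alt2 D) {s : G} (hs : orderOf s = 2)
    {X A : Subgroup G} (hX : CMax D X) (hA : A ∈ D) (hAX : A ≤ X)
    (hAU : A ≤ mgen D (Subgroup.centralizer ({s} : Set G))) {c : G} (hc : c ∈ cK X) (hc1 : c ≠ 1)
    (hcs : c * s = s * c) : mgen D (Subgroup.centralizer ({s} : Set G)) ≤ X := by
  have hg := h.toGeo
  set U := mgen D (Subgroup.centralizer ({s} : Set G)) with hU
  have hUm : mgen D U = U := mgen_mgen _ _
  have hUt : U ≠ ⊤ := h.mgen_fixed_ne_top hs
  have hUo := h.proper U hUm hUt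
  have hcU : cj c U = U := h.cj_mgen_fixed hcs
  -- a second member of `U` centralised by `c`
  have := Fact.mk h.hq
  obtain ⟨k, hk⟩ := h.cK_qgroup hX.mg hX.ne_top ⟨c, hc⟩
  have hck : c ^ q ^ k = 1 := congrArg Subtype.val hk
  let f : {F : Subgroup G // F ∈ D ∧ F ≤ U} → {F : Subgroup G // F ∈ D ∧ F ≤ U} := fun F =>
    ⟨cj c F.1, h.inv _ F.2.1 c, (cj_mono F.2.2).trans_eq hcU⟩
  have hkey : ∀ (n : ℕ) (F : {F : Subgroup G // F ∈ D ∧ F ≤ U}), (f^[n] F).1 = cj (c ^ n) F.1 := by
    intro n
    induction n with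
    | zero => simp
    | succ n ih =>
      intro F
      rw [Function.iterate_succ_apply, ih (f F), pow_succ, cj_mul]
  have hf : f^[q ^ k] = id := funext fun F => Subtype.ext (by rw [hkey, hck, cj_one]; rfl)
  have hcA : cj c A = A :=
    cj_eq_self_of_commute fun x hx => (commute_of_mem_cK hc (hAX hx)).symm
  obtain ⟨⟨E, hE, hEU⟩, hfix, hne⟩ := exists_fixed_of_iterate' h.hq f hf (by
    obtain ⟨j, hj⟩ := (h.der_qgroup hUm hUt).exists_card_eq
    obtain ⟨i, -, hi⟩ := (Nat.dvd_prime_pow h.hq).1 (hj ▸ hg.card_members_dvd hUm hUo hA hAU)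
    rw [hi]
    refine dvd_pow_self q fun hi0 => ?_
    rw [hi0, pow_zero] at hi
    obtain ⟨E, hE, hEA, hsE⟩ := h.fixed_set_ne hs hA
      (Geo.fixed_of_le_centralizer (hAU.trans (mgen_le _ _)))
    have := (Nat.card_eq_one_iff_unique.1 hi).1
    exact hEA (congrArg Subtype.val (Subsingleton.elim
      (⟨E, hE, hg.le_mgen_centralizer h.gen hE (Involutions.Basic.invol_mul_self hs) hsE⟩ :
        {F : Subgroup G // F ∈ D ∧ F ≤ U}) ⟨A, hA, hAU⟩)))
    (a := ⟨A, hA, hAU⟩) (Subtype.ext hcA)
  have hEA : E ≠ A := fun e => hne (Subtype.ext e)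
  have hEX : E ≤ X := by
    rw [← h.cmax_centralizer hX hc hc1]
    refine le_mgen hE fun e he => Subgroup.mem_centralizer_singleton_iff.2 ?_
    exact Subgroup.mem_centralizer_iff.1 (hg.centralizes_member hA hE
      (mem_centralizer_of_commute fun x hx => commute_of_mem_cK hc (hAX hx))
      (congrArg Subtype.val hfix)) e he
  set R := mgen D (X ⊓ U) with hR
  have hRne : R ≠ A := fun e => hEA (hg.eq_of_le hE hA (e ▸ le_mgen hE (le_inf hEX hEU)))
  have hRm : mgen D R = R := mgen_mgen _ _
  have hAR : A ≤ R := le_mgen hA (le_inf hAX hAU)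
  have hRX : R ≤ X := (mgen_le _ _).trans inf_le_left
  have hRU : R ≤ U := (mgen_le _ _).trans inf_le_right
  by_cases hcU0 : cK U = ⊥
  · set J : Subgroup G := ⁅R, R⁆ with hJ
    have hJne : J ≠ ⊥ := hg.der_ne_bot_of_ne hRm hA hAR hRne
    have hJo : Odd (Nat.card J) :=
      hUo.of_dvd_nat (Subgroup.card_dvd_of_le ((comm_le_self R).trans hRU))
    have hUS : U ≤ mgen D (Subgroup.normalizer (J : Set G)) := by
      conv_lhs => rw [← hUm]
      refine mgen_le_iff.2 fun F hF hFU => le_mgen hF ?_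
      obtain ⟨n, hn, rfl⟩ := hg.exists_cj_in hUm hUo hA hAU hF hFU
      have hnJ : n ∈ Subgroup.normalizer (J : Set G) := Subgroup.centralizer_le_normalizer _
        (mem_centralizer_of_commute fun x hx => h.der_comm h2 hUm hUt hA hAU hcU0
          (Subgroup.commutator_mono hRU hRU hx) hn)
      rw [← cj_eq_self_of_mem hnJ]
      exact cj_mono (hAR.trans (Geo.le_normalizer_der R))
    refine hUS.trans (h.cor h2 hX A hA hAX _ (mgen_mgen _ _) (h.mgen_normalizer_ne hJo hJne)
      (hAU.trans hUS) ?_ ?_)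
    · intro e
      refine hRne (le_antisymm ?_ hAR)
      rw [← e]
      exact mgen_mono (inf_le_inf le_rfl hUS)
    · intro d hd
      rw [hg.cj_mgen, cj_eq_self_of_mem]
      exact Subgroup.centralizer_le_normalizer _ (mem_centralizer_of_commute fun x hx =>
        commute_of_mem_cK hd (hRX (comm_le_self R hx)))
  · obtain ⟨XU, hXU, hUX⟩ := h.exists_cmax h2 hUm hUt hA hAU hcU0
    by_contra hnot
    have hcXU : cj c XU = XU :=
      h.cmax_unique h2 (h.cmax_cj hXU c) hXU hA hAU (hcU ▸ cj_mono hUX) hUX hcU0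
    refine h.ct h2 hX hXU hA hAX (hAU.trans hUX) (fun e => hnot (e ▸ hUX)) ?_ hc hc1 hcXU
    intro e
    refine hRne (le_antisymm ?_ hAR)
    rw [← e]
    exact mgen_mono (inf_le_inf le_rfl hUX)

/-- There is only one maximal subgroup invariant under `s` containing all members fixed by `s`. -/
theorem fixed_unique (h : MinEx p q D) (h2 : Alt2 D) {s : G} (hs : orderOf s = 2)
    {X X' A : Subgroup G} (hX : CMax D X) (hX' : CMax D X') (hsX : cj s X = X)
    (hsX' : cj s X' = X') (hA : A ∈ D) (hAU : A ≤ mgen D (Subgroup.centralizer ({s} : Set G)))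
    (hUX : mgen D (Subgroup.centralizer ({s} : Set G)) ≤ X)
    (hUX' : mgen D (Subgroup.centralizer ({s} : Set G)) ≤ X') : X = X' := by
  have hg := h.toGeo
  have hss := Involutions.Basic.invol_mul_self hs
  have hsi := Involutions.Basic.invol_inv hs
  set U := mgen D (Subgroup.centralizer ({s} : Set G)) with hU
  by_contra hne
  have hUm : mgen D U = U := mgen_mgen _ _
  have hUt : U ≠ ⊤ := h.mgen_fixed_ne_top hs
  have hUo := h.proper U hUm hUt
  have hUA : U ≠ A := h.mgen_fixed_ne hs hA hAU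
  have hXo := h.odd_cmax hX
  have hXo' := h.odd_cmax hX'
  have hsA : ∀ x ∈ U, x * s = s * x := fun x hx =>
    Subgroup.mem_centralizer_singleton_iff.1 (mgen_le _ _ hx)
  by_cases hall : ∀ d ∈ cK X, d * s = s * d
  · set T : Subgroup G := ⁅U, U⁆ with hT
    have hTne : T ≠ ⊥ := hg.der_ne_bot_of_ne hUm hA hAU hUA
    have hcU : cK U = ⊥ := by
      rw [eq_bot_iff]
      intro z hz
      exact Subgroup.mem_bot.2 (h.cmax_inf hX hX' hne (Geo.cK_mono h2 hX.mg hXo hA hAU hUX hz)
        (Geo.cK_mono h2 hX'.mg hXo' hA hAU hUX' hz))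
    have hTU : T ≤ U := comm_le_self U
    set N : Subgroup G := ⁅X, X⁆ with hN
    set Cn := N ⊓ Subgroup.centralizer (T : Set G) with hCn
    have hsN : s ∈ Subgroup.normalizer (N : Set G) :=
      cj_eq_self_iff.1 (by rw [hN, cj_commutator, hsX])
    have hTN : T ≤ N := Subgroup.commutator_mono hUX hUX
    have hsCn : s ∈ Subgroup.normalizer (Cn : Set G) := by
      refine mem_normalizer_of_conj_mem fun x hx =>
        Subgroup.mem_inf.2 ⟨conj_mem_of_mem_normalizer hsN hx.1, ?_⟩
      refine mem_centralizer_of_commute fun t ht => ?_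
      have hts := hsA t (hTU ht)
      calc t * (s * x * s⁻¹) = (t * s) * x * s⁻¹ := by group
        _ = s * (t * x) * s⁻¹ := by rw [hts]; group
        _ = s * (x * t) * s⁻¹ := by rw [Subgroup.mem_centralizer_iff.1 hx.2 t ht]
        _ = s * x * (t * s⁻¹) := by group
        _ = s * x * s⁻¹ * t := by rw [hsi, hts]; group
    have hNT : ∀ w ∈ N, w ∈ Subgroup.centralizer (T : Set G) := by
      intro w hw
      set z := w⁻¹ * (s * w * s⁻¹) with hz
      have hzN : z ∈ N := mul_mem (inv_mem hw) (conj_mem_of_mem_normalizer hsN hw)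
      have hzT : z ∈ Subgroup.centralizer (T : Set G) := by
        refine mem_centralizer_of_commute fun t ht => ?_
        have hk : ⁅t, z⁆ ∈ cK X := by
          rw [Geo.cK_eq h2 hX.mg hXo hA (hAU.trans hUX)]
          exact ⟨comm_le_self _ (Subgroup.commutator_mem_commutator (hTN ht) hzN),
            (h2 X hX.mg hXo A hA (hAU.trans hUX)).1
              (Subgroup.commutator_mem_commutator (hTN ht) hzN)⟩
        have hszs : s * z * s⁻¹ = z⁻¹ := by
          calc s * z * s⁻¹ = (s * w⁻¹ * s⁻¹) * ((s * s) * w * (s * s)⁻¹) := by rw [hz]; group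
            _ = _ := by rw [hss, hz]; group
        have hkinv : ⁅t, z⁆ = ⁅t, z⁆⁻¹ := by
          have h1 : s * ⁅t, z⁆ * s⁻¹ = ⁅t, z⁆ := by rw [← hall _ hk, mul_inv_cancel_right]
          calc ⁅t, z⁆ = s * ⁅t, z⁆ * s⁻¹ := h1.symm
            _ = ⁅s * t * s⁻¹, s * z * s⁻¹⁆ := by simp [commutatorElement_def, mul_assoc]
            _ = ⁅t, z⁻¹⁆ := by rw [hszs, ← hsA t (hTU ht), mul_inv_cancel_right]
            _ = z⁻¹ * ⁅t, z⁆⁻¹ * z := by simp [commutatorElement_def, mul_assoc]
            _ = ⁅t, z⁆⁻¹ := by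
              rw [commute_of_mem_cK (inv_mem hk) (inv_mem (comm_le_self X hzN)),
                inv_mul_cancel_right]
        have hk1 : ⁅t, z⁆ = 1 := by
          by_contra hk1
          have ho : orderOf ⁅t, z⁆ = 2 := orderOf_eq_prime (by
            rw [pow_two]; exact eq_inv_iff_mul_eq_one.1 hkinv) hk1
          have hd2 := orderOf_dvd_natCard (⟨_, hk⟩ : cK X)
          rw [Subgroup.orderOf_mk, ho] at hd2
          exact Nat.not_even_iff_odd.2 (hg.odd_card (h.cK_qgroup hX.mg hX.ne_top))
            (even_iff_two_dvd.2 hd2)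
        exact commutatorElement_eq_one_iff_mul_comm.1 hk1
      have hCnodd : ¬ 2 ∣ Nat.card Cn := fun hd => Nat.not_even_iff_odd.2
        (hg.odd_card ((h.der_qgroup hX.mg hX.ne_top).to_le inf_le_left)) (even_iff_two_dvd.2 hd)
      obtain ⟨m, hm, hc⟩ := exists_fixed_lift Nat.prime_two (by rw [pow_two]; exact hss) hCnodd
        hsCn (r := w) (Subgroup.mem_inf.2 ⟨hzN, hzT⟩)
      have hwmN : w * m ∈ N := mul_mem hw hm.1
      have hfix : cj s (cj (w * m) A) = cj (w * m) A := by
        rw [← cj_mul, hc, cj_mul, Geo.fixed_of_le_centralizer (hAU.trans (mgen_le _ _))]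
      have hle : cj (w * m) A ≤ U := hg.le_mgen_centralizer h.gen (h.inv A hA _) hss hfix
      have hmem := hg.mem_of_cj_le hX.mg hXo hA hUm hUX hAU hwmN hle
      rw [← Geo.cK_eq h2 hX.mg hXo hA (hAU.trans hUX)] at hmem
      have hcen : T ⊔ cK X ≤ Subgroup.centralizer (T : Set G) := sup_le
        (fun x hx => mem_centralizer_of_commute fun y hy =>
          h.der_comm h2 hUm hUt hA hAU hcU hy hx)
        (fun x hx => mem_centralizer_of_commute fun y hy =>
          commute_of_mem_cK hx (comm_le_self X (hTN hy)))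
      have := mul_mem (hcen hmem) (inv_mem hm.2)
      rwa [mul_inv_cancel_right] at this
    have hTo : Odd (Nat.card T) := hUo.of_dvd_nat (Subgroup.card_dvd_of_le hTU)
    have hXS : X ≤ mgen D (Subgroup.normalizer (T : Set G)) := by
      conv_lhs => rw [← hX.mg]
      refine mgen_le_iff.2 fun F hF hFX => le_mgen hF ?_
      obtain ⟨n, hn, rfl⟩ := hg.exists_cj_in hX.mg hXo hA (hAU.trans hUX) hF hFX
      rw [← cj_eq_self_of_mem (Subgroup.centralizer_le_normalizer _ (hNT n hn) :
        n ∈ Subgroup.normalizer (T : Set G))]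
      exact cj_mono (hAU.trans (Geo.le_normalizer_der U))
    have hXX' : X ≤ X' := by
      refine hXS.trans (h.cor h2 hX' A hA (hAU.trans hUX') _ (mgen_mgen _ _)
        (h.mgen_normalizer_ne hTo hTne) ((hAU.trans hUX).trans hXS) ?_ ?_)
      · intro e
        refine hUA (le_antisymm ?_ hAU)
        rw [← e]
        conv_lhs => rw [← hUm]
        exact mgen_mono (le_inf hUX' (hUX.trans hXS))
      · intro d hd
        rw [hg.cj_mgen, cj_eq_self_of_mem]
        exact Subgroup.centralizer_le_normalizer _ (mem_centralizer_of_commute fun x hx =>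
          commute_of_mem_cK hd (hUX' (hTU hx)))
    exact hne (hX.max X' hX'.mg hX'.ne_top hXX').symm
  · push Not at hall
    obtain ⟨d, hd, hds⟩ := hall
    set s' := d⁻¹ * s * d with hs'
    have hs's' : s' * s' = 1 := by
      calc s' * s' = d⁻¹ * (s * s) * d := by rw [hs']; group
        _ = 1 := by rw [hss]; group
    have hs'X' : cj s' X' = X' := by
      refine cj_eq_of_le ?_
      rw [cj_le_iff]
      conv_lhs => rw [← hX'.mg]
      refine mgen_le_iff.2 fun B hB hBX' => cj_le_iff.1 ?_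
      by_cases hfix : cj s' B = B
      · rwa [hfix]
      obtain ⟨F, hF, hFL, hs'F⟩ :=
        hg.exists_fixed_member hB (h.inv B hB s') (Ne.symm hfix) hs's' rfl
      have hdF : cj s (cj d F) = cj d F := by
        conv_rhs => rw [← hs'F]
        rw [← cj_mul, ← cj_mul, hs']
        congr 1
        group
      have hdFU : cj d F ≤ U := hg.le_mgen_centralizer h.gen (h.inv F hF d) hss hdF
      have hFU : F ≤ U := by
        have e : cj d⁻¹ (cj d F) = cj d F := cj_eq_self_of_commute fun x hx =>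
          (commute_of_mem_cK (inv_mem hd) (hUX (hdFU hx))).symm
        rw [cj_inv_cj] at e
        exact e.le.trans hdFU
      have hFB : F ≠ B := fun e => hfix (e ▸ hs'F)
      have e := hg.gen2 B hB _ (h.inv B hB s') (Ne.symm hfix) F hF B hB hFL le_sup_left hFB
      exact (le_sup_right.trans e.ge).trans (sup_le (hFU.trans hUX') hBX')
    set c := s * s' with hc
    have hcX : c ∈ cK X := by
      have h1 : s * d⁻¹ * s⁻¹ ∈ cK X := by
        have := conj_mem_cj (g := s) (inv_mem hd)
        rwa [cj_cK, hsX] at this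
      have e : c = s * d⁻¹ * s⁻¹ * d := by rw [hc, hs', hsi]; group
      rw [e]
      exact mul_mem h1 hd
    have hc1 : c ≠ 1 := by
      intro e
      refine hds ?_
      have e1 : s' = s := by
        rw [← inv_eq_of_mul_eq_one_right (hc ▸ e : s * s' = 1), hsi]
      rw [hs', mul_assoc, inv_mul_eq_iff_eq_mul] at e1
      exact e1.symm
    refine h.ct h2 hX hX' hA (hAU.trans hUX) (hAU.trans hUX') hne ?_ hcX hc1 ?_
    · intro e
      refine hUA (le_antisymm ?_ hAU)
      rw [← e]
      conv_lhs => rw [← hUm]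
      exact mgen_mono (le_inf hUX hUX')
    · rw [hc, cj_mul, hs'X', hsX']

theorem le_centralizerPPrimeCore {s : G} {N : Subgroup G}
    (hN : N ≤ Subgroup.centralizer ({s} : Set G))
    (hnorm : Subgroup.centralizer ({s} : Set G) ≤ Subgroup.normalizer (N : Set G))
    (hodd : Odd (Nat.card N)) : N ≤ Cfsg.centralizerPPrimeCore 2 s := by
  have : (N.subgroupOf (Subgroup.centralizer ({s} : Set G))).Normal :=
    (Subgroup.normal_subgroupOf_iff_le_normalizer hN).2 hnorm
  rw [← map_subtype_subgroupOf hN]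
  refine Subgroup.map_mono (Cores.le_pPrimeCore ?_)
  rw [Nat.coprime_two_right, ← Subgroup.card_map_of_injective (Subgroup.subtype_injective _),
    map_subtype_subgroupOf hN]
  exact hodd

/-- Central parts of inverted lines are in the odd core of the centraliser. -/
theorem line_central_mem (h : MinEx p q D) (h2 : Alt2 D) {s : G} (hs : orderOf s = 2)
    {B E : Subgroup G} (hB : B ∈ D) (hsB : cj s B ≠ B) (hE : E ∈ D) (hEL : E ≤ B ⊔ cj s B)
    (hsE : cj s E = E) {c : G} (hc : c ∈ cK (B ⊔ cj s B)) (hcs : c * s = s * c) :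
    c ∈ Cfsg.centralizerPPrimeCore 2 s := by
  rcases eq_or_ne c 1 with rfl | hc1
  · exact one_mem _
  have hg := h.toGeo
  have hss := Involutions.Basic.invol_mul_self hs
  set L := B ⊔ cj s B with hL
  set U := mgen D (Subgroup.centralizer ({s} : Set G)) with hU
  have hB' := h.inv B hB s
  have hLm : mgen D L = L :=
    le_antisymm (mgen_le _ _) (sup_le (le_mgen hB le_sup_left) (le_mgen hB' le_sup_right))
  have hLt : L ≠ ⊤ := by
    intro e
    have := hg.odd_line hB hB' (Ne.symm hsB)
    rw [← hL, e, Subgroup.card_top] at this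
    exact Nat.not_even_iff_odd.2 this h.even
  have hLc : cK L ≠ ⊥ := fun e => hc1 (Subgroup.mem_bot.1 (e ▸ hc))
  obtain ⟨X, hX, hLX⟩ := h.exists_cmax h2 hLm hLt hB le_sup_left hLc
  have hsL : cj s L = L := by rw [hL, cj_sup, ← cj_mul, hss, cj_one, sup_comm]
  have hsX : cj s X = X :=
    h.cmax_unique h2 (h.cmax_cj hX s) hX hB le_sup_left (hsL.ge.trans (cj_mono hLX)) hLX hLc
  have hcX : c ∈ cK X := Geo.cK_mono h2 hX.mg (h.odd_cmax hX) hB le_sup_left hLX hc
  have hEU : E ≤ U := hg.le_mgen_centralizer h.gen hE hss hsE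
  have hUX : U ≤ X := h.fixed_le h2 hs hX hE (hEL.trans hLX) hEU hcX hc1 hcs
  refine le_centralizerPPrimeCore (N := cK X ⊓ Subgroup.centralizer ({s} : Set G)) inf_le_right ?_
    ((hg.odd_card (h.cK_qgroup hX.mg hX.ne_top)).of_dvd_nat
      (Subgroup.card_dvd_of_le inf_le_left))
    (Subgroup.mem_inf.2 ⟨hcX, Subgroup.mem_centralizer_singleton_iff.2 hcs⟩)
  intro g hgs
  have hgs' : g * s = s * g := Subgroup.mem_centralizer_singleton_iff.1 hgs
  have hgU : cj g U = U := h.cj_mgen_fixed hgs'
  have hgX : cj g X = X := by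
    refine h.fixed_unique h2 hs (h.cmax_cj hX g) hX ?_ hsX hE hEU (hgU.ge.trans (cj_mono hUX)) hUX
    rw [← cj_mul, ← hgs', cj_mul, hsX]
  refine cj_eq_self_iff.1 ?_
  rw [cj, Subgroup.map_inf _ _ _ (MulAut.conj g).injective, ← cj, ← cj, cj_cK_eq hgX,
    cj_eq_self_of_mem hgs]

theorem fixed_mem_core (h : MinEx p q D) {s : G} (hs : orderOf s = 2) :
    mgen D (Subgroup.centralizer ({s} : Set G)) ≤ Cfsg.centralizerPPrimeCore 2 s :=
  le_centralizerPPrimeCore (mgen_le _ _)
    (Subgroup.le_normalizer.trans (h.toGeo.normalizer_le_mgen _))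
    (h.proper _ (mgen_mgen _ _) (h.mgen_fixed_ne_top hs))

end MinEx

end Cfsg.Agent.Lib.PairOdd
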