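import Cfsg.Agent.Lib.PairOdd.Str

/-!
# Deriving the line geometry from a fixed pair group of odd order
-/

set_option autoImplicit false

namespace Cfsg.Agent.Lib.PairOdd

open scoped commutatorElement

universe u v

variable {G : Type u} [Group G] [Finite G] {F : Type v} [Group F] [Finite F]
  {p : ℕ} {D : Set (Subgroup G)}

theorem eq_one_of_shift {q : ℕ} (hp : p.Prime) (hq : q.Prime) (hpq : q ≠ p) {a w k : G} {N : Subgroup G}
    (hN : IsPGroup q N) (hkN : k ∈ N) (hap : a ^ p = 1) (hk : a * k * a⁻¹ = k)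
    (hw : a * w * a⁻¹ = w * k) : k = 1 := by
  have key : ∀ i : ℕ, a ^ i * w * (a ^ i)⁻¹ = w * k ^ i := by
    intro i
    induction i with
    | zero => simp
    | succ i ih =>
      have hki : a * k ^ i * a⁻¹ = k ^ i := by
        rw [← conj_pow, hk]
      calc a ^ (i + 1) * w * (a ^ (i + 1))⁻¹ = a * (a ^ i * w * (a ^ i)⁻¹) * a⁻¹ := by
            rw [pow_succ']; group
        _ = a * (w * k ^ i) * a⁻¹ := by rw [ih]
        _ = (a * w * a⁻¹) * (a * k ^ i * a⁻¹) := by group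
        _ = w * k * k ^ i := by rw [hw, hki]
        _ = w * k ^ (i + 1) := by rw [pow_succ', mul_assoc]
  have h1 := key p
  rw [hap, one_mul, inv_one, mul_one, left_eq_mul] at h1
  have := Fact.mk hq
  obtain ⟨j, hj⟩ := hN ⟨k, hkN⟩
  have h2 : k ^ q ^ j = 1 := congrArg Subtype.val hj
  have h3 : orderOf k ∣ Nat.gcd p (q ^ j) :=
    Nat.dvd_gcd (orderOf_dvd_of_pow_eq_one h1) (orderOf_dvd_of_pow_eq_one h2)
  have hcop : Nat.gcd p (q ^ j) = 1 :=
    Nat.Coprime.pow_right _ ((Nat.coprime_primes hp hq).2 hpq.symm)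
  rw [hcop, Nat.dvd_one] at h3
  exact orderOf_eq_one_iff.1 h3

/-- The hypotheses on the pairs. -/
structure PairHyp (p : ℕ) (D : Set (Subgroup G)) (F : Type v) [Group F] : Prop where
  hp : p.Prime
  hp2 : p ≠ 2
  card : ∀ A ∈ D, Nat.card A = p
  inv : ∀ A ∈ D, ∀ g : G, cj g A ∈ D
  gen : sSup D = ⊤
  nonab : ¬ IsMulCommutative G
  oddF : Odd (Nat.card F)
  pair : ∀ A ∈ D, ∀ B ∈ D, A ≠ B → Nonempty (↥(A ⊔ B) ≃* F)

namespace PairHyp

variable {A B : Subgroup G}

theorem card_sup (h : PairHyp p D F) (hA : A ∈ D) (hB : B ∈ D) (hne : A ≠ B) :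
    Nat.card (A ⊔ B : Subgroup G) = Nat.card F := by
  obtain ⟨e⟩ := h.pair A hA B hB hne
  exact Nat.card_congr e.toEquiv

theorem exists_gen (h : PairHyp p D F) (hA : A ∈ D) :
    ∃ a : G, A = Subgroup.zpowers a ∧ a ≠ 1 ∧ a ^ p = 1 := by
  have hne : A ≠ ⊥ := fun e => by
    have := h.card A hA
    rw [e, Subgroup.card_bot] at this
    exact h.hp.one_lt.ne this
  obtain ⟨⟨a, ha⟩, ha1⟩ := A.ne_bot_iff_exists_ne_one.1 hne
  have h1 : a ≠ 1 := fun e => ha1 (Subtype.ext e)
  have hap : a ^ p = 1 := by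
    have := pow_card_eq_one' (G := A) (x := ⟨a, ha⟩)
    rw [h.card A hA] at this
    exact congrArg Subtype.val this
  refine ⟨a, ?_, h1, hap⟩
  have := Fact.mk h.hp
  exact (Subgroup.eq_of_le_of_card_ge (Subgroup.zpowers_le.2 ha)
    (by rw [h.card A hA, Nat.card_zpowers, orderOf_eq_prime hap h1])).symm

theorem commute_self (h : PairHyp p D F) (hA : A ∈ D) :
    A ≤ Subgroup.centralizer (A : Set G) := by
  obtain ⟨a, hAa, -, -⟩ := h.exists_gen hA
  intro x hx
  refine mem_centralizer_of_commute fun y hy => ?_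
  rw [hAa] at hx hy
  obtain ⟨i, rfl⟩ := Subgroup.mem_zpowers_iff.1 hx
  obtain ⟨j, rfl⟩ := Subgroup.mem_zpowers_iff.1 hy
  rw [← zpow_add, ← zpow_add, add_comm]

/-- No two members commute. -/
theorem not_commute (h : PairHyp p D F) (hA : A ∈ D) (hB : B ∈ D) (hne : A ≠ B) :
    ¬ A ≤ Subgroup.centralizer (B : Set G) := by
  intro hle
  have hF : ∀ x y : F, x * y = y * x := by
    obtain ⟨e⟩ := h.pair A hA B hB hne
    have hcom : A ⊔ B ≤ Subgroup.centralizer ((A ⊔ B : Subgroup G) : Set G) := by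
      refine sup_le ?_ ?_
      · exact Subgroup.le_centralizer_iff.1
          (sup_le (h.commute_self hA) (Subgroup.le_centralizer_iff.1 hle))
      · exact Subgroup.le_centralizer_iff.1
          (sup_le hle (h.commute_self hB))
    intro x y
    refine e.symm.injective ?_
    rw [map_mul, map_mul]
    exact Subtype.ext (Subgroup.mem_centralizer_iff.1 (hcom (e.symm y).2) _ (e.symm x).2)
  refine h.nonab ⟨⟨fun x y => ?_⟩⟩
  have hle2 : ∀ C ∈ D, ∀ E ∈ D, C ≤ Subgroup.centralizer (E : Set G) := by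
    intro C hC E hE
    rcases eq_or_ne C E with rfl | hne'
    · exact h.commute_self hC
    · obtain ⟨e⟩ := h.pair C hC E hE hne'
      intro c hc
      refine mem_centralizer_of_commute fun d hd => ?_
      have := e.injective (by rw [map_mul, map_mul, hF] :
        e (⟨d, Subgroup.mem_sup_right hd⟩ * ⟨c, Subgroup.mem_sup_left hc⟩) =
          e (⟨c, Subgroup.mem_sup_left hc⟩ * ⟨d, Subgroup.mem_sup_right hd⟩))
      exact congrArg Subtype.val this
  have htop : (⊤ : Subgroup G) ≤ Subgroup.centralizer ((⊤ : Subgroup G) : Set G) := by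
    rw [← h.gen]
    refine sSup_le fun C hC => ?_
    exact Subgroup.le_centralizer_iff.1
      (sSup_le fun E hE => hle2 E hE C hC)
  exact Subgroup.mem_centralizer_iff.1 (htop (Subgroup.mem_top y)) x (Subgroup.mem_top x)

theorem nonnorm (h : PairHyp p D F) (hA : A ∈ D) (hB : B ∈ D) (hne : A ≠ B) :
    ¬ A ≤ Subgroup.normalizer (B : Set G) := by
  intro hle
  obtain ⟨a, hAa, -, hap⟩ := h.exists_gen hA
  have haN : a ∈ Subgroup.normalizer (B : Set G) := hle (hAa ▸ Subgroup.mem_zpowers a)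
  let f : B → B := fun x => ⟨a * x * a⁻¹, conj_mem_of_mem_normalizer haN x.2⟩
  have hkey : ∀ (k : ℕ) (x : B), (f^[k] x : G) = a ^ k * x * (a ^ k)⁻¹ := by
    intro k
    induction k with
    | zero => simp
    | succ k ih =>
      intro x
      rw [Function.iterate_succ_apply, ih (f x), pow_succ]
      show a ^ k * (a * x * a⁻¹) * (a ^ k)⁻¹ = _
      group
  have hf : f^[p ^ 1] = id := by
    funext x
    refine Subtype.ext ?_
    rw [pow_one, hkey, hap, one_mul, inv_one, mul_one]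
    rfl
  obtain ⟨x, hx, hx1⟩ := exists_fixed_of_iterate' h.hp f hf (by rw [h.card B hB]) (a := 1)
    (Subtype.ext (by show a * 1 * a⁻¹ = 1; group))
  have hxa : Commute a x := mul_inv_eq_iff_eq_mul.1 (congrArg Subtype.val hx)
  refine h.not_commute hA hB hne ?_
  rw [hAa, Subgroup.zpowers_le]
  refine mem_centralizer_of_commute fun b hb => ?_
  have := Fact.mk h.hp
  obtain ⟨i, rfl⟩ : ∃ i : ℕ, (x : G) ^ i = b := by
    have := mem_powers_of_prime_card (p := p) (h.card B hB) (g' := (⟨b, hb⟩ : B)) hx1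
    obtain ⟨i, hi⟩ := this
    exact ⟨i, congrArg Subtype.val hi⟩
  exact (hxa.pow_right i).eq.symm

theorem gen2 (h : PairHyp p D F) (hA : A ∈ D) (hB : B ∈ D) (hne : A ≠ B) {E E' : Subgroup G}
    (hE : E ∈ D) (hE' : E' ∈ D) (hle : E ≤ A ⊔ B) (hle' : E' ≤ A ⊔ B) (hne' : E ≠ E') :
    E ⊔ E' = A ⊔ B :=
  Subgroup.eq_of_le_of_card_ge (sup_le hle hle')
    (by rw [h.card_sup hA hB hne, h.card_sup hE hE' hne'])

variable (h : PairHyp p D F) (hA : A ∈ D) (hB : B ∈ D) (hne : A ≠ B)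
include h hA hB hne

theorem exists_gen2 : ∃ b ∈ B, cj b A ≠ A ∧ A ⊔ B = A ⊔ cj b A := by
  obtain ⟨b, hBb, -, -⟩ := h.exists_gen hB
  have hb : b ∈ B := hBb ▸ Subgroup.mem_zpowers b
  have hne' : cj b A ≠ A := fun e => h.nonnorm hB hA hne.symm
    (hBb ▸ Subgroup.zpowers_le.2 (cj_eq_self_iff.1 e))
  refine ⟨b, hb, hne', (h.gen2 hA hB hne hA (h.inv A hA b) le_sup_left ?_ hne'.symm).symm⟩
  rw [← cj_eq_self_of_mem (Subgroup.mem_sup_right hb : b ∈ A ⊔ B)]
  exact cj_mono le_sup_left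

theorem der_inf : ⁅A ⊔ B, A ⊔ B⁆ ⊓ A = ⊥ := by
  set L := A ⊔ B with hL
  have hcard : Nat.card A = p := h.card A hA
  rcases (Nat.dvd_prime h.hp).1
      (hcard ▸ Subgroup.card_dvd_of_le (inf_le_right : ⁅L, L⁆ ⊓ A ≤ A)) with e | e
  · exact Subgroup.card_eq_one.1 e
  exfalso
  have hle : A ≤ ⁅L, L⁆ :=
    (Subgroup.eq_of_le_of_card_ge inf_le_right (by rw [e, hcard]) : ⁅L, L⁆ ⊓ A = A) ▸ inf_le_left
  obtain ⟨b, hb, hb', hLe⟩ := h.exists_gen2 hA hB hne
  have hle' : cj b A ≤ ⁅L, L⁆ := by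
    have hbL : b ∈ L := Subgroup.mem_sup_right hb
    rw [← cj_eq_self_iff.2 (Geo.le_normalizer_der L hbL)]
    exact cj_mono hle
  have heq : ⁅L, L⁆ = L := le_antisymm (comm_le_self L) (hLe.le.trans (sup_le hle hle'))
  obtain ⟨e⟩ := h.pair A hA B hB hne
  have : Group.IsSolvable L :=
    OddOrder.FeitThompson.isSolvable_of_odd_card (by rw [h.card_sup hA hB hne]; exact h.oddF)
  have : Nontrivial L := (Subgroup.nontrivial_iff_ne_bot L).2 (fun e0 => by
    have h1 : A ≤ ⊥ := e0 ▸ le_sup_left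
    rw [le_bot_iff.1 h1, Subgroup.card_bot] at hcard
    exact h.hp.one_lt.ne hcard)
  refine (Group.IsSolvable.commutator_lt_top_of_nontrivial L).ne
    (Subgroup.map_injective L.subtype_injective ?_)
  rw [Subgroup.map_subtype_commutator, heq, ← MonoidHom.range_eq_map, L.range_subtype]

theorem line_eq : A ⊔ B = ⁅A ⊔ B, A ⊔ B⁆ ⊔ A := by
  refine le_antisymm ?_ (sup_le (comm_le_self _) le_sup_left)
  obtain ⟨b, hb, -, e⟩ := h.exists_gen2 hA hB hne
  refine e.le.trans (sup_le le_sup_right ?_)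
  rintro _ ⟨a, ha, rfl⟩
  have e' : (MulAut.conj b).toMonoidHom a = ⁅b, a⁆ * a := by simp [commutatorElement_def]
  rw [e']
  exact mul_mem (Subgroup.mem_sup_left (Subgroup.commutator_mem_commutator
    (Subgroup.mem_sup_right hb) (Subgroup.mem_sup_left ha))) (Subgroup.mem_sup_right ha)

theorem sub_line {R : Subgroup G} (hR : R ≤ ⁅A ⊔ B, A ⊔ B⁆)
    (hAR : A ≤ Subgroup.normalizer (R : Set G)) :
    R = ⁅A ⊔ B, A ⊔ B⁆ ∨ R ≤ Subgroup.centralizer (A : Set G) := by
  by_cases hall : ∀ r ∈ R, cj r A = A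
  · refine Or.inr fun r hr => mem_centralizer_of_commute fun a ha => ?_
    have h1 : r * a * r⁻¹ * a⁻¹ ∈ ⁅A ⊔ B, A ⊔ B⁆ ⊓ A := by
      refine Subgroup.mem_inf.2 ⟨hR ?_, mul_mem (hall r hr ▸ conj_mem_cj ha) (inv_mem ha)⟩
      have := conj_mem_of_mem_normalizer (hAR ha) (inv_mem hr)
      simpa [mul_assoc] using mul_mem hr this
    rw [h.der_inf hA hB hne, Subgroup.mem_bot, mul_inv_eq_one, mul_inv_eq_iff_eq_mul] at h1
    exact h1.symm
  · push Not at hall
    obtain ⟨r, hr, hne'⟩ := hall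
    have hrL : r ∈ A ⊔ B := comm_le_self _ (hR hr)
    have hle : A ⊔ B ≤ R ⊔ A := by
      rw [← h.gen2 hA hB hne hA (h.inv A hA r) le_sup_left
        (by rw [← cj_eq_self_of_mem hrL]; exact cj_mono le_sup_left) (Ne.symm hne')]
      refine sup_le le_sup_right ?_
      rw [← cj_eq_self_of_mem (Subgroup.mem_sup_left hr : r ∈ R ⊔ A)]
      exact cj_mono le_sup_right
    refine Or.inl (le_antisymm hR ?_)
    exact (le_inf le_rfl ((comm_le_self _).trans hle)).trans
      (inf_sup_eq (h.der_inf hA hB hne) hR hAR).le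

theorem der_not_le : ¬ ⁅A ⊔ B, A ⊔ B⁆ ≤ Subgroup.centralizer (A : Set G) := by
  intro hle
  refine h.not_commute hA hB hne ?_
  have hAL : A ⊔ B ≤ Subgroup.centralizer (A : Set G) :=
    (h.line_eq hA hB hne).le.trans (sup_le hle (h.commute_self hA))
  exact Subgroup.le_centralizer_iff.1 (le_sup_right.trans hAL)

theorem der_der_le : ⁅⁅A ⊔ B, A ⊔ B⁆, ⁅A ⊔ B, A ⊔ B⁆⁆ ≤ Subgroup.centralizer (A : Set G) := by
  set L := A ⊔ B with hL
  refine (h.sub_line hA hB hne (comm_le_self _) ?_).resolve_left ?_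
  · exact fun a ha => cj_eq_self_iff.1 (by
      rw [cj_commutator, cj_commutator, cj_eq_self_of_mem (Subgroup.mem_sup_left ha : a ∈ L)])
  · intro heq
    have : Group.IsSolvable L :=
      OddOrder.FeitThompson.isSolvable_of_odd_card (by rw [h.card_sup hA hB hne]; exact h.oddF)
    have hQne : ⁅L, L⁆ ≠ ⊥ := fun e => h.der_not_le hA hB hne (by rw [← hL, e]; exact bot_le)
    have hmap : (commutator L).map L.subtype = ⁅L, L⁆ := Subgroup.map_subtype_commutator L
    have hne0 : commutator L ≠ ⊥ := fun e => hQne (by rw [← hmap, e, Subgroup.map_bot])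
    refine (Group.IsSolvable.commutator_lt_of_ne_bot hne0).ne
      (Subgroup.map_injective L.subtype_injective ?_)
    rw [Subgroup.map_commutator, hmap]
    exact heq

theorem exists_isPGroup_der : ∃ r, r.Prime ∧ r ≠ 2 ∧ r ≠ p ∧ r ∣ Nat.card F ∧
    IsPGroup r ↥(⁅A ⊔ B, A ⊔ B⁆ : Subgroup G) := by
  set L := A ⊔ B with hL
  set Q : Subgroup G := ⁅L, L⁆ with hQ
  have hLodd : Odd (Nat.card L) := by rw [h.card_sup hA hB hne]; exact h.oddF
  have hQQ : ⁅Q, Q⁆ ≤ Subgroup.centralizer (Q : Set G) := by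
    refine Subgroup.le_centralizer_iff.1 ((comm_le_self L).trans ?_)
    refine sup_le (Subgroup.le_centralizer_iff.1 (h.der_der_le hA hB hne)) ?_
    refine Subgroup.le_centralizer_iff.1 ?_
    have := h.der_der_le hB hA hne.symm
    rwa [sup_comm B A] at this
  let π := QuotientGroup.mk' (commutator Q)
  have : Group.IsNilpotent (Q ⧸ commutator Q) :=
    @CommGroup.isNilpotent (Q ⧸ commutator Q) (inferInstanceAs (CommGroup (Abelianization Q)))
  have : Group.IsNilpotent Q := Subgroup.isNilpotent_of_ker_le_center π (by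
    rw [QuotientGroup.ker_mk']
    intro x hx
    have hx' : (x : G) ∈ ⁅Q, Q⁆ := by
      rw [← Subgroup.map_subtype_commutator]; exact ⟨x, hx, rfl⟩
    exact Subgroup.mem_center_iff.2 fun y =>
      Subtype.ext (Subgroup.mem_centralizer_iff.1 (hQQ hx') y y.2))
  have hP : ∀ (r : ℕ) [Fact r.Prime] (P : Sylow r Q),
      (P : Subgroup Q).map Q.subtype = Q ∨
        (P : Subgroup Q).map Q.subtype ≤ Subgroup.centralizer (A : Set G) := by
    intro r _ P
    refine h.sub_line hA hB hne (Subgroup.map_subtype_le _) fun a ha => ?_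
    have hPn : (P : Subgroup Q).Normal := inferInstance
    have : (P : Subgroup Q).Characteristic := Sylow.characteristic_of_normal P hPn
    have haL : a ∈ L := Subgroup.mem_sup_left ha
    have haQ : a ∈ Subgroup.normalizer (Q : Set G) := Geo.le_normalizer_der L haL
    refine mem_normalizer_of_conj_mem ?_
    rintro _ ⟨x, hx, rfl⟩
    have hc := Subgroup.characteristic_iff_map_eq.1 this
      (Q.normalizerMonoidHom ⟨a, haQ⟩)
    exact ⟨Q.normalizerMonoidHom ⟨a, haQ⟩ x, hc.le ⟨x, hx, rfl⟩, rfl⟩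
  have hex : ∃ r, r.Prime ∧ IsPGroup r Q := by
    by_contra hcon
    push Not at hcon
    refine h.der_not_le hA hB hne ?_
    have hall : Nat.card Q ∣ Nat.card (Q ⊓ Subgroup.centralizer (A : Set G) : Subgroup G) := by
      refine (Nat.dvd_iff_prime_pow_dvd_dvd _ _).2 fun r k hr hk => ?_
      have := Fact.mk hr
      obtain ⟨P⟩ : Nonempty (Sylow r Q) := inferInstance
      have hPle : (P : Subgroup Q).map Q.subtype ≤ Q ⊓ Subgroup.centralizer (A : Set G) := by
        refine le_inf (Subgroup.map_subtype_le _) ((hP r P).resolve_left fun e => hcon r hr ?_)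
        exact (P.2.map Q.subtype).to_le e.ge
      refine (Nat.dvd_trans ?_ (Subgroup.card_dvd_of_le hPle))
      rw [Subgroup.card_map_of_injective Q.subtype_injective, P.card_eq_multiplicity]
      exact Nat.pow_dvd_pow _ ((hr.pow_dvd_iff_le_factorization Nat.card_pos.ne').1 hk)
    exact (Subgroup.eq_of_le_of_card_ge inf_le_left
      (Nat.le_of_dvd Nat.card_pos hall)).ge.trans inf_le_right
  obtain ⟨r, hr, hrQ⟩ := hex
  have := Fact.mk hr
  obtain ⟨k, hk⟩ := hrQ.exists_card_eq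
  have hk0 : k ≠ 0 := fun e => h.der_not_le hA hB hne (by
    rw [← hL, ← hQ, Subgroup.card_eq_one.1 (by rw [hk, e, pow_zero] : Nat.card Q = 1)]
    exact bot_le)
  have hrF : r ∣ Nat.card F := by
    rw [← h.card_sup hA hB hne, ← hL]
    exact (hk ▸ dvd_pow_self r hk0).trans (Subgroup.card_dvd_of_le (comm_le_self L))
  refine ⟨r, hr, fun e => ?_, ?_, hrF, hrQ⟩
  · exact Nat.not_even_iff_odd.2 h.oddF (even_iff_two_dvd.2 (e ▸ hrF))
  · intro hrp
    subst hrp
    obtain ⟨a, hAa, -, hap⟩ := h.exists_gen hA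
    have haA : a ∈ A := hAa ▸ Subgroup.mem_zpowers a
    set M := Q ⊓ Subgroup.centralizer (A : Set G) with hM
    have hAQ : A ≤ Subgroup.normalizer (Q : Set G) := le_sup_left.trans (Geo.le_normalizer_der L)
    have hQM : Q ≤ Subgroup.normalizer (M : Set G) := fun x hx => by
      refine mem_normalizer_of_conj_mem fun m hm => ?_
      have e : x * m * x⁻¹ = ⁅x, m⁆ * m := by simp [commutatorElement_def]
      rw [e]
      exact mul_mem (Subgroup.mem_inf.2 ⟨comm_le_self Q (Subgroup.commutator_mem_commutator hx hm.1),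
        h.der_der_le hA hB hne (Subgroup.commutator_mem_commutator hx hm.1)⟩) hm
    have hAM : A ≤ Subgroup.normalizer (M : Set G) := fun x hx =>
      mem_normalizer_of_conj_mem fun m hm => Subgroup.mem_inf.2
        ⟨conj_mem_of_mem_normalizer (hAQ hx) hm.1, by
          rw [Subgroup.mem_centralizer_iff.1 hm.2 x hx, mul_inv_cancel_right]; exact hm.2⟩
    obtain ⟨n, hn, hnM⟩ := exists_fixMod hr hrQ
      (IsPGroup.of_card (n := 1) (by rw [h.card A hA, pow_one]) : IsPGroup r A)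
      inf_le_left hQM hAQ hAM
      (fun hle => h.der_not_le hA hB hne (hle.trans inf_le_right))
    have hcj : cj n⁻¹ A ≤ M ⊔ A := by
      rw [cj, hAa, MonoidHom.map_zpowers, Subgroup.zpowers_le, ← hAa]
      have e : (MulAut.conj n⁻¹).toMonoidHom a = n⁻¹ * (a * n * a⁻¹) * a := by
        simp [mul_assoc]
      rw [e]
      exact mul_mem (Subgroup.mem_sup_left (hn.2.2 a haA)) (Subgroup.mem_sup_right haA)
    have hne' : A ≠ cj n⁻¹ A := by
      intro e
      refine hnM (Subgroup.mem_inf.2 ⟨hn.1, ?_⟩)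
      have hn' : n⁻¹ ∈ Subgroup.centralizer (A : Set G) := by
        refine mem_centralizer_of_commute fun x hx => ?_
        have h1 : n⁻¹ * x * n⁻¹⁻¹ * x⁻¹ ∈ Q ⊓ A := by
          refine Subgroup.mem_inf.2 ⟨?_, mul_mem (e.symm ▸ conj_mem_cj hx) (inv_mem hx)⟩
          have := conj_mem_of_mem_normalizer (hAQ hx) hn.1
          simpa [mul_assoc] using mul_mem (inv_mem hn.1) this
        rw [h.der_inf hA hB hne, Subgroup.mem_bot, mul_inv_eq_one, mul_inv_eq_iff_eq_mul] at h1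
        exact h1.symm
      simpa using inv_mem hn'
    have hle : L ≤ M ⊔ A := by
      rw [hL, ← h.gen2 hA hB hne hA (h.inv A hA n⁻¹) le_sup_left
        (Geo.cj_le_of_mem le_sup_left (comm_le_self L (inv_mem hn.1))) hne']
      exact sup_le le_sup_right hcj
    refine h.der_not_le hA hB hne ?_
    exact ((le_inf le_rfl ((comm_le_self L).trans hle)).trans
      (inf_sup_eq (h.der_inf hA hB hne) inf_le_left hAM).le).trans inf_le_right

omit hA hB hne in
theorem exists_pair : ∃ A ∈ D, ∃ B ∈ D, A ≠ B := by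
  by_contra hcon
  push Not at hcon
  refine h.nonab ⟨⟨fun x y => ?_⟩⟩
  have htop : (⊤ : Subgroup G) ≤ Subgroup.centralizer ((⊤ : Subgroup G) : Set G) := by
    rw [← h.gen]
    refine sSup_le fun C hC => ?_
    refine Subgroup.le_centralizer_iff.1 (sSup_le fun E hE => ?_)
    rw [hcon E hE C hC]
    exact h.commute_self hC
  exact Subgroup.mem_centralizer_iff.1 (htop (Subgroup.mem_top y)) x (Subgroup.mem_top x)

end PairHyp

theorem PairHyp.exists_geo (h : PairHyp p D F) : ∃ q, Geo p q D := by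
  obtain ⟨A, hA, B, hB, hne⟩ := h.exists_pair
  obtain ⟨q, hq, hq2, hqp, -, hqQ⟩ := h.exists_isPGroup_der hA hB hne
  refine ⟨q, h.hp, h.hp2, hq, hq2, hqp, h.card, h.inv, fun _ hA _ hB hne => h.nonnorm hA hB hne,
    fun A' hA' B' hB' hne' => ?_,
    fun _ hA _ hB hne _ hE _ hE' hle hle' hne' => h.gen2 hA hB hne hE hE' hle hle' hne'⟩
  obtain ⟨r, hr, -, hrp, hrF, hrQ⟩ := h.exists_isPGroup_der hA' hB' hne'
  suffices r = q from this ▸ hrQ
  have := Fact.mk hq
  obtain ⟨k, hk⟩ := hqQ.exists_card_eq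
  rw [← h.card_sup hA hB hne, h.line_eq hA hB hne,
    card_sup_eq (h.der_inf hA hB hne) (le_sup_left.trans (Geo.le_normalizer_der _)), hk,
    h.card A hA] at hrF
  rcases (Nat.Prime.dvd_mul hr).1 hrF with h1 | h1
  · exact (Nat.prime_dvd_prime_iff_eq hr hq).1 (hr.dvd_of_dvd_pow h1)
  · exact absurd ((Nat.prime_dvd_prime_iff_eq hr h.hp).1 h1) hrp

/-- The image of the second derived group of a line in the pair group. -/
theorem PairHyp.derived_eq_bot_iff (h : PairHyp p D F) {A B : Subgroup G} (hA : A ∈ D)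
    (hB : B ∈ D) (hne : A ≠ B) :
    ⁅⁅A ⊔ B, A ⊔ B⁆, ⁅A ⊔ B, A ⊔ B⁆⁆ = ⊥ ↔ derivedSeries F 2 = ⊥ := by
  obtain ⟨e⟩ := h.pair A hA B hB hne
  have h1 : (derivedSeries ↥(A ⊔ B) 2).map (A ⊔ B).subtype =
      ⁅⁅A ⊔ B, A ⊔ B⁆, ⁅A ⊔ B, A ⊔ B⁆⁆ := by
    rw [derivedSeries_succ, derivedSeries_one, Subgroup.map_commutator,
      Subgroup.map_subtype_commutator]
  have h2 : (derivedSeries ↥(A ⊔ B) 2).map (e : ↥(A ⊔ B) →* F) = derivedSeries F 2 :=
    map_derivedSeries_eq (show Function.Surjective (e : ↥(A ⊔ B) →* F) from e.surjective) 2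
  rw [← h1, ← h2, Subgroup.map_eq_bot_iff_of_injective _ (A ⊔ B).subtype_injective,
    Subgroup.map_eq_bot_iff_of_injective _ (show Function.Injective (e : ↥(A ⊔ B) →* F) from
      e.injective)]

theorem PairHyp.alt1 (h : PairHyp p D F) {q : ℕ} (hg : Geo p q D)
    (hF : derivedSeries F 2 = ⊥) : Alt1 D := by
  intro A hA B hB hne
  rw [hg.cK_line hA hB hne]
  set Q : Subgroup G := ⁅A ⊔ B, A ⊔ B⁆ with hQdef
  have hQQ : ⁅Q, Q⁆ = ⊥ := (h.derived_eq_bot_iff hA hB hne).2 hF
  have hQ := hg.derQ A hA B hB hne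
  obtain ⟨a, hAa, -, hap⟩ := hg.exists_gen hA
  have haA : a ∈ A := hAa ▸ Subgroup.mem_zpowers a
  have haQ : a ∈ Subgroup.normalizer (Q : Set G) :=
    le_sup_left.trans (Geo.le_normalizer_der _) haA
  have hcomm : ∀ x ∈ Q, ∀ y ∈ Q, x * y = y * x := fun x hx y hy =>
    commutatorElement_eq_one_iff_mul_comm.1
      (Subgroup.mem_bot.1 (hQQ ▸ Subgroup.commutator_mem_commutator hx hy))
  let φ : Q →* Q :=
    MonoidHom.mk' (fun x => ⟨(x : G)⁻¹ * (a * x * a⁻¹),
      mul_mem (inv_mem x.2) (conj_mem_of_mem_normalizer haQ x.2)⟩) fun x y => by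
      refine Subtype.ext ?_
      show ((x : G) * y)⁻¹ * (a * (x * y) * a⁻¹) =
        (x : G)⁻¹ * (a * x * a⁻¹) * ((y : G)⁻¹ * (a * y * a⁻¹))
      have e : ((x : G) * y)⁻¹ * (a * (x * y) * a⁻¹) =
          (y : G)⁻¹ * ((x : G)⁻¹ * (a * x * a⁻¹)) * (a * y * a⁻¹) := by group
      rw [e, hcomm _ (inv_mem y.2) _ (mul_mem (inv_mem x.2) (conj_mem_of_mem_normalizer haQ x.2)),
        mul_assoc]
  have hR : A ≤ Subgroup.normalizer (φ.range.map Q.subtype : Set G) := by
    rw [hAa, Subgroup.zpowers_le]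
    refine mem_normalizer_of_conj_mem ?_
    rintro _ ⟨_, ⟨x, rfl⟩, rfl⟩
    refine ⟨_, ⟨⟨a * x * a⁻¹, conj_mem_of_mem_normalizer haQ x.2⟩, rfl⟩, ?_⟩
    show (a * x * a⁻¹)⁻¹ * (a * (a * x * a⁻¹) * a⁻¹) = a * ((x : G)⁻¹ * (a * x * a⁻¹)) * a⁻¹
    group
  rcases hg.sub_line hA hB hne (Subgroup.map_subtype_le φ.range) hR with hr | hr
  · rw [eq_bot_iff]
    rintro z ⟨hzQ, hzA⟩
    have hsurj : Function.Surjective φ := by
      intro y
      obtain ⟨y', hy', e⟩ := (hr.symm ▸ y.2 : (y : G) ∈ φ.range.map Q.subtype)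
      obtain ⟨x, hx⟩ := hy'
      exact ⟨x, Subtype.ext (hx ▸ e)⟩
    have hinj := Finite.injective_iff_surjective.2 hsurj
    have h0 : φ ⟨z, hzQ⟩ = φ 1 := by
      rw [map_one]
      refine Subtype.ext ?_
      show z⁻¹ * (a * z * a⁻¹) = 1
      rw [Subgroup.mem_centralizer_iff.1 hzA a haA, mul_inv_cancel_right, inv_mul_cancel]
    exact Subgroup.mem_bot.2 (congrArg Subtype.val (hinj h0))
  · exfalso
    refine hg.der_not_le hA hB hne fun x hx => ?_
    set k := x⁻¹ * (a * x * a⁻¹) with hk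
    have hkQ : k ∈ Q := mul_mem (inv_mem hx) (conj_mem_of_mem_normalizer haQ hx)
    have hkA : k ∈ Subgroup.centralizer (A : Set G) := hr ⟨_, ⟨⟨x, hx⟩, rfl⟩, rfl⟩
    have hka : a * k * a⁻¹ = k := by
      rw [Subgroup.mem_centralizer_iff.1 hkA a haA, mul_inv_cancel_right]
    have h1 := eq_one_of_shift hg.hp hg.hq hg.hpq hQ hkQ hap hka
      (by rw [hk, mul_inv_cancel_left] : a * x * a⁻¹ = x * k)
    rw [hk, inv_mul_eq_one, eq_mul_inv_iff_mul_eq] at h1
    refine mem_centralizer_of_commute fun b hb => ?_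
    rw [hAa] at hb
    obtain ⟨i, rfl⟩ := Subgroup.mem_zpowers_iff.1 hb
    exact (Commute.zpow_left (show Commute a x from h1.symm) i).eq

theorem PairHyp.alt2 (h : PairHyp p D F) {q : ℕ} (hg : Geo p q D)
    (hF : derivedSeries F 2 ≠ ⊥) : Alt2 D := by
  intro K hK hodd A hA hAK
  set N : Subgroup G := ⁅K, K⁆ with hNdef
  have hNq := hg.str hK hodd
  have hKN : K ≤ Subgroup.normalizer (N : Set G) := Geo.le_normalizer_der K
  -- invariant commutative subgroups of the kernel are centralised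
  have hab : ∀ V : Subgroup G, V ≤ N → ⁅V, V⁆ = ⊥ → ∀ E ∈ D, E ≤ K →
      E ≤ Subgroup.normalizer (V : Set G) → V ≤ Subgroup.centralizer (E : Set G) := by
    intro V hVN hVV E hE hEK hEV v hv
    refine hg.commute_of_normalizes hE hNq (hEK.trans hKN) (hVN hv) ?_
    by_contra hne
    have hE' := hg.inv E hE v
    refine hF ((h.derived_eq_bot_iff hE hE' (Ne.symm hne)).1 (eq_bot_iff.2 ?_))
    rw [← hVV]
    have hle : E ⊔ cj v E ≤ V ⊔ E := by
      refine sup_le le_sup_right ?_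
      rw [← cj_eq_self_of_mem (Subgroup.mem_sup_left hv : v ∈ V ⊔ E)]
      exact cj_mono le_sup_right
    have hQV : ⁅E ⊔ cj v E, E ⊔ cj v E⁆ ≤ V := by
      refine (le_inf ?_ ((comm_le_self _).trans hle)).trans
        (inf_sup_eq (hg.inf_member hE hNq) hVN hEV).le
      have hle' : E ⊔ cj v E ≤ K :=
        sup_le hEK (Geo.cj_le_of_mem hEK (comm_le_self K (hVN hv)))
      exact Subgroup.commutator_mono hle' hle'
    exact Subgroup.commutator_mono hQV hQV
  have hN' : ⁅N, N⁆ ≤ Subgroup.centralizer (N : Set G) := by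
    by_contra hnot
    set M := ⁅N, N⁆ ⊓ Subgroup.centralizer (N : Set G) with hM
    have hNN : N ≤ Subgroup.normalizer (⁅N, N⁆ : Subgroup G) := Geo.le_normalizer_der N
    have hMnorm : ∀ g ∈ Subgroup.normalizer (N : Set G),
        g ∈ Subgroup.normalizer (⁅N, N⁆ : Subgroup G) ∧ g ∈ Subgroup.normalizer (M : Set G) := by
      intro g hg'
      have e := cj_eq_self_iff.2 hg'
      refine ⟨cj_eq_self_iff.1 (by rw [cj_commutator, e]), cj_eq_self_iff.1 ?_⟩
      rw [hM, cj, Subgroup.map_inf _ _ _ (MulAut.conj g).injective, ← cj, ← cj, cj_commutator,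
        cj_centralizer, e]
    obtain ⟨x, hx, hxM⟩ := exists_fixMod hg.hq (hNq.to_le (comm_le_self N)) hNq
      (inf_le_left : M ≤ ⁅N, N⁆)
      (fun g hg' => (hMnorm g (Subgroup.le_normalizer (comm_le_self N hg'))).2)
      hNN (fun g hg' => (hMnorm g (Subgroup.le_normalizer hg')).2)
      (fun hle => hnot (hle.trans inf_le_right))
    set V := fixMod ⁅N, N⁆ M N
    have hkill : ∀ y ∈ V, ⁅N, N⁆ ≤ Subgroup.centralizer ({y} : Set G) := by
      intro y hy
      have hm : ∀ n ∈ N, ∃ m ∈ M, n * y * n⁻¹ = y * m := fun n hn =>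
        ⟨_, hy.2.2 n hn, by rw [mul_inv_cancel_left]⟩
      refine Subgroup.commutator_le.2 fun s hs t ht => ?_
      obtain ⟨ms, hms, es⟩ := hm s hs
      obtain ⟨mt, hmt, et⟩ := hm t ht
      have hc : ∀ m ∈ M, ∀ n ∈ N, n * m = m * n := fun m hm n hn =>
        Subgroup.mem_centralizer_iff.1 hm.2 n hn
      have hys : s⁻¹ * y * s = y * ms⁻¹ := by
        calc s⁻¹ * y * s = s⁻¹ * (y * ms) * ms⁻¹ * s := by group
          _ = s⁻¹ * (s * y * s⁻¹) * ms⁻¹ * s := by rw [es]
          _ = y * (s⁻¹ * (ms⁻¹ * s)) := by group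
          _ = y * ms⁻¹ := by rw [← hc _ (inv_mem hms) s hs, inv_mul_cancel_left]
      have hyt : t⁻¹ * y * t = y * mt⁻¹ := by
        calc t⁻¹ * y * t = t⁻¹ * (y * mt) * mt⁻¹ * t := by group
          _ = t⁻¹ * (t * y * t⁻¹) * mt⁻¹ * t := by rw [et]
          _ = y * (t⁻¹ * (mt⁻¹ * t)) := by group
          _ = y * mt⁻¹ := by rw [← hc _ (inv_mem hmt) t ht, inv_mul_cancel_left]
      have hsm : ∀ m ∈ M, s * m * s⁻¹ = m := fun m hm => by
        rw [hc m hm s hs, mul_inv_cancel_right]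
      have htm : ∀ m ∈ M, t * m * t⁻¹ = m := fun m hm => by
        rw [hc m hm t ht, mul_inv_cancel_right]
      refine Subgroup.mem_centralizer_singleton_iff.2 ?_
      have hfix : ⁅s, t⁆ * y * ⁅s, t⁆⁻¹ = y := by
        calc ⁅s, t⁆ * y * ⁅s, t⁆⁻¹ = s * (t * (s⁻¹ * (t⁻¹ * y * t) * s) * t⁻¹) * s⁻¹ := by
              simp [commutatorElement_def, mul_assoc]
          _ = s * (t * (s⁻¹ * y * s * (s⁻¹ * (mt⁻¹ * s))) * t⁻¹) * s⁻¹ := by rw [hyt]; group
          _ = s * (t * (y * ms⁻¹ * mt⁻¹) * t⁻¹) * s⁻¹ := by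
              rw [hys, ← hc _ (inv_mem hmt) s hs, inv_mul_cancel_left]
          _ = s * (t * y * t⁻¹ * (t * ms⁻¹ * t⁻¹) * (t * mt⁻¹ * t⁻¹)) * s⁻¹ := by group
          _ = s * (y * mt * ms⁻¹ * mt⁻¹) * s⁻¹ := by
              rw [et, htm _ (inv_mem hms), htm _ (inv_mem hmt)]
          _ = s * y * s⁻¹ * (s * mt * s⁻¹) * (s * ms⁻¹ * s⁻¹) * (s * mt⁻¹ * s⁻¹) := by group
          _ = y * (ms * mt) * ms⁻¹ * mt⁻¹ := by
              rw [es, hsm _ hmt, hsm _ (inv_mem hms), hsm _ (inv_mem hmt)]; group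
          _ = y := by
              rw [hc mt hmt ms (comm_le_self N hms.1)]; group
      exact mul_inv_eq_iff_eq_mul.1 hfix
    have hVV : ⁅V, V⁆ = ⊥ := by
      rw [Subgroup.commutator_eq_bot_iff_le_centralizer]
      intro y hy
      refine mem_centralizer_of_commute fun z hz => ?_
      exact Subgroup.mem_centralizer_singleton_iff.1 (hkill y hy hz.1)
    have hVE : ∀ E ∈ D, E ≤ K → V ≤ Subgroup.centralizer (E : Set G) := by
      intro E hE hEK
      refine hab V (fixMod_le.trans (comm_le_self N)) hVV E hE hEK fun e he => ?_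
      have he' := hKN (hEK he)
      exact mem_normalizer_of_conj_mem fun z hz =>
        fixMod_conj_mem (hMnorm e he').1 (hMnorm e he').2 he' hz
    refine hxM (Subgroup.mem_inf.2 ⟨hx.1, ?_⟩)
    have hxK : K ≤ Subgroup.centralizer ({x} : Set G) := by
      conv_lhs => rw [← hK]
      exact mgen_le_iff.2 fun E hE hEK e he => Subgroup.mem_centralizer_singleton_iff.2
        (Subgroup.mem_centralizer_iff.1 (hVE E hE hEK hx) e he)
    exact mem_centralizer_of_commute fun n hn =>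
      Subgroup.mem_centralizer_singleton_iff.1 (hxK (comm_le_self K hn))
  have hN'A : ⁅N, N⁆ ≤ Subgroup.centralizer (A : Set G) := by
    refine hab _ (comm_le_self N) ?_ A hA hAK fun a ha => cj_eq_self_iff.1 ?_
    · rw [Subgroup.commutator_eq_bot_iff_le_centralizer]
      exact hN'.trans (Subgroup.centralizer_le (SetLike.coe_subset_coe.2 (comm_le_self N)))
    · rw [cj_commutator, cj_eq_self_iff.2 (hKN (hAK ha))]
  refine ⟨hN'A, ?_⟩
  rintro z ⟨hzN, hzA⟩
  obtain ⟨a, hAa, -, -⟩ := hg.exists_gen hA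
  have haA : a ∈ A := hAa ▸ Subgroup.mem_zpowers a
  have haz : a * z = z * a := Subgroup.mem_centralizer_iff.1 hzA a haA
  have hS : N ⊓ Subgroup.centralizer ({z} : Set G) = N := by
    refine hg.eq_of_comm_mem hK hodd hA hAK hAa inf_le_left ?_ ?_
    · refine mem_normalizer_of_conj_mem fun n hn => Subgroup.mem_inf.2
        ⟨conj_mem_of_mem_normalizer (hKN (hAK haA)) hn.1, ?_⟩
      have hn' : Commute n z := Subgroup.mem_centralizer_singleton_iff.1 hn.2
      exact Subgroup.mem_centralizer_singleton_iff.2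
        (((show Commute a z from haz).mul_left hn').mul_left (show Commute a z from haz).inv_left).eq
    · intro n hn
      refine Subgroup.mem_inf.2 ⟨mul_mem (inv_mem hn)
        (conj_mem_of_mem_normalizer (hKN (hAK haA)) hn), ?_⟩
      refine Subgroup.mem_centralizer_singleton_iff.2 ?_
      set c := z⁻¹ * (n * z * n⁻¹) with hc
      have hcA : c ∈ Subgroup.centralizer (A : Set G) := by
        refine hN'A ?_
        have e : c = ⁅z⁻¹, n⁆ := by rw [hc, commutatorElement_def]; group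
        rw [e]
        exact Subgroup.commutator_mem_commutator (inv_mem hzN) hn
      have hac : a * c * a⁻¹ = c := by
        rw [Subgroup.mem_centralizer_iff.1 hcA a haA, mul_inv_cancel_right]
      have hna : a * (n * z * n⁻¹) * a⁻¹ = n * z * n⁻¹ := by
        have e : n * z * n⁻¹ = z * c := by rw [hc, mul_inv_cancel_left]
        rw [e, show a * (z * c) * a⁻¹ = (a * z * a⁻¹) * (a * c * a⁻¹) by group, hac, haz,
          mul_inv_cancel_right]
      calc n⁻¹ * (a * n * a⁻¹) * z = n⁻¹ * (a * n * (a⁻¹ * z)) := by group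
        _ = n⁻¹ * (a * n * (z * a⁻¹)) := by
            rw [((show Commute a z from haz).inv_left).eq]
        _ = n⁻¹ * (a * (n * z * n⁻¹) * a⁻¹) * (a * n * a⁻¹) := by group
        _ = n⁻¹ * (n * z * n⁻¹) * (a * n * a⁻¹) := by rw [hna]
        _ = z * (n⁻¹ * (a * n * a⁻¹)) := by group
  refine mem_centralizer_of_commute fun k hk => ?_
  have hle : K ≤ Subgroup.centralizer ({z} : Set G) := by
    conv_lhs => rw [← hg.eq_der_sup hK hA hAK]
    exact sup_le (hS.ge.trans inf_le_right) fun b hb =>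
      Subgroup.mem_centralizer_singleton_iff.2 (Subgroup.mem_centralizer_iff.1 hzA b hb)
  exact Subgroup.mem_centralizer_singleton_iff.1 (hle hk)

end Cfsg.Agent.Lib.PairOdd
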