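import Cfsg.Agent.Lib.PairOdd.Basic

/-!
# The line geometry
-/

set_option autoImplicit false

namespace Cfsg.Agent.Lib.PairOdd

open scoped commutatorElement

variable {G : Type*} [Group G]

/-- The subgroup generated by the members contained in `Y`. -/
def mgen (D : Set (Subgroup G)) (Y : Subgroup G) : Subgroup G := sSup {A | A ∈ D ∧ A ≤ Y}

theorem mgen_le (D : Set (Subgroup G)) (Y : Subgroup G) : mgen D Y ≤ Y :=
  sSup_le fun _ h => h.2

theorem le_mgen {D : Set (Subgroup G)} {Y A : Subgroup G} (hA : A ∈ D) (h : A ≤ Y) :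
    A ≤ mgen D Y := le_sSup ⟨hA, h⟩

theorem mgen_le_iff {D : Set (Subgroup G)} {Y T : Subgroup G} :
    mgen D Y ≤ T ↔ ∀ A ∈ D, A ≤ Y → A ≤ T := by
  simp only [mgen, sSup_le_iff, Set.mem_setOf_eq, and_imp]

theorem mgen_mono {D : Set (Subgroup G)} {Y Y' : Subgroup G} (h : Y ≤ Y') :
    mgen D Y ≤ mgen D Y' :=
  mgen_le_iff.2 fun _ hA hAY => le_mgen hA (hAY.trans h)

theorem mgen_mgen (D : Set (Subgroup G)) (Y : Subgroup G) : mgen D (mgen D Y) = mgen D Y :=
  le_antisymm (mgen_le _ _) (mgen_le_iff.2 fun _ hA hAY => le_mgen hA (le_mgen hA hAY))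

/-- The line geometry axioms. -/
structure Geo (p q : ℕ) (D : Set (Subgroup G)) : Prop where
  hp : p.Prime
  hp2 : p ≠ 2
  hq : q.Prime
  hq2 : q ≠ 2
  hpq : q ≠ p
  card : ∀ A ∈ D, Nat.card A = p
  inv : ∀ A ∈ D, ∀ g : G, cj g A ∈ D
  nonnorm : ∀ A ∈ D, ∀ B ∈ D, A ≠ B → ¬ A ≤ Subgroup.normalizer (B : Set G)
  derQ : ∀ A ∈ D, ∀ B ∈ D, A ≠ B → IsPGroup q ↥(⁅A ⊔ B, A ⊔ B⁆ : Subgroup G)
  gen2 : ∀ A ∈ D, ∀ B ∈ D, A ≠ B → ∀ E ∈ D, ∀ E' ∈ D, E ≤ A ⊔ B → E' ≤ A ⊔ B → E ≠ E' →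
    E ⊔ E' = A ⊔ B

/-- All lines have trivial central part. -/
def Alt1 (D : Set (Subgroup G)) : Prop := ∀ A ∈ D, ∀ B ∈ D, A ≠ B → cK (A ⊔ B) = ⊥

/-- Every odd generated subgroup has small second derived group and central fixed points. -/
def Alt2 (D : Set (Subgroup G)) : Prop :=
  ∀ K : Subgroup G, mgen D K = K → Odd (Nat.card K) → ∀ A ∈ D, A ≤ K →
    ⁅⁅K, K⁆, ⁅K, K⁆⁆ ≤ Subgroup.centralizer (A : Set G) ∧
      ⁅K, K⁆ ⊓ Subgroup.centralizer (A : Set G) ≤ Subgroup.centralizer (K : Set G)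

theorem commutator_ne_of_isPGroup [Finite G] {q : ℕ} (hq : q.Prime) {N : Subgroup G}
    (hN : IsPGroup q N) (hne : N ≠ ⊥) : ⁅N, N⁆ ≠ N := by
  have := Fact.mk hq
  have : Nontrivial N := (Subgroup.nontrivial_iff_ne_bot N).2 hne
  have : Group.IsNilpotent N := hN.isNilpotent
  intro h
  have h1 : (commutator N).map N.subtype = (⊤ : Subgroup N).map N.subtype := by
    rw [Subgroup.map_subtype_commutator, h, ← MonoidHom.range_eq_map, N.range_subtype]
  exact (Group.IsSolvable.commutator_lt_top_of_nontrivial N).ne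
    (Subgroup.map_injective N.subtype_injective h1)

namespace Geo

variable {p q : ℕ} {D : Set (Subgroup G)}

theorem cj_mgen (h : Geo p q D) (g : G) (Y : Subgroup G) :
    cj g (mgen D Y) = mgen D (cj g Y) := by
  have key : ∀ (g : G) (Y : Subgroup G), mgen D (cj g Y) ≤ cj g (mgen D Y) := fun g Y =>
    mgen_le_iff.2 fun A hA hAY => by
      rw [← cj_cj_inv g A]
      refine cj_mono (le_mgen (h.inv A hA _) ?_)
      simpa [cj_inv_cj] using cj_mono (g := g⁻¹) hAY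
  refine le_antisymm ?_ (key g Y)
  have := cj_mono (g := g) (key g⁻¹ (cj g Y))
  rwa [cj_inv_cj, cj_cj_inv] at this

theorem normalizer_le_mgen (h : Geo p q D) (Y : Subgroup G) :
    Subgroup.normalizer (Y : Set G) ≤ Subgroup.normalizer (mgen D Y : Set G) := fun g hg =>
  cj_eq_self_iff.1 (by rw [h.cj_mgen, cj_eq_self_iff.2 hg])

theorem ne_bot (h : Geo p q D) {A : Subgroup G} (hA : A ∈ D) : A ≠ ⊥ := fun e => by
  have := h.card A hA
  rw [e, Subgroup.card_bot] at this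
  exact h.hp.one_lt.ne this

theorem inf_eq_bot_or_le (h : Geo p q D) {A : Subgroup G} (hA : A ∈ D) (H : Subgroup G) :
    H ⊓ A = ⊥ ∨ A ≤ H := by
  rcases (Nat.dvd_prime h.hp).1 (h.card A hA ▸ Subgroup.card_dvd_of_le (inf_le_right : H ⊓ A ≤ A))
    with e | e
  · exact Or.inl (Subgroup.card_eq_one.1 e)
  · have : H ⊓ A = A := by
      have := Nat.finite_of_card_ne_zero (h.card A hA ▸ h.hp.ne_zero : Nat.card A ≠ 0)
      exact Subgroup.eq_of_le_of_card_ge inf_le_right (by rw [e, h.card A hA])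
    exact Or.inr (this ▸ inf_le_left)

theorem eq_of_le (h : Geo p q D) [Finite G] {A B : Subgroup G} (hA : A ∈ D) (hB : B ∈ D)
    (hle : A ≤ B) : A = B :=
  Subgroup.eq_of_le_of_card_ge hle (by rw [h.card A hA, h.card B hB])

theorem exists_gen (h : Geo p q D) {A : Subgroup G} (hA : A ∈ D) :
    ∃ a : G, A = Subgroup.zpowers a ∧ a ≠ 1 ∧ a ^ p = 1 := by
  obtain ⟨⟨a, ha⟩, ha1⟩ := A.ne_bot_iff_exists_ne_one.1 (h.ne_bot hA)
  have h1 : a ≠ 1 := fun e => ha1 (Subtype.ext e)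
  refine ⟨a, ?_, h1, ?_⟩
  · rcases h.inf_eq_bot_or_le hA (Subgroup.zpowers a) with e | e
    · exact absurd (e.le ⟨Subgroup.mem_zpowers a, ha⟩) h1
    · exact le_antisymm e (Subgroup.zpowers_le.2 ha)
  · have := pow_card_eq_one' (G := A) (x := ⟨a, ha⟩)
    rw [h.card A hA] at this
    exact congrArg Subtype.val this

theorem not_dvd_card (h : Geo p q D) [Finite G] {N : Subgroup G} (hN : IsPGroup q N) :
    ¬ p ∣ Nat.card N := by
  have := Fact.mk h.hq
  obtain ⟨k, hk⟩ := hN.exists_card_eq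
  rw [hk]
  intro hd
  exact h.hpq ((Nat.prime_dvd_prime_iff_eq h.hp h.hq).1 (h.hp.dvd_of_dvd_pow hd)).symm

theorem odd_card (h : Geo p q D) [Finite G] {N : Subgroup G} (hN : IsPGroup q N) :
    Odd (Nat.card N) := by
  have := Fact.mk h.hq
  obtain ⟨k, hk⟩ := hN.exists_card_eq
  rw [hk]
  exact (h.hq.odd_of_ne_two h.hq2).pow

theorem inf_member (h : Geo p q D) [Finite G] {A N : Subgroup G} (hA : A ∈ D)
    (hN : IsPGroup q N) : N ⊓ A = ⊥ :=
  (h.inf_eq_bot_or_le hA N).resolve_right fun hle =>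
    h.not_dvd_card hN (h.card A hA ▸ Subgroup.card_dvd_of_le hle)

/-- An element of an invariant `q`-subgroup normalising a member centralises it. -/
theorem commute_of_normalizes (h : Geo p q D) [Finite G] {A N : Subgroup G} (hA : A ∈ D)
    (hN : IsPGroup q N) (hAN : A ≤ Subgroup.normalizer (N : Set G)) {r : G} (hr : r ∈ N)
    (hrA : cj r A = A) : r ∈ Subgroup.centralizer (A : Set G) := by
  refine mem_centralizer_of_commute fun a ha => ?_
  have h1 : r * a * r⁻¹ * a⁻¹ ∈ N ⊓ A := by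
    refine Subgroup.mem_inf.2 ⟨?_, mul_mem (hrA ▸ conj_mem_cj ha) (inv_mem ha)⟩
    have := conj_mem_of_mem_normalizer (hAN ha) (inv_mem hr)
    simpa [mul_assoc] using mul_mem hr this
  rw [h.inf_member hA hN, Subgroup.mem_bot, mul_inv_eq_one, mul_inv_eq_iff_eq_mul] at h1
  exact h1.symm

section Line

variable {A B : Subgroup G}

theorem sup_le_normalizer (A B : Subgroup G) :
    A ⊔ B ≤ Subgroup.normalizer (⁅A ⊔ B, A ⊔ B⁆ : Subgroup G) := fun g hg =>
  cj_eq_self_iff.1 (by rw [cj_commutator, cj_eq_self_of_mem hg])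

theorem line_eq (h : Geo p q D) (hA : A ∈ D) (hB : B ∈ D) (hne : A ≠ B) :
    A ⊔ B = ⁅A ⊔ B, A ⊔ B⁆ ⊔ B := by
  refine le_antisymm ?_ (sup_le (comm_le_self _) le_sup_right)
  obtain ⟨a, hAa, -, -⟩ := h.exists_gen hA
  have hBne : B ≠ cj a B := fun e => h.nonnorm A hA B hB hne
    (hAa ▸ Subgroup.zpowers_le.2 (cj_eq_self_iff.1 e.symm))
  have haA : a ∈ A := hAa ▸ Subgroup.mem_zpowers a
  have hle : cj a B ≤ A ⊔ B := by
    rw [← cj_eq_self_of_mem (Subgroup.mem_sup_left haA : a ∈ A ⊔ B)]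
    exact cj_mono le_sup_right
  rw [← h.gen2 A hA B hB hne B hB _ (h.inv B hB a) le_sup_right hle hBne]
  refine sup_le le_sup_right ?_
  rintro _ ⟨b, hb, rfl⟩
  have e : (MulAut.conj a).toMonoidHom b = ⁅a, b⁆ * b := by simp [commutatorElement_def]
  rw [e, h.gen2 A hA B hB hne B hB _ (h.inv B hB a) le_sup_right hle hBne]
  exact mul_mem (Subgroup.mem_sup_left (Subgroup.commutator_mem_commutator
    (Subgroup.mem_sup_left haA) (Subgroup.mem_sup_right hb))) (Subgroup.mem_sup_right hb)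

theorem line_eq' (h : Geo p q D) (hA : A ∈ D) (hB : B ∈ D) (hne : A ≠ B) :
    A ⊔ B = ⁅A ⊔ B, A ⊔ B⁆ ⊔ A := by
  rw [sup_comm A B]
  exact h.line_eq hB hA hne.symm

variable [Finite G]

theorem odd_line (h : Geo p q D) (hA : A ∈ D) (hB : B ∈ D) (hne : A ≠ B) :
    Odd (Nat.card (A ⊔ B : Subgroup G)) := by
  have hQ := h.derQ A hA B hB hne
  rw [h.line_eq' hA hB hne, card_sup_eq (h.inf_member hA hQ)
    (le_sup_left.trans (sup_le_normalizer A B)), h.card A hA]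
  exact (h.odd_card hQ).mul (h.hp.odd_of_ne_two h.hp2)

theorem mem_line (h : Geo p q D) (hA : A ∈ D) (hB : B ∈ D) (hne : A ≠ B) {E : Subgroup G}
    (hE : E ∈ D) (hle : E ≤ A ⊔ B) : ∃ r ∈ ⁅A ⊔ B, A ⊔ B⁆, E = cj r A :=
  exists_cj_eq h.hp (le_sup_left.trans (sup_le_normalizer A B)) (h.card A hA) (h.card E hE)
    (h.not_dvd_card (h.derQ A hA B hB hne)) (h.line_eq' hA hB hne ▸ hle)

/-- An invariant proper subgroup of the kernel of a line is centralised. -/
theorem sub_line (h : Geo p q D) (hA : A ∈ D) (hB : B ∈ D) (hne : A ≠ B) {R : Subgroup G}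
    (hR : R ≤ ⁅A ⊔ B, A ⊔ B⁆) (hAR : A ≤ Subgroup.normalizer (R : Set G)) :
    R = ⁅A ⊔ B, A ⊔ B⁆ ∨ R ≤ Subgroup.centralizer (A : Set G) := by
  have hQ := h.derQ A hA B hB hne
  by_cases hall : ∀ r ∈ R, cj r A = A
  · exact Or.inr fun r hr => h.commute_of_normalizes hA hQ
      (le_sup_left.trans (sup_le_normalizer A B)) (hR hr) (hall r hr)
  · push Not at hall
    obtain ⟨r, hr, hne'⟩ := hall
    have hrL : r ∈ A ⊔ B := comm_le_self _ (hR hr)
    have hle : A ⊔ B ≤ R ⊔ A := by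
      rw [← h.gen2 A hA B hB hne A hA _ (h.inv A hA r) le_sup_left
        (by rw [← cj_eq_self_of_mem hrL]; exact cj_mono le_sup_left) (Ne.symm hne')]
      refine sup_le le_sup_right ?_
      rw [← cj_eq_self_of_mem (Subgroup.mem_sup_left hr : r ∈ R ⊔ A)]
      exact cj_mono le_sup_right
    refine Or.inl (le_antisymm hR ?_)
    exact (le_inf le_rfl ((comm_le_self _).trans hle)).trans
      (inf_sup_eq (h.inf_member hA hQ) hR hAR).le

theorem der_not_le (h : Geo p q D) (hA : A ∈ D) (hB : B ∈ D) (hne : A ≠ B) :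
    ¬ ⁅A ⊔ B, A ⊔ B⁆ ≤ Subgroup.centralizer (A : Set G) := by
  intro hle
  refine h.nonnorm A hA B hB hne ?_
  have hL : A ⊔ B ≤ Subgroup.centralizer (A : Set G) := by
    rw [h.line_eq' hA hB hne]
    refine sup_le hle fun a ha => mem_centralizer_of_commute fun b hb => ?_
    obtain ⟨a₀, hAa, -, -⟩ := h.exists_gen hA
    rw [hAa] at ha hb
    obtain ⟨i, rfl⟩ := Subgroup.mem_zpowers_iff.1 ha
    obtain ⟨j, rfl⟩ := Subgroup.mem_zpowers_iff.1 hb
    rw [← zpow_add, ← zpow_add, add_comm]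
  intro a ha
  refine Subgroup.centralizer_le_normalizer _ (mem_centralizer_of_commute fun b hb => ?_)
  exact (Subgroup.mem_centralizer_iff.1 (hL (Subgroup.mem_sup_right hb)) a ha).symm

theorem der_der_le (h : Geo p q D) (hA : A ∈ D) (hB : B ∈ D) (hne : A ≠ B) :
    ⁅⁅A ⊔ B, A ⊔ B⁆, ⁅A ⊔ B, A ⊔ B⁆⁆ ≤ Subgroup.centralizer (A : Set G) := by
  have hQ := h.derQ A hA B hB hne
  refine (h.sub_line hA hB hne (comm_le_self _) ?_).resolve_left ?_
  · exact fun a ha => cj_eq_self_iff.1 (by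
      rw [cj_commutator, cj_commutator, cj_eq_self_of_mem (Subgroup.mem_sup_left ha)])
  · refine commutator_ne_of_isPGroup h.hq hQ fun e => h.der_not_le hA hB hne ?_
    rw [e]; exact bot_le

/-- The fixed points on the kernel of a line are its central part. -/
theorem cK_line (h : Geo p q D) (hA : A ∈ D) (hB : B ∈ D) (hne : A ≠ B) :
    cK (A ⊔ B) = ⁅A ⊔ B, A ⊔ B⁆ ⊓ Subgroup.centralizer (A : Set G) := by
  refine le_antisymm (inf_le_inf le_rfl (Subgroup.centralizer_le (SetLike.coe_subset_coe.2 le_sup_left))) ?_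
  rintro z ⟨hzQ, hzA⟩
  refine ⟨hzQ, ?_⟩
  obtain ⟨r, hr, hBr⟩ := h.mem_line hA hB hne hB le_sup_right
  have hle : A ⊔ B ≤ Subgroup.centralizer ({z} : Set G) := by
    refine sup_le (fun a ha => Subgroup.mem_centralizer_singleton_iff.2
      (Subgroup.mem_centralizer_iff.1 hzA a ha)) ?_
    rw [hBr]
    rintro _ ⟨a, ha, rfl⟩
    refine Subgroup.mem_centralizer_singleton_iff.2 ?_
    have hz' : r⁻¹ * z * r ∈ Subgroup.centralizer (A : Set G) := by
      have e : r⁻¹ * z * r = ⁅r⁻¹, z⁆ * z := by simp [commutatorElement_def, mul_assoc]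
      rw [e]
      exact mul_mem (h.der_der_le hA hB hne
        (Subgroup.commutator_mem_commutator (inv_mem hr) hzQ)) hzA
    have := Subgroup.mem_centralizer_iff.1 hz' a ha
    show (MulAut.conj r) a * z = z * (MulAut.conj r) a
    calc (MulAut.conj r) a * z = r * (a * (r⁻¹ * z * r)) * r⁻¹ := by simp [mul_assoc]
      _ = r * ((r⁻¹ * z * r) * a) * r⁻¹ := by rw [this]
      _ = z * (MulAut.conj r) a := by simp [mul_assoc]
  exact mem_centralizer_of_commute fun k hk => Subgroup.mem_centralizer_singleton_iff.1 (hle hk)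

/-- The number of members in a line is odd. -/
theorem odd_members_line (h : Geo p q D) (hA : A ∈ D) (hB : B ∈ D) (hne : A ≠ B) :
    Odd (Nat.card {E : Subgroup G // E ∈ D ∧ E ≤ A ⊔ B}) := by
  have e : {E : Subgroup G // E ∈ D ∧ E ≤ A ⊔ B} ≃
      {E : Subgroup G // ∃ k ∈ ⁅A ⊔ B, A ⊔ B⁆, E = cj k A} :=
    Equiv.subtypeEquivRight fun E => ⟨fun hE => h.mem_line hA hB hne hE.1 hE.2,
      fun ⟨k, hk, hkE⟩ => hkE ▸ ⟨h.inv A hA k, by
        rw [← cj_eq_self_of_mem (comm_le_self _ hk : k ∈ A ⊔ B)]; exact cj_mono le_sup_left⟩⟩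
  rw [Nat.card_congr e]
  exact (h.odd_card (h.derQ A hA B hB hne)).of_dvd_nat (card_orbit_dvd _ _)

/-- An involution interchanging two members fixes a member of their line. -/
theorem exists_fixed_member (h : Geo p q D) (hA : A ∈ D) (hB : B ∈ D) (hne : A ≠ B) {s : G}
    (hs : s * s = 1) (hsA : cj s A = B) :
    ∃ E ∈ D, E ≤ A ⊔ B ∧ cj s E = E := by
  have hsB : cj s B = A := by rw [← hsA, ← cj_mul, hs, cj_one]
  have hsL : cj s (A ⊔ B) = A ⊔ B := by rw [cj_sup, hsA, hsB, sup_comm]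
  let f : {E : Subgroup G // E ∈ D ∧ E ≤ A ⊔ B} → {E : Subgroup G // E ∈ D ∧ E ≤ A ⊔ B} :=
    fun E => ⟨cj s E.1, h.inv _ E.2.1 s, (cj_mono E.2.2).trans_eq hsL⟩
  obtain ⟨E, hE⟩ := exists_fixed_of_invol f
    (fun E => Subtype.ext (by show cj s (cj s E.1) = E.1; rw [← cj_mul, hs, cj_one]))
    (h.odd_members_line hA hB hne)
  exact ⟨E.1, E.2.1, E.2.2, congrArg Subtype.val hE⟩

/-- An element centralising a member and normalising another centralises the other. -/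
theorem centralizes_member (h : Geo p q D) (hA : A ∈ D) (hB : B ∈ D) {g : G}
    (hgA : g ∈ Subgroup.centralizer (A : Set G)) (hgB : cj g B = B) :
    g ∈ Subgroup.centralizer (B : Set G) := by
  rcases eq_or_ne A B with rfl | hne
  · exact hgA
  have hAg : cj g A = A :=
    cj_eq_self_of_commute fun a ha => (Subgroup.mem_centralizer_iff.1 hgA a ha).symm
  have hgL : g ∈ Subgroup.normalizer (⁅A ⊔ B, A ⊔ B⁆ : Subgroup G) :=
    cj_eq_self_iff.1 (by rw [cj_commutator, cj_sup, hAg, hgB])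
  have hQ := h.derQ A hA B hB hne
  refine mem_centralizer_of_commute fun b hb => ?_
  obtain ⟨w, hw, a, ha, e⟩ := mem_sup_decomp (le_sup_left.trans (sup_le_normalizer A B))
    (h.line_eq' hA hB hne ▸ Subgroup.mem_sup_right hb : b ∈ ⁅A ⊔ B, A ⊔ B⁆ ⊔ A)
  have hga : g * a * g⁻¹ = a := by
    rw [← Subgroup.mem_centralizer_iff.1 hgA a ha, mul_inv_cancel_right]
  have h1 : g * b * g⁻¹ * b⁻¹ ∈ ⁅A ⊔ B, A ⊔ B⁆ ⊓ B := by
    refine Subgroup.mem_inf.2 ⟨?_, mul_mem (hgB ▸ conj_mem_cj hb) (inv_mem hb)⟩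
    have e2 : g * b * g⁻¹ * b⁻¹ = g * w * g⁻¹ * w⁻¹ := by
      rw [e, show g * (w * a) * g⁻¹ = g * w * g⁻¹ * (g * a * g⁻¹) by group, hga]
      group
    rw [e2]
    exact mul_mem (conj_mem_of_mem_normalizer hgL hw) (inv_mem hw)
  rw [h.inf_member hB hQ, Subgroup.mem_bot, mul_inv_eq_one, mul_inv_eq_iff_eq_mul] at h1
  exact h1.symm

theorem exists_cj_member (h : Geo p q D) (hA : A ∈ D) (hB : B ∈ D) :
    ∃ g ∈ A ⊔ B, cj g A = B := by
  rcases eq_or_ne A B with rfl | hne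
  · exact ⟨1, one_mem _, cj_one _⟩
  · obtain ⟨r, hr, e⟩ := h.mem_line hA hB hne hB le_sup_right
    exact ⟨r, comm_le_self _ hr, e.symm⟩

end Line

end Geo

end Cfsg.Agent.Lib.PairOdd
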