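import Cfsg.Agent.Lib.PairOdd.CT
import Cfsg.Agent.Lib.ZStar.UniqueCase

/-!
# Involutions in a line geometry
-/

set_option autoImplicit false

namespace Cfsg.Agent.Lib.PairOdd

open scoped commutatorElement

universe u

variable {G : Type u} [Group G] [Finite G] {p q : ℕ} {D : Set (Subgroup G)}

namespace Geo

/-- The number of members is odd. -/
theorem odd_card_D (h : Geo p q D) {A : Subgroup G} (hA : A ∈ D) :
    Odd (Nat.card {E : Subgroup G // E ∈ D}) := by
  classical
  have := Fintype.ofFinite (Subgroup G)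
  set S := (Finset.univ : Finset (Subgroup G)).filter (fun E => E ∈ D) with hS
  have hAS : A ∈ S := by simp [hS, hA]
  rw [Nat.card_eq_fintype_card, Fintype.card_subtype, ← hS, ← Finset.insert_erase hAS,
    Finset.card_insert_of_notMem (Finset.notMem_erase A S)]
  refine Even.add_one ?_
  rw [Finset.card_eq_sum_card_fiberwise (f := fun B => A ⊔ B)
    (t := (S.erase A).image (fun B => A ⊔ B)) (fun x hx => Finset.mem_image_of_mem _ hx)]
  refine Finset.even_sum _ fun L hL => ?_
  obtain ⟨B, hB, rfl⟩ := Finset.mem_image.1 hL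
  simp only [hS, Finset.mem_erase, Finset.mem_filter, Finset.mem_univ, true_and] at hB
  have hset : (S.erase A).filter (fun E => A ⊔ E = A ⊔ B) =
      ((Finset.univ : Finset (Subgroup G)).filter (fun E => E ∈ D ∧ E ≤ A ⊔ B)).erase A := by
    ext E
    simp only [hS, Finset.mem_erase, Finset.mem_filter, Finset.mem_univ, true_and]
    constructor
    · rintro ⟨⟨hEA, hE⟩, e⟩
      exact ⟨hEA, hE, e ▸ le_sup_right⟩
    · rintro ⟨hEA, hE, hle⟩
      exact ⟨⟨hEA, hE⟩, h.gen2 A hA B hB.2 hB.1.symm A hA E hE le_sup_left hle hEA.symm⟩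
  rw [hset, Finset.card_erase_of_mem (by simp [hA])]
  have hodd := h.odd_members_line hA hB.2 hB.1.symm
  rw [Nat.card_eq_fintype_card, Fintype.card_subtype] at hodd
  obtain ⟨k, hk⟩ := hodd
  rw [hk]
  exact ⟨k, by omega⟩

theorem index_normalizer (h : Geo p q D) {A : Subgroup G} (hA : A ∈ D) :
    (Subgroup.normalizer (A : Set G)).index = Nat.card {E : Subgroup G // E ∈ D} := by
  rw [Subgroup.index_eq_card]
  let f : G ⧸ Subgroup.normalizer (A : Set G) → {E : Subgroup G // E ∈ D} :=
    Quotient.lift (fun g => ⟨cj g A, h.inv A hA g⟩) (fun g g' hgg => Subtype.ext (by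
      have hmem : g⁻¹ * g' ∈ Subgroup.normalizer (A : Set G) := QuotientGroup.leftRel_apply.1 hgg
      show cj g A = cj g' A
      rw [← mul_inv_cancel_left g g', cj_mul, cj_eq_self_iff.2 hmem]))
  refine Nat.card_congr (Equiv.ofBijective f ⟨?_, ?_⟩)
  · intro x y
    induction x using QuotientGroup.induction_on with
    | _ g =>
      induction y using QuotientGroup.induction_on with
      | _ g' =>
        intro e
        refine QuotientGroup.eq.2 (cj_eq_self_iff.1 ?_)
        have e' : cj g A = cj g' A := congrArg Subtype.val e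
        rw [cj_mul, ← e', cj_inv_cj]
  · rintro ⟨E, hE⟩
    obtain ⟨g, -, hg⟩ := h.exists_cj_member hA hE
    exact ⟨QuotientGroup.mk g, Subtype.ext hg⟩

/-- An involution fixing a member centralises it. -/
theorem invol_centralizes (h : Geo p q D) (hD : sSup D = ⊤) {A : Subgroup G} (hA : A ∈ D) {s : G}
    (hs : s * s = 1) (hsA : cj s A = A) : s ∈ Subgroup.centralizer (A : Set G) := by
  classical
  by_contra hnc
  have := Fact.mk h.hp
  have : IsCyclic A := isCyclic_of_prime_card (h.card A hA)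
  set H := Subgroup.normalizer (A : Set G) with hH
  let e : MulAut A ≃* (ZMod (Nat.card A))ˣ := IsCyclic.mulAutMulEquiv A
  have hcard := h.card A hA
  let φ : H →* (ZMod (Nat.card A))ˣ := e.toMonoidHom.comp A.normalizerMonoidHom
  have hker : ∀ x : H, φ x = 1 ↔ (x : G) ∈ Subgroup.centralizer (A : Set G) := by
    intro x
    rw [← Subgroup.mem_subgroupOf, ← Subgroup.normalizerMonoidHom_ker, MonoidHom.mem_ker]
    exact ⟨fun h1 => e.injective (h1.trans (map_one e).symm), fun h1 => by
      show e (A.normalizerMonoidHom x) = 1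
      rw [h1, map_one]⟩
  have hneg : ∀ x : H, φ x ^ 2 = 1 → φ x ≠ 1 → φ x = -1 := by
    intro x h1 h2
    have : Fact (Nat.card A).Prime := ⟨hcard ▸ h.hp⟩
    have h3 : ((φ x : (ZMod (Nat.card A))ˣ) : ZMod (Nat.card A)) *
        ((φ x : (ZMod (Nat.card A))ˣ) : ZMod (Nat.card A)) = 1 := by
      rw [← Units.val_mul, ← pow_two, h1, Units.val_one]
    rcases mul_self_eq_one_iff.1 h3 with h4 | h4
    · exact absurd (Units.ext h4) h2
    · exact Units.ext (by rw [h4, Units.val_neg, Units.val_one])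
  have : H.FiniteIndex := inferInstance
  have := Fintype.ofFinite (Quotient (MulAction.orbitRel (Subgroup.zpowers s) (G ⧸ H)))
  have hT : MonoidHom.transfer φ s = 1 := by
    have hall : ∀ E ∈ D, E ≤ (MonoidHom.transfer φ).ker := by
      intro E hE x hx
      rw [MonoidHom.mem_ker]
      have h1 : (MonoidHom.transfer φ x) ^ p = 1 := by
        rw [← map_pow]
        have := pow_card_eq_one' (G := E) (x := ⟨x, hx⟩)
        rw [h.card E hE] at this
        rw [show x ^ p = 1 from congrArg Subtype.val this, map_one]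
      have h2 : (MonoidHom.transfer φ x) ^ (p - 1) = 1 := by
        have : Fact (Nat.card A).Prime := ⟨hcard ▸ h.hp⟩
        have := ZMod.units_pow_card_sub_one_eq_one (Nat.card A) (MonoidHom.transfer φ x)
        exact (congrArg (fun n => (MonoidHom.transfer φ x) ^ (n - 1)) hcard).symm.trans this
      have h3 := pow_gcd_eq_one.2 ⟨h1, h2⟩
      have hg : Nat.gcd p (p - 1) = 1 := by
        have hp1 : p = p - 1 + 1 := by have := h.hp.pos; omega
        conv_lhs => arg 1; rw [hp1]
        simp
      rwa [hg, pow_one] at h3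
    exact MonoidHom.mem_ker.1 (sSup_le hall (hD ▸ Subgroup.mem_top s))
  rw [MonoidHom.transfer_eq_prod_quotient_orbitRel_zpowers_quot] at hT
  have hper : ∀ c : G ⧸ H, Function.minimalPeriod (s • ·) c = 1 ∨
      Function.minimalPeriod (s • ·) c = 2 := fun c =>
    (Nat.dvd_prime Nat.prime_two).1 (Function.IsPeriodicPt.minimalPeriod_dvd (by
      show s • (s • c) = c
      rw [← mul_smul, hs, one_smul]))
  set T := (Finset.univ : Finset (Quotient (MulAction.orbitRel (Subgroup.zpowers s) (G ⧸ H))))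
    with hTdef
  set P := T.filter (fun c => Function.minimalPeriod (s • ·) c.out = 1) with hP
  have hprod : MonoidHom.transfer φ s = (-1 : (ZMod (Nat.card A))ˣ) ^ P.card := by
    rw [MonoidHom.transfer_eq_prod_quotient_orbitRel_zpowers_quot, ← Finset.prod_const, hP,
      Finset.prod_filter]
    refine Finset.prod_congr rfl fun c _ => ?_
    split_ifs with h1
    · set g : G := c.out.out with hg
      have hmem := QuotientGroup.out_conj_pow_minimalPeriod_mem H s c.out
      set x : H := ⟨_, hmem⟩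
      have hx : (x : G) = g⁻¹ * s * g := by
        show g⁻¹ * s ^ Function.minimalPeriod (s • ·) c.out * g = _
        rw [h1, pow_one]
      refine hneg x ?_ ?_
      · rw [← map_pow]
        have : x ^ 2 = 1 := Subtype.ext (by
          show (x : G) ^ 2 = 1
          rw [hx, pow_two]
          calc g⁻¹ * s * g * (g⁻¹ * s * g) = g⁻¹ * (s * s) * g := by group
            _ = 1 := by rw [hs]; group)
        rw [this, map_one]
      · intro h0
        have h0' := (hker x).1 h0
        rw [hx] at h0'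
        have hsB : s ∈ Subgroup.centralizer (cj g A : Set G) := by
          refine mem_centralizer_of_commute fun y hy => ?_
          have := Subgroup.mem_centralizer_iff.1 h0' _ (mem_cj.1 hy)
          calc y * s = g * ((g⁻¹ * y * g) * (g⁻¹ * s * g)) * g⁻¹ := by group
            _ = g * ((g⁻¹ * s * g) * (g⁻¹ * y * g)) * g⁻¹ := by rw [this]
            _ = s * y := by group
        exact hnc (h.centralizes_member (h.inv A hA g) hA hsB hsA)
    · have h2 := (hper c.out).resolve_left h1
      rw [← map_one φ]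
      congr 1
      refine Subtype.ext ?_
      show (c.out.out : G)⁻¹ * s ^ Function.minimalPeriod (s • ·) c.out * c.out.out = 1
      rw [h2, pow_two, hs]; group
  have hoddP : Odd P.card := by
    have hsum : Nat.card (G ⧸ H) = ∑ c ∈ T, Function.minimalPeriod (s • ·) c.out := by
      rw [Nat.card_congr (Subgroup.quotientEquivSigmaZMod H s)]
      rw [Nat.card_sigma]
      exact Finset.sum_congr rfl fun c _ => Nat.card_zmod _
    have hv : Odd (Nat.card (G ⧸ H)) := by
      rw [← Subgroup.index_eq_card, hH, h.index_normalizer hA]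
      exact h.odd_card_D hA
    rw [hsum, ← Finset.sum_filter_add_sum_filter_not T
      (fun c => Function.minimalPeriod (s • ·) c.out = 1), ← hP] at hv
    rw [Finset.sum_congr rfl (fun c hc => (Finset.mem_filter.1 hc).2 : ∀ c ∈ P, _ = 1),
      Finset.sum_congr rfl (fun c hc => (hper c.out).resolve_left (Finset.mem_filter.1 hc).2 :
        ∀ c ∈ T.filter (fun c => ¬ Function.minimalPeriod (s • ·) c.out = 1), _ = 2)] at hv
    simp only [Finset.sum_const, smul_eq_mul, mul_one] at hv
    exact (Nat.odd_add.1 hv).2 (even_two.mul_left _)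
  rw [← MonoidHom.transfer_eq_prod_quotient_orbitRel_zpowers_quot, hprod,
    hoddP.neg_one_pow] at hT
  have : Fact (Nat.card A).Prime := ⟨hcard ▸ h.hp⟩
  have h2 : (2 : ℕ) < Nat.card A := by
    have := h.hp.two_le; have := h.hp2; omega
  have h5 := congrArg (fun u : (ZMod (Nat.card A))ˣ => (u : ZMod (Nat.card A))) hT
  simp only [Units.val_neg, Units.val_one] at h5
  have : Fact (2 < Nat.card A) := ⟨h2⟩
  exact ZMod.neg_one_ne_one h5

/-- An involution fixes some member. -/
theorem exists_fixed (h : Geo p q D) {A : Subgroup G} (hA : A ∈ D) {s : G} (hs : s * s = 1) :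
    ∃ E ∈ D, cj s E = E := by
  let f : {E : Subgroup G // E ∈ D} → {E : Subgroup G // E ∈ D} :=
    fun E => ⟨cj s E.1, h.inv _ E.2 s⟩
  obtain ⟨E, hE⟩ := exists_fixed_of_invol f
    (fun E => Subtype.ext (by show cj s (cj s E.1) = E.1; rw [← cj_mul, hs, cj_one]))
    (h.odd_card_D hA)
  exact ⟨E.1, E.2, congrArg Subtype.val hE⟩

theorem le_mgen_centralizer (h : Geo p q D) (hD : sSup D = ⊤) {E : Subgroup G} (hE : E ∈ D)
    {s : G} (hs : s * s = 1) (hsE : cj s E = E) :
    E ≤ mgen D (Subgroup.centralizer ({s} : Set G)) :=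
  le_mgen hE fun e he => Subgroup.mem_centralizer_singleton_iff.2
    (Subgroup.mem_centralizer_iff.1 (h.invol_centralizes hD hE hs hsE) e he)

theorem fixed_of_le_centralizer {E : Subgroup G} {s : G}
    (hE : E ≤ Subgroup.centralizer ({s} : Set G)) : cj s E = E :=
  cj_eq_self_of_commute fun _ hx => (Subgroup.mem_centralizer_singleton_iff.1 (hE hx)).symm

/-- An element of the kernel fixed modulo the central part by a generator is central. -/
theorem mem_cK_of_fixed_mod (h : Geo p q D) {A B : Subgroup G} (hA : A ∈ D) (hB : B ∈ D)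
    (hne : A ≠ B) {b d : G} (hAb : A = Subgroup.zpowers b) (hbp : b ^ p = 1)
    (hd : d ∈ ⁅A ⊔ B, A ⊔ B⁆) (hk : d⁻¹ * (b * d * b⁻¹) ∈ cK (A ⊔ B)) : d ∈ cK (A ⊔ B) := by
  have hbA : b ∈ A := hAb ▸ Subgroup.mem_zpowers b
  have hbn : b ∈ Subgroup.normalizer (cK (A ⊔ B) : Set G) := cj_eq_self_iff.1 (by
    rw [cj_cK, cj_eq_self_of_mem (Subgroup.mem_sup_left hbA : b ∈ A ⊔ B)])
  obtain ⟨m, hm, hc⟩ := exists_fixed_lift h.hp hbp
    (h.not_dvd_card ((h.derQ A hA B hB hne).to_le inf_le_left)) hbn hk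
  have h1 : d * m ∈ cK (A ⊔ B) := by
    rw [h.cK_line hA hB hne]
    refine ⟨mul_mem hd hm.1, mem_centralizer_of_commute fun k hk => ?_⟩
    rw [hAb] at hk
    obtain ⟨i, rfl⟩ := Subgroup.mem_zpowers_iff.1 hk
    exact ((show Commute b (d * m) from hc).zpow_left i).eq
  have := mul_mem h1 (inv_mem hm)
  rwa [mul_inv_cancel_right] at this

/-- The normal form of the product of an involution with a member element. -/
theorem conj_form (h : Geo p q D) (hD : sSup D = ⊤) {s : G} (hs : s * s = 1) {B : Subgroup G}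
    (hB : B ∈ D) {x : G} (hx : x ∈ B) :
    ∃ r y : G, r⁻¹ * (s * x) * r = s * y ∧
      (y ∈ mgen D (Subgroup.centralizer ({s} : Set G)) ∨
        ∃ E ∈ D, ∃ e ∈ E, ∃ c, cj s E = E ∧ y = c * e ∧ E ≤ B ⊔ cj s B ∧ cj s B ≠ B ∧
          c ∈ cK (B ⊔ cj s B) ∧ c * s = s * c) := by
  by_cases hfix : cj s B = B
  · exact ⟨1, x, by group, Or.inl (h.le_mgen_centralizer hD hB hs hfix hx)⟩
  have hB' := h.inv B hB s
  obtain ⟨E, hE, hEL, hsE⟩ := h.exists_fixed_member hB hB' (Ne.symm hfix) hs rfl
  have hEB : E ≠ B := fun e => hfix (e ▸ hsE)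
  set L := B ⊔ cj s B with hL
  have hLe : E ⊔ B = L :=
    h.gen2 B hB _ hB' (Ne.symm hfix) E hE B hB hEL le_sup_left hEB
  set Q : Subgroup G := ⁅L, L⁆ with hQdef
  have hQq : IsPGroup q Q := h.derQ B hB _ hB' (Ne.symm hfix)
  obtain ⟨r, hr, hBr⟩ : ∃ r ∈ Q, B = cj r E := by
    have := h.mem_line hE hB hEB hB le_sup_right
    rwa [hLe] at this
  set e := r⁻¹ * x * r with hedef
  have heE : e ∈ E := by rw [hedef]; exact mem_cj.1 (hBr ▸ hx)
  rcases eq_or_ne e 1 with he1 | he1
  · refine ⟨1, 1, ?_, Or.inl (one_mem _)⟩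
    have : x = 1 := by
      have e' : x = r * e * r⁻¹ := by rw [hedef]; group
      rw [e', he1]; group
    rw [this]; group
  have hEe : E = Subgroup.zpowers e :=
    ((h.inf_eq_bot_or_le hE (Subgroup.zpowers e)).resolve_left fun e0 =>
      he1 (Subgroup.mem_bot.1 (e0 ▸ Subgroup.mem_inf.2 ⟨Subgroup.mem_zpowers e, heE⟩))).antisymm
        (Subgroup.zpowers_le.2 heE)
  have hep : e ^ p = 1 := by
    have := pow_card_eq_one' (G := E) (x := ⟨e, heE⟩)
    rw [h.card E hE] at this
    exact congrArg Subtype.val this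
  have hsc : Commute s e :=
    (Subgroup.mem_centralizer_iff.1 (h.invol_centralizes hD hE hs hsE) e heE).symm
  have hsL : cj s L = L := by
    rw [hL, cj_sup, ← cj_mul, hs, cj_one, sup_comm]
  have heL : e ∈ L := hEL heE
  have hsQ : s ∈ Subgroup.normalizer (Q : Set G) :=
    cj_eq_self_iff.1 (by rw [hQdef, cj_commutator, hsL])
  have heQ : e ∈ Subgroup.normalizer (Q : Set G) := Geo.le_normalizer_der L heL
  set u := s * e with hu
  have huL : cj u L = L := by rw [hu, cj_mul, cj_eq_self_of_mem heL, hsL]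
  have huQ : u ∈ Subgroup.normalizer (Q : Set G) := mul_mem hsQ heQ
  set Z := cK L with hZ
  have hZQ : Z ≤ Q := inf_le_left
  have huZ : u ∈ Subgroup.normalizer (Z : Set G) :=
    cj_eq_self_iff.1 (by rw [hZ, cj_cK, huL])
  have hfpf : ∀ d ∈ Q, d⁻¹ * (u⁻¹ * d * u) ∈ Z → d ∈ Z := by
    intro d hd hk
    have hk2 : d⁻¹ * ((u * u)⁻¹ * d * (u * u)) ∈ Z := by
      have e2 : d⁻¹ * ((u * u)⁻¹ * d * (u * u)) =
          (d⁻¹ * (u⁻¹ * d * u)) * (u⁻¹ * (d⁻¹ * (u⁻¹ * d * u)) * u) := by group
      rw [e2]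
      exact mul_mem hk (conj_mem_of_mem_normalizer' huZ hk)
    have huu : u * u = e * e := by
      rw [hu]
      calc s * e * (s * e) = s * (e * s) * e := by group
        _ = s * (s * e) * e := by rw [hsc.eq]
        _ = e * e := by rw [← mul_assoc s s e, hs, one_mul]
    rw [huu] at hk2
    have hEb : E = Subgroup.zpowers (e * e)⁻¹ := by
      refine le_antisymm ?_ (Subgroup.zpowers_le.2 (inv_mem (mul_mem heE heE)))
      rw [hEe, Subgroup.zpowers_le, Subgroup.zpowers_inv]
      obtain ⟨k, hk⟩ := h.hp.odd_of_ne_two h.hp2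
      refine Subgroup.mem_zpowers_iff.2 ⟨((k + 1 : ℕ) : ℤ), ?_⟩
      rw [zpow_natCast, ← pow_two, ← pow_mul, show 2 * (k + 1) = p + 1 by omega, pow_succ, hep,
        one_mul]
    have hbp : ((e * e)⁻¹) ^ p = 1 := by
      rw [inv_pow, (Commute.refl e).mul_pow, hep, one_mul, inv_one]
    have := h.mem_cK_of_fixed_mod hE hB hEB hEb hbp (d := d) (by rw [hLe]; exact hd)
      (by rw [hLe, inv_inv]; exact hk2)
    rwa [hLe] at this
  set t := e⁻¹ * (s * r⁻¹ * s * r) * e with ht
  have htQ : t ∈ Q := by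
    refine conj_mem_of_mem_normalizer' heQ ?_
    have := conj_mem_of_mem_normalizer hsQ (inv_mem hr)
    rw [inv_eq_of_mul_eq_one_right hs] at this
    exact mul_mem this hr
  obtain ⟨r1, hr1, c, hc, e1⟩ := exists_conj_coset hZQ huQ
    (fun c hc z hz => (commute_of_mem_cK hc (comm_le_self L hz)).symm) hfpf htQ
  have hsZ : s ∈ Subgroup.normalizer (Z : Set G) :=
    cj_eq_self_iff.1 (by rw [hZ, cj_cK, hsL])
  have hsi : s⁻¹ = s := inv_eq_of_mul_eq_one_right hs
  have hfpf' : ∀ d ∈ Z, d⁻¹ * (s⁻¹ * d * s) ∈ Z ⊓ Subgroup.centralizer ({s} : Set G) →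
      d ∈ Z ⊓ Subgroup.centralizer ({s} : Set G) := by
    intro d hd hk
    set k := d⁻¹ * (s⁻¹ * d * s) with hkdef
    have hks : Commute k s := Subgroup.mem_centralizer_singleton_iff.1 hk.2
    have hkk : k * k = 1 := by
      have e2 : s⁻¹ * k * s = k⁻¹ := by
        calc s⁻¹ * k * s = (s⁻¹ * d⁻¹ * s) * ((s * s)⁻¹ * d * (s * s)) := by rw [hkdef]; group
          _ = k⁻¹ := by rw [hs, hkdef]; group
      rw [mul_assoc, hks.eq, inv_mul_cancel_left] at e2
      nth_rw 2 [e2]
      exact mul_inv_cancel k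
    have hk1 : k = 1 := by
      by_contra hk1
      have ho : orderOf k = 2 := orderOf_eq_prime (by rw [pow_two]; exact hkk) hk1
      have hd2 := ho ▸ Subgroup.orderOf_mk k (hZQ hk.1) ▸
        orderOf_dvd_natCard (⟨k, hZQ hk.1⟩ : Q)
      exact Nat.not_even_iff_odd.2 (h.odd_card hQq) (even_iff_two_dvd.2 hd2)
    refine Subgroup.mem_inf.2 ⟨hd, Subgroup.mem_centralizer_singleton_iff.2 ?_⟩
    rw [hkdef, inv_mul_eq_one, mul_assoc, eq_inv_mul_iff_mul_eq] at hk1
    exact hk1.symm
  obtain ⟨r2, hr2, c', hc', e2⟩ := exists_conj_coset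
    (inf_le_left : Z ⊓ Subgroup.centralizer ({s} : Set G) ≤ Z) hsZ
    (fun c hc z hz => (commute_of_mem_cK hc.1 (cK_le_self L hz)).symm) hfpf' hc
  refine ⟨r * r1⁻¹ * r2⁻¹, c' * e, ?_, Or.inr ⟨E, hE, e, heE, c', hsE, rfl, hEL, hfix, hc'.1,
    Subgroup.mem_centralizer_singleton_iff.1 hc'.2⟩⟩
  have hr2e : e * r2 = r2 * e := commute_of_mem_cK hr2 heL
  have hce : e * c = c * e := commute_of_mem_cK hc heL
  have h1 : r⁻¹ * (s * x) * r = u * t := by
    rw [hu, ht, hedef]
    calc r⁻¹ * (s * x) * r = (s * s) * r⁻¹ * s * r * (r⁻¹ * x * r) := by rw [hs]; group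
      _ = _ := by group
  calc (r * r1⁻¹ * r2⁻¹)⁻¹ * (s * x) * (r * r1⁻¹ * r2⁻¹)
      = r2 * (r1 * (r⁻¹ * (s * x) * r) * r1⁻¹) * r2⁻¹ := by group
    _ = r2 * (r1 * (r1⁻¹ * (u * c) * r1) * r1⁻¹) * r2⁻¹ := by rw [h1, e1]
    _ = r2 * (u * c) * r2⁻¹ := by group
    _ = r2 * (s * (e * c)) * r2⁻¹ := by rw [hu, mul_assoc s]
    _ = r2 * ((s * c) * e) * r2⁻¹ := by rw [hce, mul_assoc s]
    _ = r2 * (r2⁻¹ * (s * c') * r2 * e) * r2⁻¹ := by rw [e2]
    _ = (s * c') * (r2 * e) * r2⁻¹ := by group
    _ = s * (c' * e) := by rw [← hr2e]; group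

end Geo

/-- An involution equal to every conjugate it commutes with is isolated. -/
theorem iso_of_commute_conj {s : G} (hs : orderOf s = 2)
    (hu : ∀ g : G, Commute s (g * s * g⁻¹) → g * s * g⁻¹ = s) :
    ZStar.Reduction.Iso s := by
  open Cfsg.Agent.Lib.Involutions.Basic in
  refine ⟨hs, fun g => ?_⟩
  rw [ZStar.Reduction.comm_eq hs]
  by_contra hodd
  rw [Nat.not_odd_iff_even] at hodd
  set t := g * s * g⁻¹ with ht
  have ht2 : orderOf t = 2 := by rw [ht, orderOf_conj_eq, hs]
  have hss := invol_mul_self hs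
  have htt := invol_mul_self ht2
  have hinv := invert_mul hss htt
  set r := s * t with hr
  set k := orderOf r / 2 with hk
  have hz := orderOf_pow_half hodd
  have hzs := commute_pow_half hss hinv hodd
  rw [← hk] at hz hzs
  have hconj : IsConj s (s * r ^ k) := by
    rcases Nat.even_or_odd k with ⟨i, hi⟩ | ⟨i, hi⟩
    · refine isConj_iff.2 ⟨r ^ (-(i : ℤ)), ?_⟩
      rw [invert_comm hss hinv, neg_neg, ← zpow_neg, neg_neg, mul_assoc, ← zpow_add, ← zpow_natCast,
        hi]
      push_cast
      rfl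
    · refine (isConj_iff.2 ⟨g, rfl⟩ : IsConj s t).trans (isConj_iff.2 ⟨r ^ (-(i : ℤ)), ?_⟩)
      have hst : t = s * r := by rw [hr, ← mul_assoc, hss, one_mul]
      rw [hst, ← mul_assoc, invert_comm hss hinv, neg_neg, ← zpow_neg, neg_neg, mul_assoc, mul_assoc,
        ← zpow_natCast]
      congr 1
      rw [← mul_assoc, ← zpow_add_one, ← zpow_add, hi]
      push_cast
      congr 1
      ring
  obtain ⟨d, hd⟩ := isConj_iff.1 hconj
  have hcomm : Commute s (d * s * d⁻¹) := by
    rw [hd]
    exact (Commute.refl s).mul_right hzs.symm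
  have := hu d hcomm
  rw [hd, mul_eq_left] at this
  exact invol_ne_one hz this

namespace MinEx

theorem exists_member (h : MinEx p q D) : ∃ A, A ∈ D := by
  by_contra hcon
  push Not at hcon
  have htop : (⊤ : Subgroup G) = ⊥ := by
    rw [← h.gen, eq_bot_iff]
    exact sSup_le fun E hE => absurd hE (hcon E)
  have := h.even
  rw [← Subgroup.card_top, htop, Subgroup.card_bot] at this
  exact absurd this (by decide)

theorem fixed_set_ne (h : MinEx p q D) {s : G} (hs : orderOf s = 2) {A : Subgroup G} (hA : A ∈ D)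
    (hsA : cj s A = A) : ∃ E ∈ D, E ≠ A ∧ cj s E = E := by
  by_contra hcon
  push Not at hcon
  have hg := h.toGeo
  have hss : s * s = 1 := Involutions.Basic.invol_mul_self hs
  have hsc := hg.invol_centralizes h.gen hA hss hsA
  refine Involutions.Basic.invol_ne_one hs ?_
  have hiso : ZStar.Reduction.Iso s := by
    refine iso_of_commute_conj hs fun g hcomm => ?_
    set t := g * s * g⁻¹ with ht
    have htt : t * t = 1 := by
      calc t * t = g * (s * s) * g⁻¹ := by rw [ht]; group
        _ = 1 := by rw [hss]; group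
    -- `t` fixes `A` and nothing else
    have htA : cj t A = A := by
      by_contra hne
      refine hcon _ (hg.inv A hA t) hne ?_
      rw [← cj_mul, hcomm.eq, cj_mul, hsA]
    have htonly : ∀ E ∈ D, cj t E = E → E = A := by
      intro E hE hEt
      have key : ∀ F ∈ D, cj t F = F → F = cj g A := by
        intro F hF hFt
        have h1 : cj s (cj g⁻¹ F) = cj g⁻¹ F := by
          conv_rhs => rw [← hFt]
          rw [ht, ← cj_mul, ← cj_mul]
          congr 1
          group
        have h2 : cj g⁻¹ F = A := by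
          by_contra hne
          exact hcon _ (hg.inv F hF _) hne h1
        rw [← h2, cj_cj_inv]
      rw [key E hE hEt, ← key A hA htA]
    set w := s * t with hw
    have hfix : ∀ B ∈ D, cj w B = B := by
      intro B hB
      by_cases hBA : B = A
      · rw [hBA, hw, cj_mul, htA, hsA]
      have hsB : cj s B ≠ B := hcon B hB hBA
      obtain ⟨r, hr, hBr⟩ := hg.mem_line hA hB (Ne.symm hBA) hB le_sup_right
      set L := A ⊔ B with hL
      have hinv : ∀ u : G, u * u = 1 → cj u A = A → (∀ E ∈ D, cj u E = E → E = A) →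
          cj u L = L ∧ ∀ x ∈ ⁅L, L⁆, u * x * u⁻¹ * x ∈ cK L := by
        intro u huu huA honly
        have huB : cj u B ≠ B := fun e => hBA (honly B hB e)
        obtain ⟨E, hE, hEL, huE⟩ :=
          hg.exists_fixed_member hB (hg.inv B hB u) (Ne.symm huB) huu rfl
        rw [honly E hE huE] at hEL
        have hLe : L = B ⊔ cj u B :=
          hg.gen2 B hB _ (hg.inv B hB u) (Ne.symm huB) A hA B hB hEL le_sup_left (Ne.symm hBA)
        have huL : cj u L = L := by
          rw [hLe, cj_sup, ← cj_mul, huu, cj_one, sup_comm]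
        refine ⟨huL, fun x hx => ?_⟩
        have huQ : u ∈ Subgroup.normalizer (⁅L, L⁆ : Subgroup G) :=
          cj_eq_self_iff.1 (by rw [cj_commutator, huL])
        set z := u * x * u⁻¹ * x with hz
        have hxu : u * x * u⁻¹ ∈ (⁅L, L⁆ : Subgroup G) := conj_mem_of_mem_normalizer huQ hx
        have hzQ : z ∈ (⁅L, L⁆ : Subgroup G) := mul_mem hxu hx
        -- `u z u⁻¹ = x (u x u⁻¹)` differs from `z` by a central element
        have hcd : ⁅x, u * x * u⁻¹⁆ ∈ cK L := by
          rw [hg.cK_line hA hB (Ne.symm hBA)]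
          exact ⟨comm_le_self _ (Subgroup.commutator_mem_commutator hx hxu),
            hg.der_der_le hA hB (Ne.symm hBA) (Subgroup.commutator_mem_commutator hx hxu)⟩
        have huz : u * z * u⁻¹ = ⁅x, u * x * u⁻¹⁆ * z := by
          rw [hz, commutatorElement_def]
          calc u * (u * x * u⁻¹ * x) * u⁻¹ = (u * u) * x * (u * u)⁻¹ * (u * x * u⁻¹) := by group
            _ = _ := by rw [huu]; group
        have hzA : cj z A = A := by
          refine honly _ (hg.inv A hA z) ?_
          rw [← cj_mul, show u * z = ⁅x, u * x * u⁻¹⁆ * z * u by rw [← huz]; group, cj_mul, huA,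
            cj_mul]
          refine cj_eq_self_of_commute fun y hy => ?_
          exact (commute_of_mem_cK hcd
            (Geo.cj_le_of_mem le_sup_left (comm_le_self L hzQ) hy)).symm
        rw [hg.cK_line hA hB (Ne.symm hBA)]
        exact ⟨hzQ, hg.commute_of_normalizes hA (hg.derQ A hA B hB (Ne.symm hBA))
          (le_sup_left.trans (Geo.le_normalizer_der _)) hzQ hzA⟩
      obtain ⟨hsL, hsI⟩ := hinv s hss hsA fun E hE he => by
        by_contra hne; exact hcon E hE hne he
      obtain ⟨htL, htI⟩ := hinv t htt htA htonly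
      set z1 := t * r * t⁻¹ * r with hz1
      set z2 := s * r⁻¹ * s⁻¹ * r⁻¹ with hz2
      have hz1m : z1 ∈ cK L := htI r hr
      have hz2m : z2 ∈ cK L := hsI r⁻¹ (inv_mem hr)
      have hsz : s * z1 * s⁻¹ ∈ cK L := by
        have := conj_mem_cj (g := s) hz1m
        rwa [cj_cK, hsL] at this
      have hwr : w * r * w⁻¹ = (s * z1 * s⁻¹) * z2 * r := by rw [hw, hz1, hz2]; group
      rw [hBr, ← cj_mul, show w * r = (s * z1 * s⁻¹) * z2 * r * w by rw [← hwr]; group, cj_mul,
        hw, cj_mul s t, htA, hsA, cj_mul]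
      refine cj_eq_self_of_commute fun y hy => ?_
      exact (commute_of_mem_cK (mul_mem hsz hz2m)
        (Geo.cj_le_of_mem le_sup_left (comm_le_self L hr) hy)).symm
    have hwA : w ∈ Subgroup.centralizer (A : Set G) :=
      mul_mem hsc (hg.invol_centralizes h.gen hA htt htA)
    have hwc : w ∈ Subgroup.center G := by
      rw [Subgroup.mem_center_iff]
      intro x
      have hle : sSup D ≤ Subgroup.centralizer ({w} : Set G) := sSup_le fun B hB b hb =>
        Subgroup.mem_centralizer_singleton_iff.2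
          (Subgroup.mem_centralizer_iff.1 (hg.centralizes_member hA hB hwA (hfix B hB)) b hb)
      exact Subgroup.mem_centralizer_singleton_iff.1 (hle (h.gen ▸ Subgroup.mem_top x))
    rw [h.cen, Subgroup.mem_bot, hw] at hwc
    rw [← inv_eq_of_mul_eq_one_right hwc]
    exact inv_eq_of_mul_eq_one_right hss
  have := ZStar.UniqueCase.mem_center_of_iso hiso h.core
  rwa [h.cen, Subgroup.mem_bot] at this

end MinEx

end Cfsg.Agent.Lib.PairOdd
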