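import Cfsg.Agent.Lib.PairOdd.Central
import Cfsg.Agent.Lib.PairOdd.AbelianLines
import Cfsg.Agent.S0942

/-!
# Groups generated by members with odd line geometry have odd order
-/

set_option autoImplicit false

namespace Cfsg.Agent.Lib.PairOdd

open scoped commutatorElement
open Cfsg.Agent.Lib.Characters.Basic

universe u v

variable {G : Type u} [Group G] [Finite G] {p q : ℕ} {D : Set (Subgroup G)}

/-- Every product of an involution with a member element is conjugate into `s * O(C(s))`. -/
theorem MinEx.conj_into_core (h : MinEx p q D) (halt : Alt1 D ∨ Alt2 D) {s : G} (hs : orderOf s = 2)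
    {B : Subgroup G} (hB : B ∈ D) {x : G} (hx : x ∈ B) :
    ∃ r y : G, r⁻¹ * (s * x) * r = s * y ∧ y ∈ Cfsg.centralizerPPrimeCore 2 s := by
  have hss := Involutions.Basic.invol_mul_self hs
  obtain ⟨r, y, hry, hy⟩ := h.toGeo.conj_form h.gen hss hB hx
  refine ⟨r, y, hry, ?_⟩
  rcases hy with hy | ⟨E, hE, e, he, c, hsE, rfl, hEL, hsB, hc, hcs⟩
  · exact h.fixed_mem_core hs hy
  have heU : e ∈ Cfsg.centralizerPPrimeCore 2 s :=
    h.fixed_mem_core hs (h.toGeo.le_mgen_centralizer h.gen hE hss hsE he)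
  refine mul_mem ?_ heU
  rcases halt with h1 | h2
  · rw [h1 B hB _ (h.inv B hB s) (Ne.symm hsB), Subgroup.mem_bot] at hc
    rw [hc]; exact one_mem _
  · exact h.line_central_mem h2 hs hB hsB hE hEL hsE hc hcs

/-- No minimal configuration exists. -/
theorem MinEx.false (h : MinEx p q D) (halt : Alt1 D ∨ Alt2 D) : False := by
  classical
  obtain ⟨s, hs⟩ := exists_prime_orderOf_dvd_card' (G := G) 2 h.even.two_dvd
  obtain ⟨M, hM⟩ := Blocks.exists_isPModular 2 Nat.prime_two
  have := hM.2.1
  have := Fintype.ofFinite G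
  have hker : ∀ χ ∈ Cfsg.principalBlock M G,
      (χ : G → ℂ) s = 0 ∨ (χ : G → ℂ) s = (χ : G → ℂ) 1 := by
    intro χ hχ
    rcases eq_or_ne ((χ : G → ℂ) s) 0 with h0 | h0
    · exact Or.inl h0
    refine Or.inr ?_
    have hall : ∀ B ∈ D, B ≤ Characters.Kernel.charKer (isCharacter_irr χ) := by
      intro B hB x hx
      have hterm : ∀ g : G, (χ : G → ℂ) (g * x * g⁻¹ * s) = (χ : G → ℂ) s := by
        intro g
        obtain ⟨r, y, hry, hy⟩ :=
          h.conj_into_core halt hs (h.inv B hB g) (conj_mem_cj (g := g) hx)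
        rw [← Cfsg.Agent.S0942.result 2 M hM s ⟨1, by rw [hs, pow_one]⟩ y hy χ hχ, ← hry]
        refine classFunction_apply_of_isConj (isClassFunction_irr χ)
          (isConj_iff.2 ⟨r⁻¹ * s, ?_⟩)
        group
      have hsum := Blocks.sum_char_conj_mul χ s x
      simp only [hterm, Finset.sum_const, Finset.card_univ, nsmul_eq_mul] at hsum
      rw [← Nat.card_eq_fintype_card, mul_div_assoc, mul_assoc] at hsum
      have hG0 : (Nat.card G : ℂ) ≠ 0 := Nat.cast_ne_zero.2 Nat.card_pos.ne'
      have h1 := mul_left_cancel₀ hG0 hsum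
      rw [Characters.Kernel.mem_charKer]
      have h2 : (χ : G → ℂ) x / (χ : G → ℂ) 1 = 1 := by
        refine mul_right_cancel₀ h0 ?_
        rw [one_mul]; exact h1.symm
      exact (div_eq_one_iff_eq (apply_one_ne_zero χ)).1 h2
    exact (Characters.Kernel.mem_charKer _ s).1 (sSup_le hall (h.gen ▸ Subgroup.mem_top s))
  have horth := Blocks.weak_orthogonality hM (Blocks.isPBlock_principalBlock (G := G))
    (x := (1 : G)) (y := s) (by simp) (by rw [hs])
  have := Fintype.ofFinite (Cfsg.IrrCharacter G)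
  rw [finsum_mem_eq_sum_of_inter_support_eq (t := Finset.univ.filter
    (fun χ => χ ∈ Cfsg.principalBlock M G)) _ (by simp)] at horth
  have hre := congrArg Complex.re horth
  rw [Complex.re_sum, Complex.zero_re] at hre
  have hnn : ∀ χ ∈ Finset.univ.filter (fun χ => χ ∈ Cfsg.principalBlock M G),
      0 ≤ ((χ : G → ℂ) 1 * starRingEnd ℂ ((χ : G → ℂ) s)).re := by
    intro χ hχ
    rcases hker χ (Finset.mem_filter.1 hχ).2 with e | e
    · simp [e]
    · rw [e, Complex.mul_conj]
      exact_mod_cast Complex.normSq_nonneg _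
  have h1 := (Finset.sum_eq_zero_iff_of_nonneg hnn).1 hre (oneChar G)
    (Finset.mem_filter.2 ⟨Finset.mem_univ _, Blocks.oneChar_mem_principalBlock⟩)
  simp [oneChar_apply] at h1

theorem odd_aux : ∀ (m : ℕ) (G : Type u) [Group G] [Finite G] (p q : ℕ) (D : Set (Subgroup G)),
    Nat.card G = m → Geo p q D → sSup D = ⊤ → (Alt1 D ∨ Alt2 D) → Odd (Nat.card G) := by
  intro m
  induction m using Nat.strong_induction_on with
  | _ m ih =>
    intro G _ _ p q D hm h hD halt
    have hKtop : mgen D (⊤ : Subgroup G) = ⊤ := by simp [mgen, hD]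
    have hquot : ∀ (Y : Subgroup G) [Y.Normal], Y ≠ ⊥ →
        (∀ K, mgen D K = K → Odd (Nat.card (K.map (QuotientGroup.mk' Y))) → Odd (Nat.card K)) →
        Odd (Nat.card G) := by
      intro Y _ hY hYodd
      have hlt : Nat.card (G ⧸ Y) < m := by
        rw [← hm, Subgroup.card_eq_card_quotient_mul_card_subgroup Y]
        exact lt_mul_of_one_lt_right Nat.card_pos (Subgroup.one_lt_card_iff_ne_bot Y |>.2 hY)
      have hsurj := QuotientGroup.mk'_surjective Y
      have := ih _ hlt (G ⧸ Y) p q _ rfl (h.img hsurj) (sSup_imgD hsurj hD)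
        (halt.imp (fun h1 => h1.img h _) (fun h2 => h2.img h hsurj hYodd))
      have := hYodd ⊤ hKtop (by
        rw [Subgroup.map_top_of_surjective _ hsurj, Subgroup.card_top]; exact this)
      rwa [Subgroup.card_top] at this
    by_contra hnodd
    rw [Nat.not_odd_iff_even] at hnodd
    have hcore : ∀ N : Subgroup G, N.Normal → Odd (Nat.card N) → N = ⊥ := by
      intro N hN hNodd
      by_contra hne
      exact Nat.not_odd_iff_even.2 hnodd
        (hquot N hne fun K _ hK => odd_of_odd_kernel hNodd hK)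
    have hcen : Subgroup.center G = ⊥ := by
      by_contra hne
      exact Nat.not_odd_iff_even.2 hnodd
        (hquot (Subgroup.center G) hne fun K hK hK' => odd_of_central h le_rfl hK hK')
    have hproper : ∀ K, mgen D K = K → K ≠ ⊤ → Odd (Nat.card K) := by
      intro K hK hKt
      refine ih _ ?_ K p q (subD D K) rfl (h.sub K) (sSup_subD hK)
        (halt.imp (fun h1 => h1.sub K) (fun h2 => h2.sub K))
      rw [← hm]
      exact lt_of_le_of_ne (Subgroup.card_le_card_group K) fun e =>
        hKt (Subgroup.card_eq_iff_eq_top K |>.1 e)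
    exact MinEx.false ⟨h, hD, hnodd, hproper, hcore, hcen⟩ halt

/-- The central quotient of a group with a fixed pair group of odd order. -/
theorem frobenius_of_pairHyp {F : Type v} [Group F] [Finite F] (hP : PairHyp p D F) :
    Odd (Nat.card (G ⧸ Subgroup.center G)) ∧
      ∃ H : Subgroup (G ⧸ Subgroup.center G), Cfsg.IsFrobeniusComplement H := by
  obtain ⟨q, hg⟩ := hP.exists_geo
  have halt : Alt1 D ∨ Alt2 D := by
    by_cases hF : derivedSeries F 2 = ⊥
    · exact Or.inl (hP.alt1 hg hF)
    · exact Or.inr (hP.alt2 hg hF)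
  have hodd : Odd (Nat.card G) := odd_aux _ G p q D rfl hg hP.gen halt
  refine ⟨hodd.of_dvd_nat (Subgroup.card_quotient_dvd_card _), ?_⟩
  obtain ⟨A, hA, B, hB, hAB⟩ := hP.exists_pair
  have hKtop : mgen D (⊤ : Subgroup G) = ⊤ := by simp [mgen, hP.gen]
  have hKodd : Odd (Nat.card (⊤ : Subgroup G)) := by rwa [Subgroup.card_top]
  set N : Subgroup G := ⁅(⊤ : Subgroup G), ⊤⁆ with hN
  have hgen : N ⊔ A = ⊤ := hg.eq_der_sup hKtop hA le_top
  have hNq : IsPGroup q N := hg.str hKtop hKodd
  have hfix : N ⊓ Subgroup.centralizer (A : Set G) ≤ Subgroup.center G := by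
    rcases halt with h1 | h2
    · rw [alt1_fixed_aux _ G p q D rfl hg h1 hP.gen hodd A hA]
      exact bot_le
    · intro z hz
      refine Subgroup.mem_center_iff.2 fun g => ?_
      exact Subgroup.mem_centralizer_iff.1 ((h2 ⊤ hKtop hKodd A hA le_top).2 hz) g
        (Subgroup.mem_top g)
  have hAN : A ≤ Subgroup.normalizer (N : Set G) := le_top.trans (Geo.le_normalizer_der _)
  have hAnotZ : ¬ A ≤ Subgroup.center G := fun hle => hP.not_commute hA hB hAB fun a ha =>
    mem_centralizer_of_commute fun b _ => Subgroup.mem_center_iff.1 (hle ha) b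
  set π := QuotientGroup.mk' (Subgroup.center G) with hπ
  have hkerπ : π.ker = Subgroup.center G := QuotientGroup.ker_mk' _
  refine ⟨A.map π, ?_, ?_, ?_⟩
  · intro e
    exact hAnotZ (((Subgroup.map_eq_bot_iff _).1 e).trans hkerπ.le)
  · intro e
    have htop : A ⊔ Subgroup.center G = ⊤ := by
      rw [← hkerπ, ← Subgroup.comap_map_eq, e, Subgroup.comap_top]
    refine hP.not_commute hB hA hAB.symm ?_
    have hcA : (⊤ : Subgroup G) ≤ Subgroup.centralizer (A : Set G) :=
      htop ▸ sup_le (hP.commute_self hA) (Subgroup.center_le_centralizer _)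
    exact le_top.trans hcA
  · intro g' hg'
    obtain ⟨g, rfl⟩ := (show Function.Surjective π from QuotientGroup.mk'_surjective _) g'
    by_contra hne
    obtain ⟨⟨x, hx⟩, hx1⟩ := Subgroup.ne_bot_iff_exists_ne_one.1 hne
    rw [Subgroup.mem_inf, Subgroup.mem_pointwise_smul_iff_inv_smul_mem] at hx
    obtain ⟨⟨a, ha, rfl⟩, b, hb, hbx⟩ := hx
    have ha1 : a ≠ 1 := fun e => hx1 (Subtype.ext (by simp [e]))
    -- `g b g⁻¹` and `a` agree modulo the centre
    have hconj : π (g * b * g⁻¹) = π a := by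
      rw [map_mul, map_mul, map_inv, hbx, MulAut.smul_def, MulAut.conj_inv_apply]
      group
    have hz : (g * b * g⁻¹)⁻¹ * a ∈ Subgroup.center G := QuotientGroup.eq.1 hconj
    obtain ⟨a0, hAa, -, -⟩ := hg.exists_gen hA
    have haz : A = Subgroup.zpowers a :=
      ((hg.inf_eq_bot_or_le hA (Subgroup.zpowers a)).resolve_left fun e0 =>
        ha1 (Subgroup.mem_bot.1 (e0 ▸ Subgroup.mem_inf.2 ⟨Subgroup.mem_zpowers a, ha⟩))).antisymm
          (Subgroup.zpowers_le.2 ha)
    set A' := cj g A with hA'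
    have hA'D : A' ∈ D := hg.inv A hA g
    have hy : g * b * g⁻¹ ∈ A' := conj_mem_cj hb
    have hcomm : A ≤ Subgroup.centralizer (A' : Set G) := by
      have h1 : A' ≤ Subgroup.centralizer ({g * b * g⁻¹} : Set G) := fun y hy' =>
        Subgroup.mem_centralizer_singleton_iff.2
          (Subgroup.mem_centralizer_iff.1 (hP.commute_self hA'D hy) y hy')
      rw [haz, Subgroup.zpowers_le]
      refine mem_centralizer_of_commute fun y hy' => ?_
      have e : a = g * b * g⁻¹ * ((g * b * g⁻¹)⁻¹ * a) := by group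
      have hc1 : Commute y (g * b * g⁻¹) := Subgroup.mem_centralizer_singleton_iff.1 (h1 hy')
      have hc2 : Commute y ((g * b * g⁻¹)⁻¹ * a) := Subgroup.mem_center_iff.1 hz y
      rw [e]
      exact (hc1.mul_right hc2).eq
    have hgA : cj g A = A := by
      by_contra hne'
      exact hP.not_commute hA hA'D (Ne.symm hne') hcomm
    obtain ⟨n, hn, a1, ha1', e⟩ :=
      mem_sup_decomp hAN (show g ∈ N ⊔ A from hgen ▸ Subgroup.mem_top g)
    have hnA : cj n A = A := by
      rw [e, cj_mul, cj_eq_self_of_mem ha1'] at hgA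
      exact hgA
    have hnZ : n ∈ Subgroup.center G :=
      hfix ⟨hn, hg.commute_of_normalizes hA hNq hAN hn hnA⟩
    refine hg' ⟨a1, ha1', ?_⟩
    rw [e, map_mul, show QuotientGroup.mk' (Subgroup.center G) n = 1 from
      (QuotientGroup.eq_one_iff n).2 hnZ, one_mul]

end Cfsg.Agent.Lib.PairOdd
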