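import Cfsg.Agent.Lib.PairOdd.Str

/-!
# Maximal generated subgroups with nontrivial centre in a minimal even configuration
-/

set_option autoImplicit false

namespace Cfsg.Agent.Lib.PairOdd

open scoped commutatorElement

universe u

variable {G : Type u} [Group G] {p q : ℕ} {D : Set (Subgroup G)}

/-- A minimal configuration of even order. -/
structure MinEx (p q : ℕ) (D : Set (Subgroup G)) : Prop extends Geo p q D where
  gen : sSup D = ⊤
  even : Even (Nat.card G)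
  proper : ∀ K, mgen D K = K → K ≠ ⊤ → Odd (Nat.card K)
  core : ∀ N : Subgroup G, N.Normal → Odd (Nat.card N) → N = ⊥
  cen : Subgroup.center G = ⊥

/-- A maximal generated subgroup with nontrivial central part. -/
structure CMax (D : Set (Subgroup G)) (X : Subgroup G) : Prop where
  mg : mgen D X = X
  ne_top : X ≠ ⊤
  ne_bot : cK X ≠ ⊥
  max : ∀ K, mgen D K = K → K ≠ ⊤ → X ≤ K → K = X

namespace MinEx

variable [Finite G]

theorem mgen_centralizer_ne (h : MinEx p q D) {z : G} (hz : z ≠ 1) :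
    mgen D (Subgroup.centralizer ({z} : Set G)) ≠ ⊤ := by
  intro e
  have htop : Subgroup.centralizer ({z} : Set G) = ⊤ := top_unique (e ▸ mgen_le _ _)
  have : z ∈ Subgroup.center G := Subgroup.mem_center_iff.2 fun g =>
    Subgroup.mem_centralizer_singleton_iff.1 (htop ▸ Subgroup.mem_top g)
  rw [h.cen, Subgroup.mem_bot] at this
  exact hz this

theorem mgen_normalizer_ne (h : MinEx p q D) {Y : Subgroup G} (hY : Odd (Nat.card Y))
    (hne : Y ≠ ⊥) : mgen D (Subgroup.normalizer (Y : Set G)) ≠ ⊤ := fun e =>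
  hne (h.core Y (Subgroup.normalizer_eq_top_iff.1 (top_unique (e ▸ mgen_le _ _))) hY)

theorem cmax_cj (h : MinEx p q D) {X : Subgroup G} (hX : CMax D X) (g : G) :
    CMax D (cj g X) where
  mg := by rw [← h.toGeo.cj_mgen, hX.mg]
  ne_top e := hX.ne_top (by
    rw [← cj_inv_cj g X, e]
    exact top_unique fun x _ => mem_cj.2 (Subgroup.mem_top _))
  ne_bot e := hX.ne_bot (by
    rw [← cj_inv_cj g X, ← cj_cK, e, cj, Subgroup.map_bot])
  max K hK hKt hle := by
    rw [← cj_cj_inv g K]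
    congr 1
    refine hX.max _ (by rw [← h.toGeo.cj_mgen, hK]) (fun e => hKt ?_) ?_
    · rw [← cj_cj_inv g K, e]
      exact top_unique fun x _ => mem_cj.2 (Subgroup.mem_top _)
    · simpa [cj_inv_cj] using cj_mono (g := g⁻¹) hle

theorem odd_cmax (h : MinEx p q D) {X : Subgroup G} (hX : CMax D X) : Odd (Nat.card X) :=
  h.proper X hX.mg hX.ne_top

theorem der_qgroup (h : MinEx p q D) {K : Subgroup G} (hK : mgen D K = K) (hKt : K ≠ ⊤) :
    IsPGroup q ↥(⁅K, K⁆ : Subgroup G) := h.toGeo.str hK (h.proper K hK hKt)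

theorem cmax_centralizer (h : MinEx p q D) {X : Subgroup G} (hX : CMax D X) {z : G}
    (hz : z ∈ cK X) (hz1 : z ≠ 1) : mgen D (Subgroup.centralizer ({z} : Set G)) = X := by
  refine hX.max _ (mgen_mgen _ _) (h.mgen_centralizer_ne hz1) ?_
  conv_lhs => rw [← hX.mg]
  exact mgen_mono fun x hx =>
    Subgroup.mem_centralizer_singleton_iff.2 (commute_of_mem_cK hz hx)

theorem cmax_eq (h : MinEx p q D) {X X' : Subgroup G} (hX : CMax D X) (hX' : CMax D X') {z : G}
    (hz : z ∈ cK X) (hz' : z ∈ cK X') (hz1 : z ≠ 1) : X = X' := by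
  rw [← h.cmax_centralizer hX hz hz1, h.cmax_centralizer hX' hz' hz1]

theorem cmax_inf (h : MinEx p q D) {X X' : Subgroup G} (hX : CMax D X) (hX' : CMax D X')
    (hne : X ≠ X') {z : G} (hz : z ∈ cK X) (hz' : z ∈ cK X') : z = 1 :=
  by_contra fun hz1 => hne (h.cmax_eq hX hX' hz hz' hz1)

theorem exists_cmax (h : MinEx p q D) (h2 : Alt2 D) {K A : Subgroup G} (hK : mgen D K = K)
    (hKt : K ≠ ⊤) (hA : A ∈ D) (hAK : A ≤ K) (hc : cK K ≠ ⊥) : ∃ X, CMax D X ∧ K ≤ X := by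
  obtain ⟨X, hKX, hmax⟩ := Finite.exists_le_maximal
    (p := fun X : Subgroup G => mgen D X = X ∧ X ≠ ⊤) ⟨hK, hKt⟩
  refine ⟨X, ⟨hmax.prop.1, hmax.prop.2, fun e => hc ?_, fun L hL hLt hle =>
    le_antisymm (hmax.2 ⟨hL, hLt⟩ hle) hle⟩, hKX⟩
  exact le_bot_iff.1 (e ▸ Geo.cK_mono h2 hmax.prop.1 (h.proper X hmax.prop.1 hmax.prop.2) hA hAK hKX)

theorem cmax_unique (h : MinEx p q D) (h2 : Alt2 D) {X X' K A : Subgroup G} (hX : CMax D X)
    (hX' : CMax D X') (hA : A ∈ D) (hAK : A ≤ K) (hKX : K ≤ X) (hKX' : K ≤ X')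
    (hc : cK K ≠ ⊥) : X = X' := by
  obtain ⟨⟨z, hz⟩, hz1⟩ := (cK K).ne_bot_iff_exists_ne_one.1 hc
  exact h.cmax_eq hX hX' (Geo.cK_mono h2 hX.mg (h.odd_cmax hX) hA hAK hKX hz)
    (Geo.cK_mono h2 hX'.mg (h.odd_cmax hX') hA hAK hKX' hz) fun e => hz1 (Subtype.ext e)

theorem cmax_fixed (h : MinEx p q D) {X : Subgroup G} (hX : CMax D X) {g z : G} (hz : z ∈ cK X)
    (hz1 : z ≠ 1) (hg : g * z = z * g) : cj g X = X := by
  refine h.cmax_eq (h.cmax_cj hX g) hX ?_ hz hz1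
  rw [← cj_cK, mem_cj, mul_assoc, ← hg, inv_mul_cancel_left]
  exact hz

theorem cj_cK_eq {X : Subgroup G} {g : G} (hg : cj g X = X) : cj g (cK X) = cK X := by
  rw [cj_cK, hg]

theorem cK_qgroup (h : MinEx p q D) {K : Subgroup G} (hK : mgen D K = K) (hKt : K ≠ ⊤) :
    IsPGroup q (cK K) := (h.der_qgroup hK hKt).to_le inf_le_left

/-- The kernel of a generated subgroup with trivial central part is commutative. -/
theorem der_comm (h : MinEx p q D) (h2 : Alt2 D) {K A : Subgroup G} (hK : mgen D K = K)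
    (hKt : K ≠ ⊤) (hA : A ∈ D) (hAK : A ≤ K) (hc : cK K = ⊥) {x y : G} (hx : x ∈ ⁅K, K⁆)
    (hy : y ∈ ⁅K, K⁆) : x * y = y * x := by
  refine commutatorElement_eq_one_iff_mul_comm.1 (Subgroup.mem_bot.1 ?_)
  rw [← hc, Geo.cK_eq h2 hK (h.proper K hK hKt) hA hAK]
  exact Subgroup.mem_inf.2 ⟨comm_le_self _ (Subgroup.commutator_mem_commutator hx hy),
    (h2 K hK (h.proper K hK hKt) A hA hAK).1 (Subgroup.commutator_mem_commutator hx hy)⟩

/-- The configuration lemma for a generated subgroup with commutative kernel. -/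
theorem abelian_case (h : MinEx p q D) (h2 : Alt2 D) {X A S : Subgroup G} (hX : CMax D X)
    (hA : A ∈ D) (hAX : A ≤ X) (hS : mgen D S = S) (hSt : S ≠ ⊤) (hAS : A ≤ S)
    (hSX : ¬ S ≤ X) (hC : ∀ c ∈ cK X, cj c S = S) : cK S ≠ ⊥ := by
  intro hc
  have hSo := h.proper S hS hSt
  have hXo := h.odd_cmax hX
  set R := mgen D (S ⊓ X) with hR
  have hRS : R ≤ S := (mgen_le _ _).trans inf_le_left
  have hRX : R ≤ X := (mgen_le _ _).trans inf_le_right
  have hRm : mgen D R = R := mgen_mgen _ _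
  have hAR : A ≤ R := le_mgen hA (le_inf hAS hAX)
  set J := (⁅R, R⁆ : Subgroup G) with hJ
  have hJS : J ≤ ⁅S, S⁆ := Subgroup.commutator_mono hRS hRS
  have hJX : J ≤ X := (comm_le_self R).trans hRX
  have hCJ : ∀ c ∈ cK X, c ∈ Subgroup.normalizer (J : Set G) := fun c hc' =>
    cj_eq_self_iff.1 (cj_eq_self_of_commute fun x hx => (commute_of_mem_cK hc' (hJX hx)).symm)
  have hne : ¬ ⁅S, S⁆ ≤ J := by
    intro hle
    refine hSX ((h.toGeo.le_of_der_le hS hSo hA hAS hAR ?_ ?_).trans hRX)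
    · exact hle.trans ((comm_le_self R).trans le_sup_left)
    · rw [← Geo.cK_eq h2 hS hSo hA hAS, hc]; exact bot_le
  obtain ⟨n, hn, hnJ⟩ := exists_fixMod h.hq (h.der_qgroup hS hSt)
    (h.cK_qgroup hX.mg hX.ne_top) hJS
    (fun x hx => cj_eq_self_iff.1 (cj_eq_self_of_commute fun y hy =>
      h.der_comm h2 hS hSt hA hAS hc hx (hJS hy)))
    (fun c hc' => cj_eq_self_iff.1 (by rw [cj_commutator, hC c hc'])) hCJ hne
  set Z := J ⊔ cK X with hZdef
  have hCXn : cK X ≤ ⁅X, X⁆ := inf_le_left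
  have hZX : Z ≤ ⁅X, X⁆ := sup_le (Subgroup.commutator_mono hRX hRX) hCXn
  have hn' : n ∈ Subgroup.normalizer (Z : Set G) := by
    suffices h' : n⁻¹ ∈ Subgroup.normalizer (Z : Set G) by simpa using inv_mem h'
    refine cj_eq_self_iff.1 (cj_eq_of_le ?_)
    rw [hZdef, cj_sup]
    refine sup_le ?_ ?_
    · rw [cj_eq_self_of_commute fun y hy =>
        h.der_comm h2 hS hSt hA hAS hc (inv_mem hn.1) (hJS hy)]
      exact le_sup_left
    · rintro _ ⟨c, hc', rfl⟩
      have e : (MulAut.conj n⁻¹).toMonoidHom c = n⁻¹ * (c * n * c⁻¹) * c := by simp [mul_assoc]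
      rw [e]
      exact mul_mem (Subgroup.mem_sup_left (hn.2.2 c hc')) (Subgroup.mem_sup_right hc')
  have hAZ : A ≤ Subgroup.normalizer (Z : Set G) := fun a ha => cj_eq_self_iff.1 (by
    rw [hZdef, cj_sup, cj_commutator, cj_eq_self_of_mem (hAR ha),
      cj_cK_eq (cj_eq_self_of_mem (hAX ha))])
  have hder : ⁅⁅X, X⁆, ⁅X, X⁆⁆ ≤ cK X := by
    rw [Geo.cK_eq h2 hX.mg hXo hA hAX]
    exact le_inf (comm_le_self _) (h2 X hX.mg hXo A hA hAX).1
  have hNZ : ⁅X, X⁆ ≤ Subgroup.normalizer (Z : Set G) := fun x hx =>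
    mem_normalizer_of_conj_mem fun y hy => by
      have e : x * y * x⁻¹ = ⁅x, y⁆ * y := by simp [commutatorElement_def]
      rw [e]
      exact mul_mem (Subgroup.mem_sup_right
        (hder (Subgroup.commutator_mem_commutator hx (hZX hy)))) hy
  have hXT : X ≤ mgen D (Subgroup.normalizer (Z : Set G)) := by
    conv_lhs => rw [← hX.mg]
    refine mgen_mono ?_
    conv_lhs => rw [← h.toGeo.eq_der_sup hX.mg hA hAX]
    exact sup_le hNZ hAZ
  have hPT : cj n A ≤ mgen D (Subgroup.normalizer (Z : Set G)) := by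
    refine le_mgen (h.inv A hA n) ?_
    rw [← cj_eq_self_of_mem hn']
    exact cj_mono hAZ
  have hZo : Odd (Nat.card Z) :=
    (h.toGeo.odd_card (h.der_qgroup hX.mg hX.ne_top)).of_dvd_nat (Subgroup.card_dvd_of_le hZX)
  have hT := hX.max _ (mgen_mgen _ _) (h.mgen_normalizer_ne hZo fun e =>
    hX.ne_bot (le_bot_iff.1 (e ▸ le_sup_right))) hXT
  have hPR : cj n A ≤ R :=
    le_mgen (h.inv A hA n) (le_inf (Geo.cj_le_of_mem hAS (comm_le_self S hn.1)) (hPT.trans hT.le))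
  have := h.toGeo.mem_of_cj_le hS hSo hA hRm hRS hAR hn.1 hPR
  rw [← Geo.cK_eq h2 hS hSo hA hAS, hc, sup_bot_eq] at this
  exact hnJ this

end MinEx

end Cfsg.Agent.Lib.PairOdd
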