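import Cfsg.Agent.Lib.PairOdd.Transport
import Cfsg.Agent.Lib.OddOrder.FeitThompson

/-!
# Odd generated subgroups
-/

set_option autoImplicit false

namespace Cfsg.Agent.Lib.PairOdd

open scoped commutatorElement

universe u

theorem str_top : ∀ (m : ℕ) (G : Type u) [Group G] [Finite G] (p q : ℕ) (D : Set (Subgroup G)),
    Nat.card G = m → Geo p q D → sSup D = ⊤ → Odd (Nat.card G) →
    IsPGroup q ↥(⁅(⊤ : Subgroup G), ⊤⁆ : Subgroup G) := by
  intro m
  induction m using Nat.strong_induction_on with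
  | _ m ih =>
    intro G _ _ p q D hm h hD hodd
    by_cases hone : ∀ A ∈ D, ∀ B ∈ D, A = B
    · have hbot : (⁅(⊤ : Subgroup G), ⊤⁆ : Subgroup G) = ⊥ := by
        rw [Subgroup.commutator_eq_bot_iff_le_centralizer, ← hD]
        refine sSup_le fun A hA => ?_
        have htop : sSup D = A :=
          le_antisymm (sSup_le fun B hB => (hone B hB A hA).le) (le_sSup hA)
        rw [htop]
        obtain ⟨a, hAa, -, -⟩ := h.exists_gen hA
        intro x hx
        refine mem_centralizer_of_commute fun y hy => ?_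
        rw [hAa] at hx hy
        obtain ⟨i, rfl⟩ := Subgroup.mem_zpowers_iff.1 hx
        obtain ⟨j, rfl⟩ := Subgroup.mem_zpowers_iff.1 hy
        rw [← zpow_add, ← zpow_add, add_comm]
      rw [hbot]
      exact IsPGroup.of_bot
    push Not at hone
    obtain ⟨A, hA, B, hB, hAB⟩ := hone
    have : Group.IsSolvable G := OddOrder.FeitThompson.isSolvable_of_odd_card hodd
    classical
    have hex : ∃ n, derivedSeries G n = ⊥ := Group.IsSolvable.solvable
    obtain ⟨j, hj⟩ : ∃ j, Nat.find hex = j + 1 := by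
      refine ⟨Nat.find hex - 1, ?_⟩
      have : Nat.find hex ≠ 0 := fun e => by
        have h0 := e ▸ Nat.find_spec hex
        rw [derivedSeries_zero] at h0
        exact h.ne_bot hA (eq_bot_iff.2 (h0 ▸ le_top))
      omega
    set Y := derivedSeries G j with hY
    have hYne : Y ≠ ⊥ := Nat.find_min hex (by omega)
    have hYY : ⁅Y, Y⁆ = ⊥ := by
      have := Nat.find_spec hex
      rwa [hj, derivedSeries_succ] at this
    have hYn : Y.Normal := derivedSeries_normal G j
    have hYc : ∀ x ∈ Y, ∀ y ∈ Y, x * y = y * x := fun x hx y hy =>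
      (commutatorElement_eq_one_iff_mul_comm).1
        (Subgroup.mem_bot.1 (hYY ▸ Subgroup.commutator_mem_commutator hx hy))
    have hnle : ∀ E ∈ D, ¬ E ≤ Y := by
      intro E hE hle
      obtain ⟨E', hE', hne⟩ : ∃ E' ∈ D, E ≠ E' := by
        by_cases e : E = A
        · exact ⟨B, hB, e ▸ hAB⟩
        · exact ⟨A, hA, e⟩
      obtain ⟨g, -, hg⟩ := h.exists_cj_member hE hE'
      have hle' : E' ≤ Y := by
        rw [← hg, ← cj_eq_self_iff.2 (show g ∈ Subgroup.normalizer (Y : Set G) by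
          rw [Subgroup.normalizer_eq_top]; trivial)]
        exact cj_mono hle
      exact h.nonnorm E hE E' hE' hne fun x hx => Subgroup.centralizer_le_normalizer _
        (mem_centralizer_of_commute fun y hy => hYc y (hle' hy) x (hle hx))
    -- the part of `Y` of order prime to `q`
    let R : Subgroup G :=
      { carrier := {y | y ∈ Y ∧ (orderOf y).Coprime q}
        one_mem' := ⟨one_mem _, by simp⟩
        mul_mem' := fun {x y} hx hy => ⟨mul_mem hx.1 hy.1,
          Nat.Coprime.coprime_dvd_left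
            (Commute.orderOf_mul_dvd_mul_orderOf (hYc x hx.1 y hy.1)) (hx.2.mul_left hy.2)⟩
        inv_mem' := fun {x} hx => ⟨inv_mem hx.1, by rw [orderOf_inv]; exact hx.2⟩ }
    have hRY : R ≤ Y := fun x hx => hx.1
    have hRn : R.Normal := ⟨fun x hx g => ⟨hYn.conj_mem x hx.1 g, by
      have : orderOf (g * x * g⁻¹) = orderOf x := by
        simpa using MulEquiv.orderOf_eq (MulAut.conj g) x
      rw [this]; exact hx.2⟩⟩
    have hRcop : (Nat.card R).Coprime q := by
      rw [Nat.coprime_comm, h.hq.coprime_iff_not_dvd]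
      intro hd
      have := Fact.mk h.hq
      obtain ⟨x, hx⟩ := exists_prime_orderOf_dvd_card' q hd
      rw [← Subgroup.orderOf_coe] at hx
      have := x.2.2
      rw [hx, Nat.coprime_self] at this
      exact h.hq.ne_one this
    have hRcen : R ≤ Subgroup.center G := by
      intro r hr
      have hmem : ∀ E ∈ D, E ≤ Subgroup.centralizer ({r} : Set G) := by
        intro E hE e he
        have hRE : E ≤ Subgroup.normalizer (R : Set G) := by
          rw [Subgroup.normalizer_eq_top]; exact le_top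
        rcases eq_or_ne (cj r E) E with hr' | hr'
        · have h1 : r * e * r⁻¹ * e⁻¹ ∈ Y ⊓ E := Subgroup.mem_inf.2 ⟨by
            simpa [mul_assoc] using
              mul_mem (hRY hr) (hYn.conj_mem _ (inv_mem (hRY hr)) e),
            mul_mem (hr' ▸ conj_mem_cj he) (inv_mem he)⟩
          rw [(h.inf_eq_bot_or_le hE Y).resolve_right (hnle E hE), Subgroup.mem_bot,
            mul_inv_eq_one, mul_inv_eq_iff_eq_mul] at h1
          exact Subgroup.mem_centralizer_singleton_iff.2 h1.symm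
        · exfalso
          have hE' := h.inv E hE r
          have hle : E ⊔ cj r E ≤ R ⊔ E := by
            refine sup_le le_sup_right ?_
            rw [← cj_eq_self_of_mem (Subgroup.mem_sup_left hr : r ∈ R ⊔ E)]
            exact cj_mono le_sup_right
          have hQR : ⁅E ⊔ cj r E, E ⊔ cj r E⁆ ≤ R := by
            refine (Subgroup.commutator_mono hle hle).trans ?_
            refine ((Subgroup.map_eq_bot_iff _).1 ?_).trans (QuotientGroup.ker_mk' R).le
            rw [Subgroup.map_commutator,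
              Subgroup.map_sup, QuotientGroup.map_mk'_self, bot_sup_eq,
              Subgroup.commutator_eq_bot_iff_le_centralizer]
            rintro _ ⟨x, hx, rfl⟩
            refine mem_centralizer_of_commute ?_
            rintro _ ⟨y, hy, rfl⟩
            obtain ⟨a, hEa, -, -⟩ := h.exists_gen hE
            rw [hEa] at hx hy
            obtain ⟨i, rfl⟩ := Subgroup.mem_zpowers_iff.1 hx
            obtain ⟨k, rfl⟩ := Subgroup.mem_zpowers_iff.1 hy
            rw [← map_mul, ← map_mul, ← zpow_add, ← zpow_add, add_comm]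
          refine h.der_not_le hE hE' hr'.symm ?_
          have := Fact.mk h.hq
          obtain ⟨k, hk⟩ := (h.derQ E hE _ hE' hr'.symm).exists_card_eq
          have hdvd := hk ▸ Subgroup.card_dvd_of_le hQR
          have h0 : k = 0 := by
            by_contra hk0
            exact h.hq.coprime_iff_not_dvd.1 hRcop.symm ((dvd_pow_self q hk0).trans hdvd)
          rw [Subgroup.card_eq_one.1 (show Nat.card (⁅E ⊔ cj r E, E ⊔ cj r E⁆ : Subgroup G) = 1 by
            rw [hk, h0, pow_zero])]
          exact bot_le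
      rw [Subgroup.mem_center_iff]
      intro g
      have : g ∈ Subgroup.centralizer ({r} : Set G) :=
        sSup_le hmem (hD ▸ Subgroup.mem_top g)
      exact Subgroup.mem_centralizer_singleton_iff.1 this
    -- the quotient
    have hlt : Nat.card (G ⧸ Y) < m := by
      rw [← hm, Subgroup.card_eq_card_quotient_mul_card_subgroup Y]
      exact lt_mul_of_one_lt_right Nat.card_pos (Subgroup.one_lt_card_iff_ne_bot Y |>.2 hYne)
    have hYodd : Odd (Nat.card (G ⧸ Y)) := hodd.of_dvd_nat (Subgroup.card_quotient_dvd_card Y)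
    have IH := ih _ hlt (G ⧸ Y) p q _ rfl (h.img (QuotientGroup.mk'_surjective Y))
      (sSup_imgD (QuotientGroup.mk'_surjective Y) hD) hYodd
    set N : Subgroup G := ⁅(⊤ : Subgroup G), ⊤⁆ with hN
    set N1 := N ⊔ Y with hN1
    have hN1q : ∀ x ∈ N1, ∃ k, x ^ q ^ k ∈ R := by
      intro x hx
      have hx' : (QuotientGroup.mk' Y) x ∈ (⁅(⊤ : Subgroup (G ⧸ Y)), ⊤⁆ : Subgroup (G ⧸ Y)) := by
        have := Subgroup.mem_map_of_mem (QuotientGroup.mk' Y) hx
        rwa [hN1, hN, Subgroup.map_sup, QuotientGroup.map_mk'_self, sup_bot_eq,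
          Subgroup.map_commutator,
          Subgroup.map_top_of_surjective _ (QuotientGroup.mk'_surjective Y)] at this
      obtain ⟨k, hk⟩ := IH ⟨_, hx'⟩
      have hxY : x ^ q ^ k ∈ Y := by
        rw [← QuotientGroup.eq_one_iff]
        exact congrArg Subtype.val hk
      obtain ⟨e, t, ht, he⟩ :=
        Nat.exists_eq_pow_mul_and_not_dvd (orderOf_pos (x ^ q ^ k)).ne' q h.hq.ne_one
      refine ⟨k + e, ?_, ?_⟩
      · rw [pow_add, pow_mul]; exact pow_mem hxY _
      · rw [pow_add, pow_mul, orderOf_pow, he, Nat.gcd_mul_right_left,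
          Nat.mul_div_cancel_left _ (pow_pos h.hq.pos e), Nat.coprime_comm]
        exact h.hq.coprime_iff_not_dvd.2 ht
    have hRN1 : R ≤ N1 := hRY.trans le_sup_right
    have hN1n : N1.Normal := Subgroup.sup_normal N Y
    have := Fact.mk h.hq
    let g : N1 →* G ⧸ R := (QuotientGroup.mk' R).comp N1.subtype
    have hgq : IsPGroup q g.range := by
      rintro ⟨_, x, rfl⟩
      obtain ⟨k, hk⟩ := hN1q x x.2
      refine ⟨k, Subtype.ext ?_⟩
      show g x ^ q ^ k = 1
      rw [← map_pow]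
      exact (QuotientGroup.eq_one_iff _).2 hk
    have : Group.IsNilpotent g.range := hgq.isNilpotent
    have : Group.IsNilpotent N1 := Subgroup.isNilpotent_of_ker_le_center g.rangeRestrict (by
      rw [MonoidHom.ker_rangeRestrict]
      intro x hx
      have hxR : (x : G) ∈ R := (QuotientGroup.eq_one_iff _).1 hx
      exact Subgroup.mem_center_iff.2 fun y =>
        Subtype.ext (Subgroup.mem_center_iff.1 (hRcen hxR) y))
    let P : Sylow q N1 := default
    have hPn : (P : Subgroup N1).Normal :=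
      (Group.isNilpotent_of_finite_tfae (G := N1)).out 0 3 rfl rfl |>.mp ‹_› q ‹_› P
    have : (P : Subgroup N1).Characteristic := Sylow.characteristic_of_normal P hPn
    set P' := (P : Subgroup N1).map N1.subtype with hP'
    have hP'n : P'.Normal := ConjAct.normal_of_characteristic_of_normal
    have hN1le : N1 ≤ P' ⊔ R := by
      intro x hx
      obtain ⟨e, t, ht, he⟩ := Nat.exists_eq_pow_mul_and_not_dvd (orderOf_pos x).ne' q h.hq.ne_one
      have hxt : x ^ t ∈ P' := by
        refine ⟨⟨x, hx⟩ ^ t, ?_, rfl⟩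
        have hpg : IsPGroup q (Subgroup.zpowers ((⟨x, hx⟩ : N1) ^ t)) := by
          have hd : orderOf ((⟨x, hx⟩ : N1) ^ t) ∣ q ^ e := orderOf_dvd_of_pow_eq_one (by
            rw [← pow_mul, mul_comm, ← he, ← Subgroup.orderOf_mk x hx, pow_orderOf_eq_one])
          obtain ⟨i, -, hi⟩ := (Nat.dvd_prime_pow h.hq).1 hd
          exact IsPGroup.of_card (n := i) (by rw [Nat.card_zpowers, hi])
        obtain ⟨P1, hP1⟩ := hpg.exists_le_sylow
        have := Sylow.unique_of_normal P hPn
        exact (Subsingleton.elim P1 P) ▸ hP1 (Subgroup.mem_zpowers _)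
      obtain ⟨k, hk⟩ := hN1q x hx
      have hxe : x ^ q ^ e ∈ R := by
        have hcop : (q ^ k).Coprime (orderOf (x ^ q ^ e)) := by
          refine Nat.Coprime.pow_left _ (h.hq.coprime_iff_not_dvd.2 ?_)
          rwa [orderOf_pow, he, Nat.gcd_mul_right_left, Nat.mul_div_cancel_left _ (pow_pos h.hq.pos e)]
        obtain ⟨c, hc⟩ := exists_pow_eq_self_of_coprime hcop
        rw [← hc, pow_right_comm x]
        exact pow_mem (pow_mem hk _) _
      have hcop : t.Coprime (q ^ e) :=
        Nat.Coprime.pow_right _ (h.hq.coprime_iff_not_dvd.2 ht).symm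
      have hg := Int.gcd_eq_gcd_ab (t : ℤ) ((q ^ e : ℕ) : ℤ)
      rw [Int.gcd_natCast_natCast, hcop] at hg
      have e1 : x = (x ^ t) ^ Int.gcdA t (q ^ e : ℕ) * (x ^ q ^ e) ^ Int.gcdB t (q ^ e : ℕ) := by
        rw [← zpow_natCast x t, ← zpow_natCast x (q ^ e), ← zpow_mul, ← zpow_mul, ← zpow_add, ← hg]
        simp
      rw [e1]
      exact mul_mem (Subgroup.mem_sup_left (zpow_mem hxt _))
        (Subgroup.mem_sup_right (zpow_mem hxe _))
    have hgen : N1 ⊔ A = ⊤ := by
      refine eq_top_iff.2 (hD ▸ sSup_le fun E hE => ?_)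
      obtain ⟨g, -, rfl⟩ := h.exists_cj_member hA hE
      rintro _ ⟨a, ha, rfl⟩
      have e : (MulAut.conj g).toMonoidHom a = ⁅g, a⁆ * a := by simp [commutatorElement_def]
      rw [e]
      exact mul_mem (Subgroup.mem_sup_left (Subgroup.mem_sup_left
        (Subgroup.commutator_mem_commutator (Subgroup.mem_top g) (Subgroup.mem_top a))))
        (Subgroup.mem_sup_right ha)
    have hNP : N ≤ P' := by
      have htop : R.map (QuotientGroup.mk' P') ⊔ A.map (QuotientGroup.mk' P') = ⊤ := by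
        rw [← Subgroup.map_sup, eq_top_iff,
          ← Subgroup.map_top_of_surjective _ (QuotientGroup.mk'_surjective P'), ← hgen]
        refine (Subgroup.map_mono (sup_le_sup_right hN1le A)).trans ?_
        rw [sup_assoc, Subgroup.map_sup, QuotientGroup.map_mk'_self, bot_sup_eq]
      refine ((Subgroup.map_eq_bot_iff _).1 ?_).trans (QuotientGroup.ker_mk' P').le
      rw [hN, Subgroup.map_commutator,
        Subgroup.map_top_of_surjective _ (QuotientGroup.mk'_surjective P'),
        Subgroup.commutator_eq_bot_iff_le_centralizer, ← htop]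
      have hRc : ∀ x ∈ R.map (QuotientGroup.mk' P'), ∀ y : G ⧸ P', x * y = y * x := by
        rintro _ ⟨r, hr, rfl⟩ y
        obtain ⟨y, rfl⟩ := QuotientGroup.mk'_surjective P' y
        rw [← map_mul, ← map_mul, Subgroup.mem_center_iff.1 (hRcen hr) y]
      refine sup_le (fun x hx => mem_centralizer_of_commute fun y _ => (hRc x hx y).symm) ?_
      intro x hx
      refine Subgroup.le_centralizer_iff.1 (sup_le (fun z hz =>
        mem_centralizer_of_commute fun y _ => (hRc z hz y).symm) ?_) hx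
      rintro _ ⟨a, ha, rfl⟩
      refine mem_centralizer_of_commute ?_
      rintro _ ⟨b, hb, rfl⟩
      obtain ⟨a₀, hAa, -, -⟩ := h.exists_gen hA
      rw [hAa] at ha hb
      obtain ⟨i, rfl⟩ := Subgroup.mem_zpowers_iff.1 ha
      obtain ⟨k, rfl⟩ := Subgroup.mem_zpowers_iff.1 hb
      rw [← map_mul, ← map_mul, ← zpow_add, ← zpow_add, add_comm]
    exact (P.2.map N1.subtype).to_le hNP

variable {G : Type u} [Group G] {p q : ℕ} {D : Set (Subgroup G)}

namespace Geo

theorem str [Finite G] (h : Geo p q D) {K : Subgroup G} (hK : mgen D K = K)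
    (hodd : Odd (Nat.card K)) : IsPGroup q ↥(⁅K, K⁆ : Subgroup G) := by
  have h1 := (str_top _ K p q (subD D K) rfl (h.sub K) (sSup_subD hK) hodd).map K.subtype
  rwa [Subgroup.map_commutator, ← MonoidHom.range_eq_map, K.range_subtype] at h1

theorem le_normalizer_der (K : Subgroup G) :
    K ≤ Subgroup.normalizer (⁅K, K⁆ : Subgroup G) := fun g hg =>
  cj_eq_self_iff.1 (by rw [cj_commutator, cj_eq_self_of_mem hg])

theorem eq_der_sup [Finite G] (h : Geo p q D) {K A : Subgroup G} (hK : mgen D K = K) (hA : A ∈ D)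
    (hAK : A ≤ K) : ⁅K, K⁆ ⊔ A = K := by
  refine le_antisymm (sup_le (comm_le_self K) hAK) ?_
  conv_lhs => rw [← hK]
  refine mgen_le_iff.2 fun E hE hEK => ?_
  obtain ⟨g, hg, rfl⟩ := h.exists_cj_member hA hE
  rintro _ ⟨a, ha, rfl⟩
  have e : (MulAut.conj g).toMonoidHom a = ⁅g, a⁆ * a := by simp [commutatorElement_def]
  rw [e]
  exact mul_mem (Subgroup.mem_sup_left
    (Subgroup.commutator_mem_commutator (sup_le hAK hEK hg) (hAK ha))) (Subgroup.mem_sup_right ha)

variable [Finite G] {K A : Subgroup G}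

theorem exists_cj_in (h : Geo p q D) (hK : mgen D K = K) (hodd : Odd (Nat.card K)) (hA : A ∈ D)
    (hAK : A ≤ K) {E : Subgroup G} (hE : E ∈ D) (hEK : E ≤ K) :
    ∃ n ∈ ⁅K, K⁆, E = cj n A :=
  exists_cj_eq h.hp (hAK.trans (le_normalizer_der K)) (h.card A hA) (h.card E hE)
    (h.not_dvd_card (h.str hK hodd)) ((h.eq_der_sup hK hA hAK).symm ▸ hEK)

theorem cj_le_of_mem (hAK : A ≤ K) {n : G} (hn : n ∈ K) : cj n A ≤ K := by
  rw [← cj_eq_self_of_mem hn]; exact cj_mono hAK

theorem mem_of_cj_le (h : Geo p q D) (hK : mgen D K = K) (hodd : Odd (Nat.card K)) (hA : A ∈ D)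
    {K0 : Subgroup G} (hK0 : mgen D K0 = K0) (hle : K0 ≤ K) (hA0 : A ≤ K0) {n : G}
    (hn : n ∈ ⁅K, K⁆) (hc : cj n A ≤ K0) :
    n ∈ ⁅K0, K0⁆ ⊔ (⁅K, K⁆ ⊓ Subgroup.centralizer (A : Set G)) := by
  obtain ⟨j, hj, e⟩ :=
    h.exists_cj_in hK0 (hodd.of_dvd_nat (Subgroup.card_dvd_of_le hle)) hA hA0 (h.inv A hA n) hc
  have hjK : j ∈ ⁅K, K⁆ := Subgroup.commutator_mono hle hle hj
  have hmem : j⁻¹ * n ∈ ⁅K, K⁆ := mul_mem (inv_mem hjK) hn
  have h1 : j⁻¹ * n ∈ Subgroup.centralizer (A : Set G) :=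
    h.commute_of_normalizes hA (h.str hK hodd) ((hA0.trans hle).trans (le_normalizer_der K)) hmem
      (by rw [cj_mul, e, cj_inv_cj])
  rw [← mul_inv_cancel_left j n]
  exact mul_mem (Subgroup.mem_sup_left hj) (Subgroup.mem_sup_right ⟨hmem, h1⟩)

theorem le_of_der_le (h : Geo p q D) (hK : mgen D K = K) (hodd : Odd (Nat.card K)) (hA : A ∈ D)
    (hAK : A ≤ K) {K0 : Subgroup G} (hA0 : A ≤ K0)
    (hle : ⁅K, K⁆ ≤ K0 ⊔ (⁅K, K⁆ ⊓ Subgroup.centralizer (A : Set G)))
    (hC : ⁅K, K⁆ ⊓ Subgroup.centralizer (A : Set G) ≤ Subgroup.normalizer (K0 : Set G)) :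
    K ≤ K0 := by
  conv_lhs => rw [← hK]
  refine mgen_le_iff.2 fun E hE hEK => ?_
  obtain ⟨n, hn, rfl⟩ := h.exists_cj_in hK hodd hA hAK hE hEK
  obtain ⟨k, hk, z, hz, rfl⟩ := mem_sup_decomp hC (hle hn)
  rw [cj_mul, cj_eq_self_of_commute fun a ha => (Subgroup.mem_centralizer_iff.1 hz.2 a ha).symm]
  exact cj_le_of_mem hA0 hk

theorem card_members_dvd (h : Geo p q D) (hK : mgen D K = K) (hodd : Odd (Nat.card K))
    (hA : A ∈ D) (hAK : A ≤ K) :
    Nat.card {E : Subgroup G // E ∈ D ∧ E ≤ K} ∣ Nat.card (⁅K, K⁆ : Subgroup G) := by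
  have e : {E : Subgroup G // E ∈ D ∧ E ≤ K} ≃
      {E : Subgroup G // ∃ k ∈ ⁅K, K⁆, E = cj k A} :=
    Equiv.subtypeEquivRight fun E => ⟨fun hE => h.exists_cj_in hK hodd hA hAK hE.1 hE.2,
      fun ⟨k, hk, hkE⟩ => hkE ▸ ⟨h.inv A hA k, cj_le_of_mem hAK (comm_le_self K hk)⟩⟩
  rw [Nat.card_congr e]
  exact card_orbit_dvd _ _

theorem der_ne_bot_of_ne (h : Geo p q D) (hK : mgen D K = K) (hA : A ∈ D) (hAK : A ≤ K)
    (hne : K ≠ A) : ⁅K, K⁆ ≠ ⊥ := fun e => hne (by
  rw [← h.eq_der_sup hK hA hAK, e, bot_sup_eq])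

/-- A subgroup absorbing all commutators with a generator of `A` is everything. -/
theorem eq_of_comm_mem (h : Geo p q D) (hK : mgen D K = K) (hodd : Odd (Nat.card K)) (hA : A ∈ D)
    (hAK : A ≤ K) {S : Subgroup G} {a : G} (hAa : A = Subgroup.zpowers a) (hS : S ≤ ⁅K, K⁆)
    (haS : a ∈ Subgroup.normalizer (S : Set G))
    (hcom : ∀ n ∈ ⁅K, K⁆, n⁻¹ * (a * n * a⁻¹) ∈ S) : S = ⁅K, K⁆ := by
  refine le_antisymm hS ?_
  have hAS : A ≤ Subgroup.normalizer (S : Set G) := hAa ▸ Subgroup.zpowers_le.2 haS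
  have hle : K ≤ S ⊔ A := by
    conv_lhs => rw [← hK]
    refine mgen_le_iff.2 fun E hE hEK => ?_
    obtain ⟨n, hn, rfl⟩ := h.exists_cj_in hK hodd hA hAK hE hEK
    rw [cj, hAa, MonoidHom.map_zpowers, Subgroup.zpowers_le]
    have e : (MulAut.conj n).toMonoidHom a = (n⁻¹⁻¹ * (a * n⁻¹ * a⁻¹)) * a := by
      simp [mul_assoc]
    rw [e]
    exact mul_mem (Subgroup.mem_sup_left (hcom _ (inv_mem hn)))
      (Subgroup.mem_sup_right (hAa ▸ Subgroup.mem_zpowers a))
  exact (le_inf le_rfl ((comm_le_self K).trans hle)).trans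
    (inf_sup_eq (h.inf_member hA (h.str hK hodd)) hS hAS).le

theorem cK_eq (h2 : Alt2 D) (hK : mgen D K = K) (hodd : Odd (Nat.card K)) (hA : A ∈ D)
    (hAK : A ≤ K) : cK K = ⁅K, K⁆ ⊓ Subgroup.centralizer (A : Set G) :=
  le_antisymm (inf_le_inf le_rfl (Subgroup.centralizer_le (SetLike.coe_subset_coe.2 hAK)))
    (le_inf inf_le_left (h2 K hK hodd A hA hAK).2)

theorem cK_mono (h2 : Alt2 D) {K0 : Subgroup G} (hK : mgen D K = K) (hodd : Odd (Nat.card K))
    (hA : A ∈ D) (hA0 : A ≤ K0) (hle : K0 ≤ K) : cK K0 ≤ cK K := by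
  rw [cK_eq h2 hK hodd hA (hA0.trans hle)]
  exact inf_le_inf (Subgroup.commutator_mono hle hle)
    (Subgroup.centralizer_le (SetLike.coe_subset_coe.2 hA0))

end Geo

/-- A central extension of an odd group generated by members is odd. -/
theorem odd_of_central [Finite G] (h : Geo p q D) {Y : Subgroup G} [Y.Normal]
    (hY : Y ≤ Subgroup.center G) {K : Subgroup G} (hK : mgen D K = K)
    (hodd : Odd (Nat.card (K.map (QuotientGroup.mk' Y)))) : Odd (Nat.card K) := by
  let Z := Subgroup.center K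
  have hle : Y.subgroupOf K ≤ Z := fun x hx =>
    Subgroup.mem_center_iff.2 fun y => Subtype.ext (Subgroup.mem_center_iff.1 (hY hx) y)
  have hidx : Odd Z.index := by
    refine hodd.of_dvd_nat ((Subgroup.index_dvd_of_le hle).trans ?_)
    have e : ((QuotientGroup.mk' Y).comp K.subtype).ker = Y.subgroupOf K := by
      rw [← MonoidHom.comap_ker, QuotientGroup.ker_mk']; rfl
    rw [← e, Subgroup.index_ker, MonoidHom.range_comp, K.range_subtype]
  have : Z.FiniteIndex := inferInstance
  set f := MonoidHom.transferCenterPow K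
  let T : Subgroup K :=
    { carrier := {x | f x ^ p = 1}
      one_mem' := by simp
      mul_mem' := fun {x y} hx hy => by
        show f (x * y) ^ p = 1
        have hc : Commute (f x) (f y) :=
          Subtype.ext (Subgroup.mem_center_iff.1 (f y).2 (f x))
        rw [map_mul, hc.mul_pow, hx, hy, one_mul]
      inv_mem' := fun {x} hx => by
        show f x⁻¹ ^ p = 1
        rw [map_inv, inv_pow, hx, inv_one] }
  have hT : T = ⊤ := by
    rw [eq_top_iff, ← sSup_subD hK]
    refine sSup_le fun A hA x hx => ?_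
    show f x ^ p = 1
    rw [← map_pow]
    have hxp := pow_card_eq_one' (G := A) (x := ⟨x, hx⟩)
    rw [← Subgroup.card_map_of_injective K.subtype_injective, h.card _ hA] at hxp
    rw [show x ^ p = 1 from congrArg Subtype.val hxp, map_one]
  rw [← Z.card_mul_index]
  refine Odd.mul ?_ hidx
  by_contra hev
  rw [Nat.not_odd_iff_even] at hev
  obtain ⟨z, hz⟩ := exists_prime_orderOf_dvd_card' 2 hev.two_dvd
  have hz2 : z ^ 2 = 1 := hz ▸ pow_orderOf_eq_one z
  have hfz : f (z : K) = z := Subtype.ext (by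
    obtain ⟨k, hk⟩ := hidx
    rw [MonoidHom.transferCenterPow_apply, hk]
    have := congrArg Subtype.val (show z ^ (2 * k + 1) = z by
      rw [pow_succ, pow_mul, hz2, one_pow, one_mul])
    simpa using this)
  have hzp : f (z : K) ^ p = 1 := (hT ▸ Subgroup.mem_top (z : K) : (z : K) ∈ T)
  rw [hfz, ← orderOf_dvd_iff_pow_eq_one, hz] at hzp
  exact h.hp2 ((Nat.prime_dvd_prime_iff_eq Nat.prime_two h.hp).1 hzp).symm

/-- An extension by an odd group of an odd group is odd. -/
theorem odd_of_odd_kernel [Finite G] {Y : Subgroup G} [Y.Normal] (hY : Odd (Nat.card Y))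
    {K : Subgroup G} (hodd : Odd (Nat.card (K.map (QuotientGroup.mk' Y)))) :
    Odd (Nat.card K) := by
  have e : ((QuotientGroup.mk' Y).comp K.subtype).ker = Y.subgroupOf K := by
    rw [← MonoidHom.comap_ker, QuotientGroup.ker_mk']; rfl
  rw [← (Y.subgroupOf K).card_mul_index]
  refine Odd.mul (hY.of_dvd_nat ?_) ?_
  · rw [← Subgroup.card_map_of_injective K.subtype_injective, Subgroup.subgroupOf_map_subtype]
    exact Subgroup.card_dvd_of_le inf_le_left
  · rw [← e, Subgroup.index_ker, MonoidHom.range_comp, K.range_subtype]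
    exact hodd

theorem Alt2.img [Finite G] {H : Type u} [Group H] [Finite H] (h2 : Alt2 D) (h : Geo p q D)
    {f : G →* H} (hf : Function.Surjective f)
    (hY : ∀ K : Subgroup G, mgen D K = K → Odd (Nat.card (K.map f)) → Odd (Nat.card K)) :
    Alt2 (imgD f D) := by
  intro K hK hodd B hB hBK
  obtain ⟨hB0, A, hA, rfl⟩ := hB
  set K0 := mgen D (K.comap f) with hK0
  have hK0m : mgen D K0 = K0 := mgen_mgen _ _
  have hmap : K0.map f = K := by
    refine le_antisymm ((Subgroup.map_mono (mgen_le _ _)).trans (Subgroup.map_comap_le _ _)) ?_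
    conv_lhs => rw [← hK]
    refine mgen_le_iff.2 fun B hB hBK => ?_
    obtain ⟨-, E, hE, rfl⟩ := hB
    exact Subgroup.map_mono (le_mgen hE (Subgroup.map_le_iff_le_comap.1 hBK))
  have hodd0 : Odd (Nat.card K0) := hY K0 hK0m (by rw [hmap]; exact hodd)
  have hA0 : A ≤ K0 := le_mgen hA (Subgroup.map_le_iff_le_comap.1 hBK)
  have h1 := h2 K0 hK0m hodd0 A hA hA0
  constructor
  · rw [← hmap, ← Subgroup.map_commutator, ← Subgroup.map_commutator]
    rintro _ ⟨x, hx, rfl⟩
    exact mem_centralizer_map f (h1.1 hx)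
  · rw [← hmap, ← Subgroup.map_commutator]
    rintro _ ⟨⟨r, hr, rfl⟩, hc⟩
    obtain ⟨a, hAa, -, hap⟩ := h.exists_gen hA
    have haA : a ∈ A := hAa ▸ Subgroup.mem_zpowers a
    have haN := (hA0.trans (Geo.le_normalizer_der K0)) haA
    have hM : ∀ m ∈ ⁅K0, K0⁆ ⊓ f.ker, a * m * a⁻¹ ∈ ⁅K0, K0⁆ ⊓ f.ker := fun m hm =>
      Subgroup.mem_inf.2 ⟨conj_mem_of_mem_normalizer haN hm.1,
        (MonoidHom.normal_ker f).conj_mem m hm.2 a⟩
    have hcom := Subgroup.mem_centralizer_iff.1 hc (f a) (Subgroup.mem_map_of_mem f haA)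
    obtain ⟨m, hm, hm'⟩ := exists_fixed_lift h.hp hap (M := ⁅K0, K0⁆ ⊓ f.ker)
      (h.not_dvd_card ((h.str hK0m hodd0).to_le inf_le_left)) (mem_normalizer_of_conj_mem hM)
      (r := r) (Subgroup.mem_inf.2 ⟨mul_mem (inv_mem hr) (conj_mem_of_mem_normalizer haN hr), by
        rw [MonoidHom.mem_ker, map_mul, map_mul, map_mul, map_inv, map_inv, hcom,
          mul_inv_cancel_right, inv_mul_cancel]⟩)
    have hrm : r * m ∈ Subgroup.centralizer (K0 : Set G) := h1.2 ⟨mul_mem hr hm.1,
      mem_centralizer_of_commute fun k hk => by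
        rw [hAa] at hk
        obtain ⟨i, rfl⟩ := Subgroup.mem_zpowers_iff.1 hk
        exact (Commute.zpow_left (show Commute a (r * m) from hm') i).eq⟩
    have := mem_centralizer_map f hrm
    rwa [map_mul, hm.2, mul_one] at this

end Cfsg.Agent.Lib.PairOdd
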