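import Cfsg.Agent.Lib.PairOdd.Geo

/-!
# Subgroups and quotients of a line geometry
-/

set_option autoImplicit false

namespace Cfsg.Agent.Lib.PairOdd

variable {G : Type*} [Group G]

theorem map_cj {H : Type*} [Group H] (f : G →* H) (g : G) (A : Subgroup G) :
    (cj g A).map f = cj (f g) (A.map f) := by
  simp only [cj, Subgroup.map_map]
  congr 1
  ext x
  simp

theorem mem_centralizer_map {H : Type*} [Group H] (f : G →* H) {A : Subgroup G} {x : G}
    (h : x ∈ Subgroup.centralizer (A : Set G)) :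
    f x ∈ Subgroup.centralizer (A.map f : Set H) := by
  refine mem_centralizer_of_commute ?_
  rintro _ ⟨a, ha, rfl⟩
  rw [← map_mul, ← map_mul, Subgroup.mem_centralizer_iff.1 h a ha]

theorem mem_centralizer_of_map {H : Type*} [Group H] {f : G →* H} (hf : Function.Injective f)
    {A : Subgroup G} {x : G} (h : f x ∈ Subgroup.centralizer (A.map f : Set H)) :
    x ∈ Subgroup.centralizer (A : Set G) :=
  mem_centralizer_of_commute fun a ha => hf (by
    rw [map_mul, map_mul]; exact Subgroup.mem_centralizer_iff.1 h _ ⟨a, ha, rfl⟩)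

/-! ### Subgroups -/

/-- The members contained in a subgroup, as subgroups of it. -/
def subD (D : Set (Subgroup G)) (K : Subgroup G) : Set (Subgroup K) :=
  {A | A.map K.subtype ∈ D}

theorem map_subtype_subgroupOf {A K : Subgroup G} (h : A ≤ K) :
    (A.subgroupOf K).map K.subtype = A := by
  rw [Subgroup.subgroupOf_map_subtype, inf_eq_left.2 h]

theorem map_mgen_subD (D : Set (Subgroup G)) {K : Subgroup G} (K0 : Subgroup K) :
    (mgen (subD D K) K0).map K.subtype = mgen D (K0.map K.subtype) := by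
  refine le_antisymm (Subgroup.map_le_iff_le_comap.2 (mgen_le_iff.2 fun A hA hAK =>
    Subgroup.map_le_iff_le_comap.1 (le_mgen hA (Subgroup.map_mono hAK))))
    (mgen_le_iff.2 fun A hA hAK => ?_)
  have hAK' : A ≤ K := hAK.trans (Subgroup.map_subtype_le _)
  rw [← map_subtype_subgroupOf hAK'] at hAK hA ⊢
  exact Subgroup.map_mono
    (le_mgen hA ((Subgroup.map_le_map_iff_of_injective K.subtype_injective).1 hAK))

theorem sSup_subD {D : Set (Subgroup G)} {K : Subgroup G} (hK : mgen D K = K) :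
    sSup (subD D K) = ⊤ := by
  have h1 : mgen (subD D K) ⊤ = sSup (subD D K) := by simp [mgen]
  rw [← h1]
  refine Subgroup.map_injective K.subtype_injective ?_
  rw [map_mgen_subD, ← MonoidHom.range_eq_map, K.range_subtype, hK]

variable {p q : ℕ} {D : Set (Subgroup G)}

theorem Geo.sub [Finite G] (h : Geo p q D) (K : Subgroup G) : Geo p q (subD D K) where
  hp := h.hp
  hp2 := h.hp2
  hq := h.hq
  hq2 := h.hq2
  hpq := h.hpq
  card A hA := by rw [← h.card _ hA, Subgroup.card_map_of_injective K.subtype_injective]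
  inv A hA g := by
    show (cj g A).map K.subtype ∈ D
    rw [map_cj]; exact h.inv _ hA _
  nonnorm A hA B hB hne hle :=
    h.nonnorm _ hA _ hB (fun e => hne (Subgroup.map_injective K.subtype_injective e))
      ((Subgroup.map_mono hle).trans (Subgroup.le_normalizer_map _))
  derQ A hA B hB hne := by
    have hQ := h.derQ _ hA _ hB fun e => hne (Subgroup.map_injective K.subtype_injective e)
    rw [← Subgroup.map_sup, ← Subgroup.map_commutator] at hQ
    exact hQ.of_equiv (Subgroup.equivMapOfInjective _ _ K.subtype_injective).symm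
  gen2 A hA B hB hne E hE E' hE' hle hle' hne' := by
    refine Subgroup.map_injective K.subtype_injective ?_
    rw [Subgroup.map_sup, Subgroup.map_sup]
    exact h.gen2 _ hA _ hB (fun e => hne (Subgroup.map_injective K.subtype_injective e)) _ hE _ hE'
      ((Subgroup.map_mono hle).trans_eq (Subgroup.map_sup _ _ _))
      ((Subgroup.map_mono hle').trans_eq (Subgroup.map_sup _ _ _))
      (fun e => hne' (Subgroup.map_injective K.subtype_injective e))

theorem Alt1.sub (h : Alt1 D) (K : Subgroup G) : Alt1 (subD D K) := by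
  intro A hA B hB hne
  rw [eq_bot_iff]
  intro x hx
  have h1 := h _ hA _ hB fun e => hne (Subgroup.map_injective K.subtype_injective e)
  have : K.subtype x ∈ cK (A.map K.subtype ⊔ B.map K.subtype) := by
    rw [← Subgroup.map_sup]
    exact ⟨by rw [← Subgroup.map_commutator]; exact Subgroup.mem_map_of_mem _ hx.1,
      mem_centralizer_map _ hx.2⟩
  rw [h1, Subgroup.mem_bot] at this
  exact Subgroup.mem_bot.2 (K.subtype_injective (this.trans (map_one _).symm))

theorem Alt2.sub (h : Alt2 D) (K : Subgroup G) : Alt2 (subD D K) := by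
  intro K0 hK0 hodd A hA hle
  have h1 := h (K0.map K.subtype) (by rw [← map_mgen_subD, hK0])
    (by rwa [Subgroup.card_map_of_injective K.subtype_injective]) _ hA (Subgroup.map_mono hle)
  rw [← Subgroup.map_commutator, ← Subgroup.map_commutator] at h1
  refine ⟨fun x hx => mem_centralizer_of_map K.subtype_injective
    (h1.1 (Subgroup.mem_map_of_mem _ hx)), fun x hx => ?_⟩
  exact mem_centralizer_of_map K.subtype_injective
    (h1.2 ⟨Subgroup.mem_map_of_mem _ hx.1, mem_centralizer_map _ hx.2⟩)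

/-! ### Quotients -/

/-- The nontrivial images of the members. -/
def imgD {H : Type*} [Group H] (f : G →* H) (D : Set (Subgroup G)) : Set (Subgroup H) :=
  {B | B ≠ ⊥ ∧ ∃ A ∈ D, B = A.map f}

theorem sSup_imgD {H : Type*} [Group H] {f : G →* H} (hf : Function.Surjective f)
    (hD : sSup D = ⊤) : sSup (imgD f D) = ⊤ := by
  rw [eq_top_iff, ← Subgroup.map_top_of_surjective f hf, ← hD, Subgroup.map_le_iff_le_comap]
  refine sSup_le fun A hA => Subgroup.map_le_iff_le_comap.1 ?_
  rcases eq_or_ne (A.map f) ⊥ with e | e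
  · rw [e]; exact bot_le
  · exact le_sSup ⟨e, A, hA, rfl⟩

variable {H : Type*} [Group H]

theorem Geo.img [Finite G] [Finite H] (h : Geo p q D) {f : G →* H} (hf : Function.Surjective f) :
    Geo p q (imgD f D) where
  hp := h.hp
  hp2 := h.hp2
  hq := h.hq
  hq2 := h.hq2
  hpq := h.hpq
  card := by
    rintro _ ⟨hne, A, hA, rfl⟩
    exact ((Nat.dvd_prime h.hp).1 (h.card A hA ▸ Subgroup.card_map_dvd A f)).resolve_left
      fun e => hne (Subgroup.card_eq_one.1 e)
  inv := by
    rintro _ ⟨hne, A, hA, rfl⟩ g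
    obtain ⟨g, rfl⟩ := hf g
    refine ⟨?_, cj g A, h.inv A hA g, (map_cj f g A).symm⟩
    intro e
    exact hne (Subgroup.card_eq_one.1 (by rw [← card_cj (f g), e, Subgroup.card_bot]))
  nonnorm := by
    rintro _ ⟨hne, A, hA, rfl⟩ _ ⟨hne', B, hB, rfl⟩ hAB hle
    have hAB' : A ≠ B := fun e => hAB (e ▸ rfl)
    obtain ⟨a, hAa, -, -⟩ := h.exists_gen hA
    have haA : a ∈ A := hAa ▸ Subgroup.mem_zpowers a
    have hBne : B ≠ cj a B := fun e => h.nonnorm A hA B hB hAB'
      (hAa ▸ Subgroup.zpowers_le.2 (cj_eq_self_iff.1 e.symm))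
    have hcle : cj a B ≤ A ⊔ B := by
      rw [← cj_eq_self_of_mem (Subgroup.mem_sup_left haA : a ∈ A ⊔ B)]
      exact cj_mono le_sup_right
    have h1 := congrArg (Subgroup.map f)
      (h.gen2 A hA B hB hAB' B hB _ (h.inv B hB a) le_sup_right hcle hBne)
    rw [Subgroup.map_sup, Subgroup.map_sup, map_cj,
      cj_eq_self_iff.2 (hle (Subgroup.mem_map_of_mem f haA)), sup_idem] at h1
    have hle1 : A.map f ≤ B.map f := h1 ▸ le_sup_left
    refine hAB (Subgroup.eq_of_le_of_card_ge hle1 ?_)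
    exact (Nat.le_of_dvd h.hp.pos (h.card B hB ▸ Subgroup.card_map_dvd B f)).trans
      (((Nat.dvd_prime h.hp).1 (h.card A hA ▸ Subgroup.card_map_dvd A f)).resolve_left
        fun e => hne (Subgroup.card_eq_one.1 e)).ge
  derQ := by
    rintro _ ⟨-, A, hA, rfl⟩ _ ⟨-, B, hB, rfl⟩ hAB
    rw [← Subgroup.map_sup, ← Subgroup.map_commutator]
    exact (h.derQ A hA B hB fun e => hAB (e ▸ rfl)).map f
  gen2 := by
    rintro _ ⟨hne, A, hA, rfl⟩ _ ⟨-, B, hB, rfl⟩ hAB E ⟨hE0, E0, hE, rfl⟩ E' ⟨hE'0, E1, hE', rfl⟩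
      hle hle' hne'
    have hAB' : A ≠ B := fun e => hAB (e ▸ rfl)
    have hQ := (h.derQ A hA B hB hAB').map f
    have hcard : ∀ C ∈ D, C.map f ≠ ⊥ → Nat.card (C.map f) = p := fun C hC hC0 =>
      ((Nat.dvd_prime h.hp).1 (h.card C hC ▸ Subgroup.card_map_dvd C f)).resolve_left
        fun e => hC0 (Subgroup.card_eq_one.1 e)
    have lift : ∀ C ∈ D, C.map f ≠ ⊥ → C.map f ≤ A.map f ⊔ B.map f →
        ∃ C' ∈ D, C' ≤ A ⊔ B ∧ C.map f = C'.map f := by
      intro C hC hC0 hCle
      rw [← Subgroup.map_sup, h.line_eq' hA hB hAB', Subgroup.map_sup] at hCle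
      have hnd : ¬ p ∣ Nat.card (⁅A ⊔ B, A ⊔ B⁆.map f : Subgroup H) := fun hd =>
        h.not_dvd_card (h.derQ A hA B hB hAB') (hd.trans (Subgroup.card_map_dvd _ f))
      obtain ⟨r, hr, e⟩ := exists_cj_eq h.hp
        ((Subgroup.map_mono (le_sup_left.trans (Geo.sup_le_normalizer A B))).trans
          (Subgroup.le_normalizer_map f))
        (hcard A hA hne) (hcard C hC hC0) hnd hCle
      obtain ⟨r, hr, rfl⟩ := hr
      refine ⟨cj r A, h.inv A hA r, ?_, e.trans (map_cj f r A).symm⟩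
      rw [← cj_eq_self_of_mem (comm_le_self _ hr : r ∈ A ⊔ B)]
      exact cj_mono le_sup_left
    obtain ⟨F0, hF0, hF0le, e0⟩ := lift E0 hE hE0 hle
    obtain ⟨F1, hF1, hF1le, e1⟩ := lift E1 hE' hE'0 hle'
    rw [e0, e1, ← Subgroup.map_sup, ← Subgroup.map_sup,
      h.gen2 A hA B hB hAB' F0 hF0 F1 hF1 hF0le hF1le (fun e => hne' (by rw [e0, e1, e]))]

theorem Alt1.img [Finite G] [Finite H] (h1 : Alt1 D) (h : Geo p q D) (f : G →* H) :
    Alt1 (imgD f D) := by
  rintro _ ⟨hne, A, hA, rfl⟩ _ ⟨-, B, hB, rfl⟩ hAB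
  have hAB' : A ≠ B := fun e => hAB (e ▸ rfl)
  rw [eq_bot_iff]
  rintro x ⟨hxQ, hxC⟩
  rw [← Subgroup.map_sup, ← Subgroup.map_commutator] at hxQ
  obtain ⟨r, hr, rfl⟩ := hxQ
  set Q : Subgroup G := ⁅A ⊔ B, A ⊔ B⁆ with hQdef
  have hQ := h.derQ A hA B hB hAB'
  obtain ⟨a, hAa, ha1, hap⟩ := h.exists_gen hA
  have haA : a ∈ A := hAa ▸ Subgroup.mem_zpowers a
  have haQ := le_sup_left.trans (Geo.sup_le_normalizer A B) haA
  have hM : ∀ m ∈ Q ⊓ f.ker, a * m * a⁻¹ ∈ Q ⊓ f.ker := fun m hm =>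
    Subgroup.mem_inf.2 ⟨conj_mem_of_mem_normalizer haQ hm.1,
      MonoidHom.normal_ker f |>.conj_mem m hm.2 a⟩
  have hfa : f a ∈ (A.map f : Set H) := Subgroup.mem_map_of_mem f haA
  have hcom := Subgroup.mem_centralizer_iff.1 hxC (f a) (Subgroup.mem_sup_left hfa)
  obtain ⟨m, hm, hc⟩ := exists_fixed_lift h.hp hap (M := Q ⊓ f.ker)
    (h.not_dvd_card (hQ.to_le inf_le_left)) (mem_normalizer_of_conj_mem hM) (r := r)
    (Subgroup.mem_inf.2 ⟨mul_mem (inv_mem hr) (conj_mem_of_mem_normalizer haQ hr), by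
      rw [MonoidHom.mem_ker, map_mul, map_mul, map_mul, map_inv, map_inv, hcom,
        mul_inv_cancel_right, inv_mul_cancel]⟩)
  have hrm : r * m ∈ cK (A ⊔ B) := by
    rw [h.cK_line hA hB hAB']
    refine ⟨mul_mem hr hm.1, mem_centralizer_of_commute fun k hk => ?_⟩
    rw [hAa] at hk
    obtain ⟨i, rfl⟩ := Subgroup.mem_zpowers_iff.1 hk
    exact (Commute.zpow_left (show Commute a (r * m) from hc) i).eq
  rw [h1 A hA B hB hAB', Subgroup.mem_bot] at hrm
  have : f r = 1 := by
    rw [← mul_inv_cancel_right r m, hrm, one_mul, map_inv, hm.2, inv_one]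
  exact Subgroup.mem_bot.2 this

end Cfsg.Agent.Lib.PairOdd
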